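import Groth.Prelude.Def_RedSub
import Groth.Prelude.Def_LieS
import Groth.Agent.S5015
import Groth.Agent.S5018
import Groth.Agent.S1488
import Groth.Agent.S9370
import Groth.Agent.S9386
import Groth.Agent.OmegaUniv.Universal
import Groth.Agent.KFlatLib.Perfect.LocFree

/-!
# Invariant differentials of closed subgroups and of base changes
-/

universe u
set_option maxHeartbeats 1000000
set_option linter.style.haveILetI false
set_option autoImplicit false
open AlgebraicGeometry CategoryTheory CategoryTheory.Limits MonoidalCategory CartesianMonoidalCategory MonObj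

namespace Groth.Agent.ParLib

variable {S T : Scheme.{u}}

/-- Pulling back an epimorphism of differentials along compatible unit sections. -/
theorem exists_epi_of_units {A B : Scheme.{u}} (h : B ⟶ A) (eA : S ⟶ A) (eB : T ⟶ B) (g : T ⟶ S)
    (w : eB ≫ h = g ≫ eA) {M : A.Modules} {N : B.Modules}
    (c : (Scheme.Modules.pullback h).obj M ⟶ N) [Epi c] :
    ∃ φ : (Scheme.Modules.pullback g).obj ((Scheme.Modules.pullback eA).obj M) ⟶
      (Scheme.Modules.pullback eB).obj N, Epi φ := by
  have := (Scheme.Modules.pullbackPushforwardAdjunction eB).leftAdjoint_preservesColimits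
  refine ⟨((Scheme.Modules.pullbackComp g eA).app M).hom ≫
    ((Scheme.Modules.pullbackCongr w).app M).inv ≫ ((Scheme.Modules.pullbackComp eB h).app M).inv ≫
      (Scheme.Modules.pullback eB).map c, ?_⟩
  infer_instance

/-- The invariant differentials of a closed subgroup are a quotient of those of the group. -/
theorem exists_epi_omega_of_closedImmersion {G P : Over S} [GrpObj G] [GrpObj P] (p : P ⟶ G) [IsMonHom p]
    [IsClosedImmersion p.left] [QuasiSeparated G.hom] : ∃ φ : LieS.omega G ⟶ LieS.omega P, Epi φ := by
  haveI : QuasiSeparated P.hom := by rw [← Over.w p]; infer_instance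
  obtain ⟨c, hc, -⟩ := S9370.result G.hom P.hom p.left (𝟙 S) (by rw [Category.comp_id, Over.w]) _ _
    (OmegaUniv.isUniversal_dOmega _) _ _ (OmegaUniv.isUniversal_dOmega _)
  have : Epi c := (S5015.result G.hom P.hom p.left (Over.w p) _ _ (OmegaUniv.isUniversal_dOmega _) _ _
    (OmegaUniv.isUniversal_dOmega _) c hc).mp inferInstance
  obtain ⟨φ, hφ⟩ := exists_epi_of_units p.left (η[G]).left (η[P]).left (𝟙 S)
    (((Over.comp_left _ _ _ _ _).symm.trans (congrArg (·.left) (IsMonHom.one_hom p))).trans (Category.id_comp _).symm) c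
  exact ⟨((Scheme.Modules.pullbackId S).app (LieS.omega G)).inv ≫ φ,
    @epi_comp _ _ _ _ _ _ inferInstance _ hφ⟩

/-- The invariant differentials of a base change are a quotient of the pulled back ones. -/
theorem exists_epi_omega_bc (g : T ⟶ S) (G : Over S) [GrpObj G] [QuasiSeparated G.hom] :
    ∃ φ : (Scheme.Modules.pullback g).obj (LieS.omega G) ⟶ LieS.omega (Red.bc g G), Epi φ := by
  haveI : QuasiSeparated (Red.bc g G).hom := inferInstanceAs (QuasiSeparated (pullback.snd G.hom g))
  have hsq : IsPullback (pullback.fst G.hom g) (Red.bc g G).hom G.hom g :=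
    IsPullback.of_hasPullback G.hom g
  obtain ⟨c, hc, -⟩ := S9370.result G.hom (Red.bc g G).hom (pullback.fst G.hom g) g hsq.w.symm _ _
    (OmegaUniv.isUniversal_dOmega _) _ _ (OmegaUniv.isUniversal_dOmega _)
  have := S9386.result G.hom g (pullback.fst G.hom g) (Red.bc g G).hom hsq _ _
    (OmegaUniv.isUniversal_dOmega _) _ _ (OmegaUniv.isUniversal_dOmega _) c hc
  refine exists_epi_of_units (pullback.fst G.hom g) (η[G]).left (η[Red.bc g G]).left g ?_ c
  rw [Functor.obj.η_def, Over.comp_left, Category.assoc]
  erw [pullback.lift_fst, ← Category.assoc]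
  congr 1
  simp

/-- Invariant differentials of a smooth group are finite locally free. -/
theorem isFinLocFree_omega (G : Over S) [GrpObj G] [Smooth G.hom] [QuasiSeparated G.hom] : FlatMod.IsFinLocFree (LieS.omega G) :=
  KFlatLib.isFinLocFree_pullback _ (S5018.result G.hom ((S1488.result _).1 inferInstance).2 _ _
    (OmegaUniv.isUniversal_dOmega _))

end Groth.Agent.ParLib
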