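import Groth.Agent.ParLib.QuotientFibre
import Groth.Agent.DescLib.QAffineDesc
import Groth.Agent.FlatMisc.SteinUC
import Groth.Agent.EtFound.Descent

import Mathlib.RingTheory.Flat.FaithfullyFlat.Descent

/-!
# Contractions after a flat base change
-/

universe u
set_option maxHeartbeats 1000000
set_option linter.style.haveILetI false
set_option autoImplicit false
open AlgebraicGeometry CategoryTheory CategoryTheory.Limits MonoidalCategory CartesianMonoidalCategory MonObj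

namespace Groth.Agent.ParLib

theorem bijective_of_isPushout {A B C D : CommRingCat.{u}} (φ : A ⟶ B) (h : A ⟶ C) (a : B ⟶ D) (ψ : C ⟶ D)
    (hp : IsPushout φ h a ψ) (hh : h.hom.FaithfullyFlat) (hψ : Function.Bijective ψ.hom) :
    Function.Bijective φ.hom := by
  letI : Algebra A B := φ.hom.toAlgebra
  letI : Algebra A C := h.hom.toAlgebra
  letI : Algebra B D := a.hom.toAlgebra
  letI : Algebra C D := ψ.hom.toAlgebra
  letI : Algebra A D := ((ψ.hom).comp h.hom).toAlgebra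
  haveI : IsScalarTower A C D := IsScalarTower.of_algebraMap_eq' rfl
  haveI : IsScalarTower A B D := IsScalarTower.of_algebraMap_eq' (congr($(hp.w.symm).hom))
  haveI : Algebra.IsPushout A C B D := (CommRingCat.isPushout_iff_isPushout (R := A) (R' := C) (S := B) (S' := D)).1 hp.flip
  haveI : Algebra.IsPushout A B C D := Algebra.IsPushout.symm inferInstance
  exact RingHom.FaithfullyFlat.codescendsAlong_bijective (R := A) (S := B) (R' := C) (S' := D) hh hψ

theorem exists_affineOpen_mem {X : Scheme.{u}} (x : X) (U : X.Opens) (h : x ∈ U) :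
    ∃ V : X.Opens, IsAffineOpen V ∧ x ∈ V ∧ V ≤ U := by
  obtain ⟨_, ⟨V, hV, rfl⟩, hx, hle⟩ := X.isBasis_affineOpens.exists_subset_of_mem_open (show x ∈ (U : Set X) from h) U.2
  exact ⟨V, hV, hx, hle⟩

section

variable {S T W P : Scheme.{u}} [IsAffine S] [IsAffine T] (p : T ⟶ S) [Flat p] (s : W ⟶ S)
  [QuasiCompact s] [QuasiSeparated s] {a : P ⟶ W} {b : P ⟶ T}

theorem isPushout_appTop (h : IsPullback a b s p) : IsPushout s.appTop p.appTop a.appTop b.appTop := by
  haveI : CompactSpace W := QuasiCompact.compactSpace_of_compactSpace s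
  haveI : QuasiSeparatedSpace W := quasiSeparatedSpace_of_quasiSeparated s
  have h' := DescLib.isPushout_appTop_of_flat p s
  haveI : IsIso (Scheme.Hom.appTop h.isoPullback.hom) := inferInstanceAs (IsIso (h.isoPullback.hom.app ⊤))
  refine h'.of_iso (Iso.refl _) (Iso.refl _) (Iso.refl _) (asIso h.isoPullback.hom.appTop) ?_ ?_ ?_ ?_
  · simp
  · simp
  · rw [asIso_hom, ← Scheme.Hom.comp_appTop, IsPullback.isoPullback_hom_fst, Iso.refl_hom, Category.id_comp]
  · rw [asIso_hom, ← Scheme.Hom.comp_appTop, IsPullback.isoPullback_hom_snd, Iso.refl_hom, Category.id_comp]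

theorem isIso_appTop_of_isPullback (h : IsPullback a b s p) (hs : IsIso s.appTop) : IsIso b.appTop :=
  (isPushout_appTop p s h).isIso_inr_of_isIso hs

theorem isIso_appTop_iff_of_isPullback [Surjective p] (h : IsPullback a b s p) :
    IsIso s.appTop ↔ IsIso b.appTop := by
  refine ⟨isIso_appTop_of_isPullback p s h, fun hb => ?_⟩
  exact (ConcreteCategory.isIso_iff_bijective _).2 (bijective_of_isPushout _ _ _ _ (isPushout_appTop p s h)
    ((Flat.flat_and_surjective_iff_faithfullyFlat_of_isAffine p).1 ⟨‹_›, ‹_›⟩)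
    ((ConcreteCategory.isIso_iff_bijective _).1 hb))

end

/-- An affine scheme mapping flatly onto a given compact open. -/
theorem exists_affine_cover {G X : Scheme.{u}} (q : G ⟶ X) [Surjective q] [Flat q] [LocallyOfFinitePresentation q]
    (V : X.Opens) (hV : IsCompact (V : Set X)) :
    ∃ (T : Scheme.{u}) (_ : IsAffine T) (j : T ⟶ G) (_ : Flat j),
      Set.range (j ≫ q).base = (V : Set X) ∧
      ∃ W : G.Opens, IsCompact (W : Set G) ∧ q.base '' (W : Set G) = (V : Set X) := by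
  classical
  have hq : IsOpenMap q.base := q.isOpenMap
  have hx : ∀ x : V, ∃ U : G.Opens, IsAffineOpen U ∧ U ≤ q ⁻¹ᵁ V ∧ x.1 ∈ q.base '' (U : Set G) := fun x => by
    obtain ⟨g, hg⟩ := q.surjective x.1
    obtain ⟨_, ⟨U, hU, rfl⟩, hgU, hle⟩ :=
      G.isBasis_affineOpens.exists_subset_of_mem_open (show g ∈ q ⁻¹ᵁ V by show q g ∈ V; rw [hg]; exact x.2)
        (q ⁻¹ᵁ V).2
    exact ⟨U, hU, hle, g, hgU, hg⟩
  choose U hU hle hmem using hx
  obtain ⟨t, ht⟩ := hV.elim_finite_subcover (fun x => q.base '' (U x : Set G)) (fun x => hq _ (U x).2)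
    (fun x hx => Set.mem_iUnion.2 ⟨⟨x, hx⟩, hmem ⟨x, hx⟩⟩)
  haveI : ∀ i : t, IsAffine (U i.1).toScheme := fun i => hU i.1
  refine ⟨∐ fun i : t => (U i.1).toScheme, inferInstance, Sigma.desc fun i : t => (U i.1).ι, inferInstance, ?_,
    ⨆ i : t, U i.1, ?_, ?_⟩
  · refine Set.Subset.antisymm ?_ fun x hx => ?_
    · rintro _ ⟨y, rfl⟩
      obtain ⟨⟨i, z⟩, rfl⟩ := (sigmaMk (fun i : t => (U i.1).toScheme)).surjective y
      rw [sigmaMk_mk]
      show ((Sigma.ι (fun i : t => (U i.1).toScheme) i ≫ Sigma.desc fun i : t => (U i.1).ι) ≫ q) z ∈ V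
      rw [Sigma.ι_desc]
      exact hle i.1 z.2
    · obtain ⟨i, hi, g, hg, rfl⟩ := Set.mem_iUnion₂.1 (ht hx)
      refine ⟨Sigma.ι (fun i : t => (U i.1).toScheme) ⟨i, hi⟩ ⟨g, hg⟩, ?_⟩
      erw [← Scheme.Hom.comp_apply, Sigma.ι_desc_assoc]
      rfl
  · rw [TopologicalSpace.Opens.coe_iSup]
    exact isCompact_iUnion fun i => (hU i.1).isCompact
  · rw [TopologicalSpace.Opens.coe_iSup, Set.image_iUnion]
    refine Set.Subset.antisymm (Set.iUnion_subset fun i => ?_) fun x hx => ?_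
    · rintro _ ⟨g, hg, rfl⟩
      exact hle i.1 hg
    · obtain ⟨i, hi, h⟩ := Set.mem_iUnion₂.1 (ht hx)
      exact Set.mem_iUnion.2 ⟨⟨i, hi⟩, h⟩

theorem hcov_of_lfp {G X : Scheme.{u}} (q : G ⟶ X) [Surjective q] [Flat q] [LocallyOfFinitePresentation q] :
    ∃ (Z : Scheme.{u}) (p : Z ⟶ X) (r : Z ⟶ G), r ≫ q = p ∧ Surjective p ∧ Flat p ∧
      ∀ V : X.Opens, IsAffineOpen V → ∃ W : Z.Opens, IsCompact (W : Set Z) ∧ p.base '' (W : Set Z) = (V : Set X) := by
  refine ⟨G, q, 𝟙 G, Category.id_comp q, ‹_›, ‹_›, fun V hV => ?_⟩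
  obtain ⟨-, -, -, -, -, hW⟩ := exists_affine_cover q V hV.isCompact
  exact hW

section Contraction

variable {k : Type u} [Field k] {G X X' Y : Scheme.{u}} {g : G ⟶ Spec (CommRingCat.of k)}
  {y : Y ⟶ Spec (CommRingCat.of k)} {f : X ⟶ X'} {q' : G ⟶ X'}
  {P : Scheme.{u}} {π₁ : P ⟶ G} {π₂ : P ⟶ Y} {Φ : P ⟶ X}

/-- Along a flat affine scheme over `G`, the map is the base change of `Y`. -/
theorem exists_squares (hY : IsPullback π₂ π₁ y g) (hX : IsPullback Φ π₁ f q') {T : Scheme.{u}} (j : T ⟶ G)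
    (U : X'.Opens) (pT : T ⟶ U) (hpT : pT ≫ U.ι = j ≫ q') :
    ∃ (P' : Scheme.{u}) (a : P' ⟶ (f ⁻¹ᵁ U : X.Opens)) (b : P' ⟶ T) (c : P' ⟶ Y),
      IsPullback a b (f ∣_ U) pT ∧ IsPullback c b y (j ≫ g) := by
  have h1 := IsPullback.of_hasPullback π₁ j
  have hb : IsPullback (pullback.fst π₁ j ≫ Φ) (pullback.snd π₁ j) f (j ≫ q') := h1.paste_horiz hX
  rw [← hpT] at hb
  have h3 := isPullback_morphismRestrict f U
  obtain ⟨a, ha1, ha2⟩ := h3.flip.exists_lift (pullback.fst π₁ j ≫ Φ) (pullback.snd π₁ j ≫ pT)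
    (by rw [Category.assoc]; exact hb.w)
  exact ⟨_, a, pullback.snd π₁ j, pullback.fst π₁ j ≫ π₂,
    IsPullback.of_right (by rwa [ha1]) ha2 h3.flip, h1.paste_horiz hY⟩

theorem isIso_appTop_of_contraction (hY : IsPullback π₂ π₁ y g) (hX : IsPullback Φ π₁ f q') [Flat q'] [Flat g]
    [QuasiCompact f] [QuasiSeparated f] [QuasiCompact y] [QuasiSeparated y] [Nonempty G]
    (h : ∀ U : X'.Opens, IsIso (f.app U)) : IsIso y.appTop := by
  obtain ⟨x⟩ := ‹Nonempty G›
  obtain ⟨U, hU, hxU, -⟩ := exists_affineOpen_mem (q' x) ⊤ trivial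
  obtain ⟨W, hW, hxW, hle'⟩ := exists_affineOpen_mem x (q' ⁻¹ᵁ U) hxU
  haveI : IsAffine U.toScheme := hU
  haveI : IsAffine W.toScheme := hW
  let pT : (W : Scheme.{u}) ⟶ U := q'.resLE U W hle'
  haveI : Flat pT := by infer_instance
  obtain ⟨P', a, b, c, hA, hB⟩ := exists_squares hY hX (Scheme.Opens.ι W) U pT (Scheme.Hom.resLE_comp_ι _ _)
  haveI : QuasiCompact (f ∣_ U) := MorphismProperty.of_isPullback (isPullback_morphismRestrict f U).flip ‹_›
  haveI : QuasiSeparated (f ∣_ U) := MorphismProperty.of_isPullback (isPullback_morphismRestrict f U).flip ‹_›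
  have hiso : IsIso (f ∣_ U).appTop := by
    rw [morphismRestrict_appTop]
    haveI := h (U.ι ''ᵁ ⊤)
    exact IsIso.comp_isIso' (h _) (Functor.map_isIso X.presheaf _)
  haveI : Surjective (W.ι ≫ g) := ⟨fun z => ⟨⟨x, hxW⟩, Subsingleton.elim (α := PrimeSpectrum k) _ _⟩⟩
  exact (isIso_appTop_iff_of_isPullback (W.ι ≫ g) y hB).2 (isIso_appTop_of_isPullback pT (f ∣_ U) hA hiso)

theorem contraction_of_isIso_appTop (hY : IsPullback π₂ π₁ y g) (hX : IsPullback Φ π₁ f q') [Surjective q'] [Flat q']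
    [LocallyOfFinitePresentation q'] [Flat g] [QuasiCompact f] [QuasiSeparated f] [QuasiCompact y] [QuasiSeparated y]
    (h : IsIso y.appTop) (U : X'.Opens) : IsIso (f.app U) := by
  refine FlatMisc.isIso_app_of_bijective_affine f (fun z => ?_) U
  obtain ⟨V, hV, hzV, -⟩ := exists_affineOpen_mem z ⊤ trivial
  refine ⟨V, hV, hzV, ?_⟩
  haveI : IsAffine V.toScheme := hV
  obtain ⟨T, _, j, _, hr, -⟩ := exists_affine_cover q' V hV.isCompact
  let pT : T ⟶ V := IsOpenImmersion.lift V.ι (j ≫ q') (by rw [Scheme.Opens.range_ι, hr])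
  have hpT : pT ≫ V.ι = j ≫ q' := IsOpenImmersion.lift_fac _ _ _
  haveI : Flat (pT ≫ V.ι) := by rw [hpT]; infer_instance
  haveI : Flat pT := by
    have : IsPullback (𝟙 T) pT (pT ≫ V.ι) V.ι := IsPullback.of_horiz_isIso_mono ⟨by simp⟩
    exact MorphismProperty.of_isPullback this ‹_›
  haveI : Surjective pT := ⟨fun v => by
    obtain ⟨t, ht⟩ := hr.ge v.2
    refine ⟨t, V.ι.isOpenEmbedding.injective ?_⟩
    rw [← Scheme.Hom.comp_apply, hpT]
    exact ht⟩
  obtain ⟨P', a, b, c, hA, hB⟩ := exists_squares hY hX j V pT hpT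
  haveI : QuasiCompact (f ∣_ V) := MorphismProperty.of_isPullback (isPullback_morphismRestrict f V).flip ‹_›
  haveI : QuasiSeparated (f ∣_ V) := MorphismProperty.of_isPullback (isPullback_morphismRestrict f V).flip ‹_›
  have hiso : IsIso (f ∣_ V).appTop :=
    (isIso_appTop_iff_of_isPullback pT (f ∣_ V) hA).2 (isIso_appTop_of_isPullback (j ≫ g) y hB h)
  rw [morphismRestrict_appTop] at hiso
  haveI : IsIso (f.app (V.ι ''ᵁ ⊤)) :=
    @IsIso.of_isIso_comp_right _ _ _ _ _ _ _ (Functor.map_isIso X.presheaf _) hiso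
  have e : V.ι ''ᵁ ⊤ = V := V.ι_image_top
  exact (ConcreteCategory.isIso_iff_bijective _).1 (e ▸ this)

end Contraction

end Groth.Agent.ParLib
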