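import Groth.Agent.QCoh.RpushExchange2
import Groth.Agent.KFlatLib.Scheme.RpushQCoh
import Groth.Agent.CurveBC.Coh

/-!
# Fibre cohomology of a flat proper family is bounded
-/

universe u
set_option maxHeartbeats 1000000
set_option linter.style.haveILetI false
set_option autoImplicit false
open AlgebraicGeometry CategoryTheory CategoryTheory.Limits TensorProduct

namespace Groth.Agent.ParLib

variable {X S : Scheme.{u}}

theorem isFlatOver_of_isFinLocFree (f : X ⟶ S) [Flat f] {M : X.Modules} (hM : FlatMod.IsFinLocFree M) :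
    FlatMod.IsFlatOver f M := fun x => by
  letI := FlatMod.moduleStalkOver f M x
  show Module.Flat (S.presheaf.stalk (f.base x)) (M.presheaf.stalk x)
  letI : Algebra (S.presheaf.stalk (f.base x)) (X.presheaf.stalk x) := (f.stalkMap x).hom.toAlgebra
  haveI : IsScalarTower (S.presheaf.stalk (f.base x)) (X.presheaf.stalk x) (M.presheaf.stalk x) :=
    IsScalarTower.of_algebraMap_smul fun _ _ => rfl
  haveI : Module.Flat (S.presheaf.stalk (f.base x)) (X.presheaf.stalk x) := Flat.stalkMap f x
  haveI : Module.Flat (X.presheaf.stalk x) (M.presheaf.stalk x) := KFlatLib.isFlat_of_isFinLocFree hM x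
  exact Module.Flat.trans (S.presheaf.stalk (f.base x)) (X.presheaf.stalk x) _

theorem finrank_bcCx_X_aux {A : Type u} [CommRing A] (P : ChainComplex (ModuleCat.{u} A) ℤ) (i : ℤ)
    [Module.Free A (P.X i)] [Module.Finite A (P.X i)] {B : Type u} [CommRing B] [Nontrivial B] (φ : A →+* B) :
    Module.Finite B ((CohIII.bcCx φ P).X i) ∧
      Module.finrank B ((CohIII.bcCx φ P).X i) = Module.finrank A (P.X i) := by
  letI := φ.toAlgebra
  refine ⟨inferInstanceAs (Module.Finite B (B ⊗[A] P.X i)), ?_⟩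
  haveI : Nontrivial A := φ.domain_nontrivial
  show Module.finrank B (B ⊗[A] P.X i) = _
  exact Module.finrank_baseChange

theorem dRank_le {A : Type u} [CommRing A] (P : ChainComplex (ModuleCat.{u} A) ℤ) (i : ℤ)
    [Module.Free A (P.X i)] [Module.Finite A (P.X i)] (x : PrimeSpectrum A) :
    CohIII.dRank P i x ≤ Module.finrank A (P.X i) := by
  haveI : Nontrivial A := ⟨⟨0, 1, fun h => x.isPrime.ne_top ((Ideal.eq_top_iff_one _).2 (h ▸ zero_mem _))⟩⟩
  let κ := x.asIdeal.ResidueField
  let Q := CohIII.bcCx (algebraMap A κ) P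
  have hX : Module.Finite κ (Q.X i) ∧ Module.finrank κ (Q.X i) = Module.finrank A (P.X i) :=
    finrank_bcCx_X_aux P i _
  haveI := hX.1
  rw [← hX.2]
  have h1 : Function.Injective (Q.iCycles i).hom := (ModuleCat.mono_iff_injective _).1 inferInstance
  haveI : Module.Finite κ (Q.cycles i) := Module.Finite.of_injective _ h1
  have h2 : Function.Surjective (Q.homologyπ i).hom := (ModuleCat.epi_iff_surjective _).1 inferInstance
  exact (LinearMap.finrank_le_finrank_of_surjective h2).trans (LinearMap.finrank_le_finrank_of_injective h1)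

theorem exists_bound_fiberRank (f : X ⟶ S) [IsProper f] [IsNoetherian S] {M : X.Modules} (hM : Coh.IsCoh M)
    (hfl : FlatMod.IsFlatOver f M) (q : ℕ) : ∃ B : ℕ, ∀ s : S, CohIII.fiberRank f M q s ≤ B := by
  classical
  haveI : HasInjectiveResolutions X.Modules := KFlatLib.hasInjectiveResolutions_modules
  have loc : ∀ y : S, ∃ V : S.Opens, y ∈ V ∧ ∃ B : ℕ, ∀ s ∈ V, CohIII.fiberRank f M q s ≤ B := fun y => by
    obtain ⟨_, ⟨V, hV, rfl⟩, hy, -⟩ :=
      S.isBasis_affineOpens.exists_subset_of_mem_open (Set.mem_univ y) isOpen_univ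
    have hV' : IsAffineOpen V := hV
    obtain ⟨P, hP⟩ := QCoh.exists_isLocalModel hM hfl hV'
    haveI := hP.1 (-(q : ℤ))
    haveI := hP.2.1 (-(q : ℤ))
    exact ⟨V, hy, _, fun s hs => ((hP.2.2.2.2.2 q s hs).1).trans_le (dRank_le P _ _)⟩
  choose V hy B hB using loc
  obtain ⟨t, ht⟩ := isCompact_univ.elim_finite_subcover (fun y => (V y : Set S)) (fun y => (V y).2)
    (fun y _ => Set.mem_iUnion.2 ⟨y, hy y⟩)
  refine ⟨t.sup B, fun s => ?_⟩
  obtain ⟨y, hyt, hs⟩ := Set.mem_iUnion₂.1 (ht (Set.mem_univ s))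
  exact (hB y s hs).trans (Finset.le_sup hyt)

end Groth.Agent.ParLib
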