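import Groth.Agent.ConsPropLib.QFFactor

/-!
# Quasi-finite separated morphisms with finite fibre maps over a base of dimension one are affine
-/

universe u
set_option maxHeartbeats 1000000
set_option linter.style.haveILetI false
set_option autoImplicit false
set_option backward.isDefEq.respectTransparency.types false
open AlgebraicGeometry CategoryTheory CategoryTheory.Limits TopologicalSpace

namespace Groth.Agent.ParLib

/-- A point of the closure of an open set of a Noetherian sober space generizes to a point of it. -/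
theorem exists_specializes_of_mem_closure {α : Type u} [TopologicalSpace α] [NoetherianSpace α] [QuasiSober α]
    {s : Set α} (hs : IsOpen s) {z : α} (hz : z ∈ closure s) : ∃ g ∈ s, g ⤳ z := by
  let I := {C ∈ irreducibleComponents α | (C ∩ s).Nonempty}
  have hI : I.Finite := NoetherianSpace.finite_irreducibleComponents.subset fun C hC => hC.1
  have hcl : IsClosed (⋃ C ∈ I, C) := hI.isClosed_biUnion fun C hC => isClosed_of_mem_irreducibleComponents C hC.1
  have hsub : s ⊆ ⋃ C ∈ I, C := fun x hx => Set.mem_iUnion₂.2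
    ⟨_, ⟨irreducibleComponent_mem_irreducibleComponents x, x, mem_irreducibleComponent, hx⟩,
      mem_irreducibleComponent⟩
  obtain ⟨C, ⟨hC, hne⟩, hzC⟩ := Set.mem_iUnion₂.1 ((hcl.closure_subset_iff).2 hsub hz)
  have hg := hC.1.isGenericPoint_genericPoint (isClosed_of_mem_irreducibleComponents C hC)
  exact ⟨hC.1.genericPoint, (hg.mem_open_set_iff hs).2 hne, hg.specializes hzC⟩

section Dim

variable {S : Scheme.{u}}

theorem isClosed_singleton_of_dim_le_one (hS : topologicalKrullDim S ≤ 1) {t s : S} (h : t ⤳ s) (hne : t ≠ s) :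
    IsClosed ({s} : Set S) := by
  refine closure_eq_iff_isClosed.1 (Set.Subset.antisymm (fun r hr => ?_) subset_closure)
  by_contra hrs
  have hsr : s ⤳ r := specializes_iff_mem_closure.2 hr
  have lt : ∀ {a b : S}, a ⤳ b → a ≠ b →
      (IrreducibleCloseds.mk (closure {b}) isIrreducible_singleton.closure isClosed_closure) <
        IrreducibleCloseds.mk (closure {a}) isIrreducible_singleton.closure isClosed_closure := by
    intro a b hab hne
    refine lt_of_le_of_ne (hab.closure_subset) fun e => hne ?_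
    exact (inseparable_iff_closure_eq.2 (congrArg IrreducibleCloseds.carrier e).symm).eq
  let l : LTSeries (IrreducibleCloseds S) :=
    ((RelSeries.singleton _ (IrreducibleCloseds.mk (closure {r}) isIrreducible_singleton.closure isClosed_closure)).snoc
      (IrreducibleCloseds.mk (closure {s}) isIrreducible_singleton.closure isClosed_closure)
        (lt hsr fun e => hrs e.symm)).snoc
      (IrreducibleCloseds.mk (closure {t}) isIrreducible_singleton.closure isClosed_closure)
        (by erw [RelSeries.last_snoc]; exact lt h hne)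
  have h2 : (l.length : WithBot ℕ∞) ≤ 1 := (Order.LTSeries.length_le_krullDim l).trans hS
  rw [show l.length = 2 from rfl] at h2
  exact absurd h2 (by norm_num)

theorem exists_basicOpen [IsLocallyNoetherian S] {V : S.Opens} (hV : IsAffineOpen V) {s : S} (hs : s ∈ V)
    (hn : ∃ t, t ⤳ s ∧ t ≠ s) :
    ∃ a : Γ(S, V), s ∉ S.basicOpen a ∧ ∀ t ∈ V, (∀ t', t' ⤳ t → t' = t) → t ∈ S.basicOpen a := by
  haveI : IsNoetherianRing Γ(S, V) := IsLocallyNoetherian.component_noetherian ⟨V, hV⟩
  have hi := hV.fromSpec.isOpenEmbedding.isInducing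
  have hspec : ∀ x y : PrimeSpectrum Γ(S, V), hV.fromSpec x ⤳ hV.fromSpec y ↔ x.asIdeal ≤ y.asIdeal := fun x y => by
    exact hi.specializes_iff.trans (PrimeSpectrum.le_iff_specializes x y).symm
  obtain ⟨t, hts, htne⟩ := hn
  have ht : t ∈ V := hts.mem_open V.2 hs
  let p := hV.primeIdealOf ⟨s, hs⟩
  have hp : hV.fromSpec p = s := hV.fromSpec_primeIdealOf ⟨s, hs⟩
  have hmem : ∀ (x : PrimeSpectrum Γ(S, V)) (a : Γ(S, V)), hV.fromSpec x ∈ S.basicOpen a ↔ a ∉ x.asIdeal := fun x a => by
    show x ∈ hV.fromSpec ⁻¹ᵁ S.basicOpen a ↔ _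
    rw [hV.fromSpec_preimage_basicOpen]
    rfl
  have hfin := minimalPrimes.finite_of_isNoetherianRing Γ(S, V)
  have havoid : ¬ ((p.asIdeal : Set Γ(S, V)) ⊆ ⋃ i ∈ (↑hfin.toFinset : Set (Ideal Γ(S, V))), (i : Set Γ(S, V))) := by
    intro h
    obtain ⟨m, hm, hpm⟩ := (Ideal.subset_union_prime ⊥ ⊥ (fun i hi _ _ =>
      Ideal.IsMinimalPrime.isPrime (hfin.mem_toFinset.1 hi))).1 h
    have hm' := hfin.mem_toFinset.1 hm
    let q := hV.primeIdealOf ⟨t, ht⟩
    have hq : hV.fromSpec q = t := hV.fromSpec_primeIdealOf ⟨t, ht⟩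
    have hqp : q.asIdeal ≤ p.asIdeal := (hspec q p).1 (by rw [hq, hp]; exact hts)
    have hmq : m ≤ q.asIdeal := hm'.2 ⟨q.isPrime, bot_le⟩ (hqp.trans hpm)
    refine htne (hq.symm.trans (Eq.trans (congrArg hV.fromSpec (PrimeSpectrum.ext ?_)) hp))
    exact le_antisymm hqp (hpm.trans hmq)
  obtain ⟨a, hap, ha⟩ := Set.not_subset.1 havoid
  refine ⟨a, by rw [← hp, hmem]; exact not_not.2 hap, fun x hx hmin => ?_⟩
  let r := hV.primeIdealOf ⟨x, hx⟩
  have hr : hV.fromSpec r = x := hV.fromSpec_primeIdealOf ⟨x, hx⟩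
  rw [← hr, hmem]
  obtain ⟨m, hm, hmr⟩ := Ideal.exists_minimalPrimes_le (I := (⊥ : Ideal Γ(S, V))) (J := r.asIdeal) bot_le
  let m' : PrimeSpectrum Γ(S, V) := ⟨m, Ideal.IsMinimalPrime.isPrime hm⟩
  have h1 : hV.fromSpec m' = x := hmin _ (by rw [← hr]; exact (hspec m' r).2 hmr)
  have : m' = r := hV.fromSpec.isOpenEmbedding.injective (h1.trans hr.symm)
  intro hh
  exact ha (Set.mem_iUnion₂.2 ⟨m, hfin.mem_toFinset.2 hm, by rw [← show m'.asIdeal = m from rfl, this]; exact hh⟩)

end Dim

section Affine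

variable {S X Y : Scheme.{u}} [IsLocallyNoetherian S] (f : X ⟶ Y) (h : Y ⟶ S) [LocallyOfFiniteType h]
  [LocallyOfFiniteType f] [QuasiCompact f] [IsSeparated f] [LocallyQuasiFinite f]

theorem isAffineHom_of_isAffine_target (hS : topologicalKrullDim S ≤ 1) [IsAffine Y]
    (hfin : ∀ s : S, IsFinite (pullback.snd f (h.fiberι s))) : IsAffineHom f := by
  obtain ⟨T, i, π, _, _, hfac⟩ := ConsPropLib.exists_finite_factor f
  haveI : IsAffine T := isAffine_of_isAffineHom π
  haveI : IsLocallyNoetherian Y := LocallyOfFiniteType.isLocallyNoetherian h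
  haveI : IsLocallyNoetherian T := LocallyOfFiniteType.isLocallyNoetherian π
  haveI : IsNoetherian T := ⟨⟩
  let q := π ≫ h
  have hfib : ∀ z : T, z ∈ closure (Set.range i ∩ q ⁻¹' {q z}) → z ∈ Set.range i := by
    intro z hz
    obtain ⟨b, hb⟩ : ∃ b : q.fiber (q z) ⟶ h.fiber (q z),
        IsPullback (q.fiberι (q z)) b π (h.fiberι (q z)) := by
      refine ⟨pullback.lift (q.fiberι (q z) ≫ π) (q.fiberToSpecResidueField (q z))
        (by rw [Category.assoc]; exact pullback.condition),
        IsPullback.of_bot ?_ (pullback.lift_fst _ _ _).symm (IsPullback.of_hasPullback h _)⟩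
      erw [pullback.lift_snd]
      exact IsPullback.of_hasPullback q _
    have hp := (IsPullback.of_hasPullback i (q.fiberι (q z))).paste_vert hb
    rw [hfac] at hp
    haveI : IsFinite (pullback.snd i (q.fiberι (q z)) ≫ b) := by
      rw [← hp.isoPullback_hom_snd]
      exact (MorphismProperty.cancel_left_of_respectsIso (@IsFinite : MorphismProperty Scheme.{u}) _ _).2 (hfin _)
    haveI : IsSeparated b := MorphismProperty.of_isPullback hb inferInstance
    haveI : IsFinite (pullback.snd i (q.fiberι (q z))) :=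
      MorphismProperty.of_postcomp (@IsFinite : MorphismProperty Scheme.{u}) _ b ‹IsSeparated b› ‹_›
    have hc : IsClosed (q.fiberι (q z) ⁻¹' Set.range i) := by
      rw [← Scheme.Pullback.range_snd]
      exact (pullback.snd i (q.fiberι (q z))).isClosedMap.isClosed_range
    obtain ⟨K, hK, hKeq⟩ := (q.fiberι (q z)).isEmbedding.isInducing.isClosed_iff.1 hc
    have hsub : Set.range i ∩ q ⁻¹' {q z} ⊆ K := fun x ⟨hx, hxs⟩ => by
      obtain ⟨w, rfl⟩ : x ∈ Set.range (q.fiberι (q z)) := by rw [Scheme.Hom.range_fiberι]; exact hxs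
      exact (Set.ext_iff.1 hKeq w).2 hx
    obtain ⟨w, hw⟩ : z ∈ Set.range (q.fiberι (q z)) := by rw [Scheme.Hom.range_fiberι]; rfl
    have : w ∈ q.fiberι (q z) ⁻¹' K := by
      show q.fiberι (q z) w ∈ K
      rw [hw]
      exact closure_minimal hsub hK hz
    rw [hKeq] at this
    exact hw ▸ this
  -- points of the boundary lie over closed points
  let B := closure (Set.range i) \ Set.range i
  have hBmin : ∀ z ∈ B, ∃ t, t ⤳ q z ∧ t ≠ q z := by
    intro z ⟨hz, hzi⟩
    obtain ⟨g, hg, hgz⟩ := exists_specializes_of_mem_closure i.isOpenEmbedding.isOpen_range hz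
    refine ⟨q g, hgz.map q.continuous, fun e => hzi (hfib z ?_)⟩
    exact (specializes_iff_mem_closure.1 hgz : z ∈ closure {g}) |> closure_mono (by simpa using ⟨hg, e⟩)
  have hBcl : IsClosed B := isClosed_closure.sdiff i.isOpenEmbedding.isOpen_range
  obtain ⟨F, hFfin, hFcl, hBF⟩ : ∃ F : Set S, F.Finite ∧ (∀ s ∈ F, IsClosed ({s} : Set S)) ∧ q '' B ⊆ F := by
    obtain ⟨𝒮, hfin', hcl, hirr, hB⟩ := NoetherianSpace.exists_finite_set_isClosed_irreducible hBcl
    have hg : ∀ C ∈ 𝒮, ∃ b ∈ B, C ⊆ closure {b} := fun C hC => by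
      have hgen := (hirr C hC).isGenericPoint_genericPoint (hcl C hC)
      refine ⟨(hirr C hC).genericPoint, ?_, hgen.def.ge⟩
      rw [hB]
      exact ⟨C, hC, hgen.mem⟩
    choose b hb hbC using hg
    haveI := hfin'.to_subtype
    refine ⟨Set.range fun C : 𝒮 => q (b C.1 C.2), Set.finite_range _, ?_, ?_⟩
    · rintro _ ⟨⟨C, hC⟩, rfl⟩
      obtain ⟨t, ht, hne⟩ := hBmin _ (hb C hC)
      exact isClosed_singleton_of_dim_le_one hS ht hne
    · rintro _ ⟨z, hz, rfl⟩
      rw [hB] at hz
      obtain ⟨C, hC, hzC⟩ := hz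
      obtain ⟨t, ht, hne⟩ := hBmin _ (hb C hC)
      have : q (b C hC) ⤳ q z := (specializes_iff_mem_closure.2 (hbC C hC hzC)).map q.continuous
      refine ⟨⟨C, hC⟩, ?_⟩
      exact ((isClosed_singleton_of_dim_le_one hS ht hne).closure_eq ▸ this.mem_closure : q z ∈ ({q (b C hC)} : Set S)).symm
  haveI : IsAffineHom i := by
    refine isAffineHom_of_forall_exists_isAffineOpen i fun z => ?_
    by_cases hzi : z ∈ Set.range i
    · obtain ⟨_, ⟨W, hW, rfl⟩, hzW, hWi⟩ :=
        T.isBasis_affineOpens.exists_subset_of_mem_open hzi i.isOpenEmbedding.isOpen_range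
      exact ⟨W, hzW, hW, hW.preimage_of_isOpenImmersion i hWi⟩
    by_cases hzc : z ∈ closure (Set.range i)
    swap
    · obtain ⟨_, ⟨W, hW, rfl⟩, hzW, hWi⟩ :=
        T.isBasis_affineOpens.exists_subset_of_mem_open (show z ∈ (closure (Set.range i))ᶜ from hzc)
          isClosed_closure.isOpen_compl
      refine ⟨W, hzW, hW, ?_⟩
      convert isAffineOpen_bot X
      exact le_bot_iff.1 fun x hx => hWi hx (subset_closure ⟨x, rfl⟩)
    have hzB : z ∈ B := ⟨hzc, hzi⟩
    have hn := hBmin z hzB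
    obtain ⟨t₀, ht₀, hne₀⟩ := hn
    have hsc := isClosed_singleton_of_dim_le_one hS ht₀ hne₀
    obtain ⟨V, hV, hsV, -⟩ : ∃ V : S.Opens, IsAffineOpen V ∧ q z ∈ V ∧ True := by
      obtain ⟨_, ⟨V, hV, rfl⟩, hsV, -⟩ :=
        S.isBasis_affineOpens.exists_subset_of_mem_open (Set.mem_univ (q z)) isOpen_univ
      exact ⟨V, hV, hsV, trivial⟩
    obtain ⟨a, has, ha⟩ := exists_basicOpen hV hsV ⟨t₀, ht₀, hne₀⟩
    have hEcl : ∀ x ∈ (V : Set S) \ S.basicOpen a, IsClosed ({x} : Set S) := fun x ⟨hxV, hxa⟩ => by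
      obtain ⟨t, ht, hne⟩ : ∃ t, t ⤳ x ∧ t ≠ x := by
        by_contra hh
        push Not at hh
        exact hxa (ha x hxV hh)
      exact isClosed_singleton_of_dim_le_one hS ht hne
    have hEfin : ((V : Set S) \ S.basicOpen a).Finite := by
      haveI : IsNoetherianRing Γ(S, V) := IsLocallyNoetherian.component_noetherian ⟨V, hV⟩
      haveI : IsAffine V.toScheme := hV
      haveI : IsNoetherian V.toScheme := ⟨⟩
      let A : Set V.toScheme := V.ι ⁻¹' (S.basicOpen a : Set S)ᶜ
      have hA : IsClosed A := (S.basicOpen a).2.isClosed_compl.preimage V.ι.continuous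
      obtain ⟨𝒮, hf, hcl, hirr, hA'⟩ := NoetherianSpace.exists_finite_set_isClosed_irreducible hA
      have hAfin : A.Finite := by
        rw [hA']
        refine hf.sUnion fun C hC => ?_
        refine Set.Subsingleton.finite ?_
        have hgen := (hirr C hC).isGenericPoint_genericPoint (hcl C hC)
        have hgA : (hirr C hC).genericPoint ∈ A := by rw [hA']; exact ⟨C, hC, hgen.mem⟩
        have : IsClosed ({(hirr C hC).genericPoint} : Set V.toScheme) := by
          have h1 := (hEcl (V.ι (hirr C hC).genericPoint) ⟨((hirr C hC).genericPoint).2, hgA⟩).preimage V.ι.continuous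
          rwa [← Set.image_singleton, V.ι.isOpenEmbedding.injective.preimage_image] at h1
        rw [← hgen.def, this.closure_eq]
        exact Set.subsingleton_singleton
      refine (hAfin.image V.ι).subset fun x ⟨hxV, hxa⟩ => ⟨⟨x, hxV⟩, hxa, rfl⟩
    -- the neighbourhood
    let E : Set S := (((V : Set S) \ S.basicOpen a) ∪ F) \ {q z}
    have hE : IsClosed E := by
      rw [← Set.biUnion_of_singleton E]
      exact ((hEfin.union hFfin).subset Set.sdiff_subset).isClosed_biUnion fun x hx =>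
        hx.1.elim (hEcl x) (hFcl x)
    let K : Set T := closure (Set.range i ∩ q ⁻¹' {q z})
    have hO : IsOpen (q ⁻¹' ((V : Set S) \ E) \ K) :=
      ((V.2.sdiff hE).preimage q.continuous).sdiff isClosed_closure
    obtain ⟨_, ⟨W, hW, rfl⟩, hzW, hWO⟩ := T.isBasis_affineOpens.exists_subset_of_mem_open
      (show z ∈ q ⁻¹' ((V : Set S) \ E) \ K from ⟨⟨hsV, fun h => h.2 rfl⟩, fun h => hzi (hfib z h)⟩) hO
    refine ⟨W, hzW, hW, ?_⟩
    let W' : T.Opens := W ⊓ q ⁻¹ᵁ S.basicOpen a
    have hWW : i ⁻¹ᵁ W = i ⁻¹ᵁ W' := by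
      refine le_antisymm (fun x hx => ⟨hx, ?_⟩) fun x hx => hx.1
      by_contra hxa
      obtain ⟨⟨hxV, hxE⟩, hxK⟩ := hWO hx
      by_cases e : q (i x) = q z
      · exact hxK (subset_closure ⟨⟨x, rfl⟩, e⟩)
      · exact hxE ⟨Or.inl ⟨hxV, hxa⟩, e⟩
    have hW' : IsAffineOpen W' := by
      have hle : W ≤ q ⁻¹ᵁ V := fun x hx => (hWO hx).1.1
      have : W' = T.basicOpen ((q.appLE V W hle) a) := by
        rw [Scheme.Hom.appLE, CommRingCat.comp_apply, Scheme.basicOpen_res, ← Scheme.preimage_basicOpen]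
      rw [this]
      exact hW.basicOpen _
    have hclosed : Set.range (i ∣_ W') = (W'.ι ⁻¹' closure (Set.range i)) := by
      refine Set.Subset.antisymm ?_ fun x hx => ?_
      · rintro _ ⟨y, rfl⟩
        exact subset_closure ⟨y.1, (morphismRestrict_base_coe i W' y).symm⟩
      by_contra hxi'
      have hxi : x.1 ∉ Set.range i := fun ⟨y, hy⟩ =>
        hxi' ⟨⟨y, show i y ∈ W' from hy ▸ x.2⟩, Subtype.ext ((morphismRestrict_base_coe i W' _).trans hy)⟩
      obtain ⟨hxW, hxa⟩ := x.2
      have hxF : q x.1 ∈ F := hBF ⟨x.1, ⟨hx, hxi⟩, rfl⟩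
      by_cases e : q x.1 = q z
      · exact has (e ▸ hxa)
      · exact (hWO hxW).1.2 ⟨Or.inr hxF, e⟩
    haveI : IsClosedImmersion (i ∣_ W') := IsClosedImmersion.of_isPreimmersion _
      (by rw [hclosed]; exact isClosed_closure.preimage W'.ι.continuous)
    rw [hWW]
    haveI : IsAffine W'.toScheme := hW'
    exact isAffine_of_isAffineHom (i ∣_ W')
  rw [← hfac]
  infer_instance

/-- Over a Noetherian base of dimension at most one a separated quasi-finite morphism which is finite on
every fibre over the base is affine. -/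
theorem isAffineHom_of_finite_fibres (hS : topologicalKrullDim S ≤ 1)
    (hfin : ∀ s : S, IsFinite (pullback.snd f (h.fiberι s))) : IsAffineHom f := by
  refine IsZariskiLocalAtTarget.of_iSup_eq_top (P := (@IsAffineHom : MorphismProperty Scheme.{u})) (fun U : Y.affineOpens => U.1)
    (iSup_affineOpens_eq_top Y) fun W => ?_
  haveI : IsAffine W.1.toScheme := W.2
  refine isAffineHom_of_isAffine_target (f ∣_ W.1) (W.1.ι ≫ h) hS fun s => ?_
  obtain ⟨b, hb⟩ : ∃ b : (W.1.ι ≫ h).fiber s ⟶ h.fiber s, b ≫ h.fiberι s = (W.1.ι ≫ h).fiberι s ≫ W.1.ι := by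
    refine ⟨pullback.lift ((W.1.ι ≫ h).fiberι s ≫ W.1.ι) ((W.1.ι ≫ h).fiberToSpecResidueField s)
      (by rw [Category.assoc]; exact pullback.condition), pullback.lift_fst _ _ _⟩
  have h1 := (IsPullback.of_hasPullback (f ∣_ W.1) ((W.1.ι ≫ h).fiberι s)).paste_horiz
    (isPullback_morphismRestrict f W.1).flip
  rw [← hb] at h1
  exact MorphismProperty.of_isPullback (IsPullback.of_right' h1 (IsPullback.of_hasPullback f (h.fiberι s)))
    (hfin s)

end Affine

end Groth.Agent.ParLib
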