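import Groth.Prelude.Def_Red
import Mathlib.AlgebraicGeometry.AffineTransitionLimit
import Mathlib.Algebra.Category.Ring.FilteredColimits
import Mathlib.CategoryTheory.Limits.Types.Filtered
import Mathlib.RingTheory.Adjoin.FG

/-!
# Affineness descends to a finitely generated subalgebra
-/

universe u

open CategoryTheory CategoryTheory.Limits AlgebraicGeometry Opposite

namespace Groth.Agent.ParLib.SubalgLimit

set_option linter.style.haveILetI false
set_option backward.isDefEq.respectTransparency false
set_option backward.isDefEq.respectTransparency.types false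

variable (A B : Type u) [CommRing A] [CommRing B] [Algebra A B]

/-- The finitely generated subalgebras. -/
noncomputable def rings : Finset B ⥤ CommRingCat.{u} where
  obj s := CommRingCat.of (Algebra.adjoin A (s : Set B))
  map {s t} h := CommRingCat.ofHom
    (Subalgebra.inclusion (Algebra.adjoin_mono (Finset.coe_subset.2 (leOfHom h)))).toRingHom

/-- The cocone of the inclusions. -/
noncomputable def cocone : Cocone (rings A B) where
  pt := CommRingCat.of B
  ι := { app := fun s => CommRingCat.ofHom (Algebra.adjoin A (s : Set B)).val.toRingHom }

/-- An algebra is the colimit of its finitely generated subalgebras. -/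
noncomputable def isColimit : IsColimit (cocone A B) := by
  classical
  haveI : ReflectsColimit (rings A B) (forget CommRingCat.{u}) := reflectsColimit_of_reflectsIsomorphisms _ _
  refine isColimitOfReflects (forget CommRingCat.{u}) ?_
  refine Types.FilteredColimit.isColimitOf' _ _ (fun z => ?_) fun s x y h => ?_
  · exact ⟨{z}, ⟨z, Algebra.subset_adjoin (Finset.mem_singleton_self z)⟩, rfl⟩
  · refine ⟨s, 𝟙 s, ?_⟩
    exact congrArg _ (Subtype.ext h)

/-- The system of spectra. -/
noncomputable def specs : (Finset B)ᵒᵖ ⥤ Scheme.{u} := (rings A B).op ⋙ Scheme.Spec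

/-- The limiting cone. -/
noncomputable def specsCone : Cone (specs A B) := Scheme.Spec.mapCone (cocone A B).op

/-- The spectrum is the limit. -/
noncomputable def isLimitSpecs : IsLimit (specsCone A B) := isLimitOfPreserves Scheme.Spec (isColimit A B).op

/-- The structure map of a stage. -/
noncomputable def stage (j : (Finset B)ᵒᵖ) : (specs A B).obj j ⟶ Spec (CommRingCat.of A) :=
  Spec.map (CommRingCat.ofHom (algebraMap A (Algebra.adjoin A ((j.unop : Finset B) : Set B))))

theorem map_stage {i j : (Finset B)ᵒᵖ} (h : i ⟶ j) : (specs A B).map h ≫ stage A B j = stage A B i := by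
  exact (Spec.map_comp _ _).symm.trans (congrArg Spec.map rfl)

theorem π_stage (j : (Finset B)ᵒᵖ) :
    (specsCone A B).π.app j ≫ stage A B j = Spec.map (CommRingCat.ofHom (algebraMap A B)) := by
  exact (Spec.map_comp _ _).symm.trans (congrArg Spec.map rfl)

variable {A B} {X : Scheme.{u}} (f : X ⟶ Spec (CommRingCat.of A))

/-- The base changes to the stages. -/
noncomputable def pulled : (Finset B)ᵒᵖ ⥤ Scheme.{u} where
  obj j := pullback f (stage A B j)
  map {i j} h := pullback.map f (stage A B i) f (stage A B j) (𝟙 _) ((specs A B).map h) (𝟙 _)
    (by simp) (by rw [map_stage, Category.comp_id])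
  map_id i := by
    refine pullback.hom_ext (by simp) ?_
    simp [(specs A B).map_id i]
  map_comp {i j k} h g := by
    refine pullback.hom_ext (by simp) ?_
    simp [(specs A B).map_comp h g]

/-- The cone of the base change to the whole algebra. -/
noncomputable def pulledCone : Cone (pulled (B := B) f) where
  pt := pullback f (Spec.map (CommRingCat.ofHom (algebraMap A B)))
  π :=
    { app := fun j => pullback.map f _ f (stage A B j) (𝟙 _) ((specsCone A B).π.app j) (𝟙 _) (by simp)
        (by rw [π_stage, Category.comp_id])
      naturality := fun i j h => by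
        refine pullback.hom_ext ?_ ?_
        · simp [pulled]
        · simp only [Functor.const_obj_map, Category.id_comp, pulled, pullback.map, Category.assoc,
            pullback.lift_snd, pullback.lift_snd_assoc]
          rw [(specsCone A B).w]
          exact Category.id_comp _ }

/-- Base change commutes with this limit. -/
noncomputable def isLimitPulled : IsLimit (pulledCone (B := B) f) := by
  classical
  let j₀ : (Finset B)ᵒᵖ := op ∅
  have hle : ∀ j : (Finset B)ᵒᵖ, ∃ h : j ⟶ j₀, True := fun j => ⟨(homOfLE (Finset.empty_subset j.unop)).op, trivial⟩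
  have hfst : ∀ (t : Cone (pulled (B := B) f)) (j), t.π.app j ≫ pullback.fst f (stage A B j) =
      t.π.app j₀ ≫ pullback.fst f (stage A B j₀) := fun t j => by
    obtain ⟨h, -⟩ := hle j
    rw [← t.w h]
    simp [pulled]
  let t' : ∀ t : Cone (pulled (B := B) f), Cone (specs A B) := fun t =>
    { pt := t.pt
      π :=
        { app := fun j => t.π.app j ≫ pullback.snd f (stage A B j)
          naturality := fun i j h => by
            refine (Category.id_comp _).trans ?_
            rw [← t.w h]
            simp [pulled] } }
  have hw : ∀ t : Cone (pulled (B := B) f), (t.π.app j₀ ≫ pullback.fst f (stage A B j₀)) ≫ f =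
      (isLimitSpecs A B).lift (t' t) ≫ Spec.map (CommRingCat.ofHom (algebraMap A B)) := fun t => by
    rw [← π_stage A B j₀, IsLimit.fac_assoc, Category.assoc, pullback.condition]
    simp [t']
  exact
    { lift := fun t => pullback.lift _ _ (hw t)
      fac := fun t j => by
        refine pullback.hom_ext ?_ ?_
        · simp only [pulledCone, pullback.map, Category.assoc, pullback.lift_fst, Category.comp_id]
          exact (hfst t j).symm
        · simp only [pulledCone, pullback.map, Category.assoc, pullback.lift_snd, pullback.lift_snd_assoc]
          exact (isLimitSpecs A B).fac (t' t) j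
      uniq := fun t m hm => by
        refine pullback.hom_ext ?_ ?_
        · rw [pullback.lift_fst, ← hm j₀]
          simp [pulledCone]
        · rw [pullback.lift_snd]
          refine (isLimitSpecs A B).hom_ext fun j => ?_
          rw [IsLimit.fac]
          show _ = t.π.app j ≫ _
          rw [← hm j]
          simp [pulledCone] }

/-- If the base change to `B` is affine, so is the base change to a finitely generated subalgebra. -/
theorem exists_fg_isAffine (f : X ⟶ Spec (CommRingCat.of A)) [QuasiCompact f] [QuasiSeparated f]
    [hB : IsAffine (pullback f (Spec.map (CommRingCat.ofHom (algebraMap A B))))] :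
    ∃ A' : Subalgebra A B, A'.FG ∧ IsAffine (pullback f (Spec.map (CommRingCat.ofHom (algebraMap A A')))) := by
  have haff : ∀ {i j : (Finset B)ᵒᵖ} (h : i ⟶ j), IsAffineHom ((pulled (B := B) f).map h) := fun {i j} h => by
    have sq : IsPullback ((pulled (B := B) f).map h) (pullback.snd f (stage A B i)) (pullback.snd f (stage A B j))
        ((specs A B).map h) := by
      refine IsPullback.of_right ?_ ?_ (IsPullback.of_hasPullback f (stage A B j))
      · rw [map_stage]
        simpa [pulled] using IsPullback.of_hasPullback f (stage A B i)
      · simp [pulled]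
    haveI : IsAffineHom ((specs A B).map h) := inferInstanceAs (IsAffineHom (Spec.map _))
    exact MorphismProperty.of_isPullback sq.flip ‹_›
  haveI : ∀ {i j : (Finset B)ᵒᵖ} (h : i ⟶ j), IsAffineHom ((pulled (B := B) f).map h) := haff
  haveI : ∀ j, CompactSpace ((pulled (B := B) f).obj j) := fun j => by
    haveI : CompactSpace ((specs A B).obj j) := inferInstanceAs (CompactSpace (Spec _ : Scheme.{u}))
    exact QuasiCompact.compactSpace_of_compactSpace (pullback.snd f (stage A B j))
  haveI : ∀ j, QuasiSeparatedSpace ((pulled (B := B) f).obj j) := fun j => by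
    haveI : QuasiSeparatedSpace ((specs A B).obj j) := inferInstanceAs (QuasiSeparatedSpace (Spec _ : Scheme.{u}))
    exact (quasiSeparated_iff_quasiSeparatedSpace (pullback.snd f (stage A B j))).1 inferInstance
  haveI : IsAffine (pulledCone (B := B) f).pt := hB
  obtain ⟨j, hj⟩ := Scheme.exists_isAffine_of_isLimit _ _ (isLimitPulled (B := B) f)
  exact ⟨_, Subalgebra.fg_adjoin_finset j.unop, hj⟩

end Groth.Agent.ParLib.SubalgLimit
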