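import Groth.Agent.ParLib.DvrAffine
import Groth.Agent.ParLib.SubalgLimit
import Groth.Agent.ChevAffine.Main
import Groth.Agent.EtFound.Descent
import Groth.Agent.KrullAki.Basic
import Mathlib.RingTheory.DedekindDomain.Dvr
import Mathlib.RingTheory.IntegralClosure.IntegrallyClosed
import Mathlib.RingTheory.Ideal.MinimalPrime.Noetherian
import Mathlib.AlgebraicGeometry.Limits
import Mathlib.Topology.KrullDimension

/-!
# Affineness of flat separated group schemes with affine fibres over a base of dimension at most one
-/

universe u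

open CategoryTheory CategoryTheory.Limits AlgebraicGeometry TopologicalSpace Opposite

namespace Groth.Agent.ParLib.GrpDimOne

set_option linter.style.haveILetI false
set_option linter.unusedSectionVars false
set_option backward.isDefEq.respectTransparency false
set_option backward.isDefEq.respectTransparency.types false
set_option maxHeartbeats 1000000

variable {S : Scheme.{u}}

/-- The base change of `G` along `f` is affine over its base. -/
abbrev AffAt (G : Over S) {T : Scheme.{u}} (f : T ⟶ S) : Prop := IsAffineHom (pullback.snd G.hom f)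

theorem affAt_comp (G : Over S) {T T' : Scheme.{u}} (h : T' ⟶ T) (g : T ⟶ S) (hg : AffAt G g) :
    AffAt G (h ≫ g) := by
  have h1 : IsPullback (pullbackLeftPullbackSndIso G.hom g h).hom (pullback.snd (pullback.snd G.hom g) h)
      (pullback.snd G.hom (h ≫ g)) (𝟙 _) :=
    IsPullback.of_horiz_isIso ⟨by simp⟩
  have h2 : IsAffineHom (pullback.snd (pullback.snd G.hom g) h) :=
    MorphismProperty.pullback_snd (P := @IsAffineHom) _ _ hg
  show IsAffineHom _
  exact (MorphismProperty.cancel_left_of_respectsIso @IsAffineHom _ _).1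
    (by rw [pullbackLeftPullbackSndIso_hom_snd]; exact h2)

theorem isAffine_pullback_of_affAt (G : Over S) {T : Scheme.{u}} [IsAffine T] (f : T ⟶ S) (h : AffAt G f) :
    IsAffine (pullback G.hom f) :=
  haveI : IsAffineHom (pullback.snd G.hom f) := h
  isAffine_of_isAffineHom (pullback.snd G.hom f)

variable {R : Type u} [CommRing R]

/-- Affineness over a base ring from affineness on a basic cover. -/
theorem isAffineHom_of_cover (G : Over (Spec (CommRingCat.of R))) {ι : Type u} (s : ι → R)
    (hs : Ideal.span (Set.range s) = ⊤)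
    (h : ∀ i, IsAffine (pullback G.hom (Spec.map (CommRingCat.ofHom (algebraMap R (Localization.Away (s i))))))) :
    IsAffineHom G.hom := by
  refine IsZariskiLocalAtTarget.of_iSup_eq_top (P := @IsAffineHom)
    (fun i => (PrimeSpectrum.basicOpen (s i) : (Spec (CommRingCat.of R)).Opens))
    (PrimeSpectrum.iSup_basicOpen_eq_top_iff.2 hs) fun i => ?_
  let j := Spec.map (CommRingCat.ofHom (algebraMap R (Localization.Away (s i))))
  haveI : IsOpenImmersion j := IsOpenImmersion.of_isLocalization (s i)
  have hr : (pullback.fst G.hom j).opensRange = G.hom ⁻¹ᵁ PrimeSpectrum.basicOpen (s i) := by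
    refine Opens.ext ?_
    show Set.range (pullback.fst G.hom j) = _
    rw [Scheme.Pullback.range_fst]
    exact congrArg (G.hom ⁻¹' ·) (PrimeSpectrum.localization_away_comap_range _ (s i))
  haveI := h i
  have h1 : IsAffineOpen (G.hom ⁻¹ᵁ PrimeSpectrum.basicOpen (s i)) := hr ▸ isAffineOpen_opensRange _
  haveI : IsAffine (G.hom ⁻¹ᵁ PrimeSpectrum.basicOpen (s i)).toScheme := h1
  let U : (Spec (CommRingCat.of R)).Opens := PrimeSpectrum.basicOpen (s i)
  haveI : IsAffine U.toScheme := IsAffineOpen.Spec_basicOpen (R := CommRingCat.of R) (s i)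
  exact isAffineHom_of_isAffine _

/-- Over a Dedekind domain. -/
theorem isAffineHom_of_dedekind [IsDomain R] [IsDedekindDomain R] (K : Type u) [Field K] [Algebra R K]
    [IsFractionRing R K] (G : Over (Spec (CommRingCat.of R))) [GrpObj G] [QuasiCompact G.hom]
    [IsSeparated G.hom] [Flat G.hom] [LocallyOfFiniteType G.hom]
    (hgen : AffAt G (Spec.map (CommRingCat.ofHom (algebraMap R K)))) : IsAffineHom G.hom := by
  by_cases hR : IsField R
  · have hb : Function.Bijective (algebraMap R K) := by
      refine ⟨IsFractionRing.injective R K, fun z => ?_⟩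
      obtain ⟨a, b, hb, rfl⟩ := IsFractionRing.div_surjective (A := R) z
      obtain ⟨c, hc⟩ := hR.mul_inv_cancel (nonZeroDivisors.ne_zero hb)
      refine ⟨a * c, ?_⟩
      rw [eq_div_iff (IsFractionRing.to_map_ne_zero_of_mem_nonZeroDivisors hb), ← map_mul, mul_assoc, mul_comm c b, hc,
        mul_one]
    haveI : IsIso (CommRingCat.ofHom (algebraMap R K)) := (ConcreteCategory.isIso_iff_bijective _).mpr hb
    haveI : IsAffine G.left := by
      haveI := isAffine_pullback_of_affAt G _ hgen
      exact IsAffine.of_isIso (inv (pullback.fst G.hom (Spec.map (CommRingCat.ofHom (algebraMap R K)))))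
    exact isAffineHom_of_isAffine _
  have hloc : ∀ m : MaximalSpectrum R, ∃ s : R, s ∉ m.asIdeal ∧
      IsAffine (pullback G.hom (Spec.map (CommRingCat.ofHom (algebraMap R (Localization.Away s))))) := by
    rintro ⟨m, hm⟩
    let L := Localization.AtPrime m
    have hm0 : m ≠ ⊥ := fun h => hR (Ring.isField_iff_maximal_bot.2 (h ▸ hm))
    haveI : IsDiscreteValuationRing L := IsLocalization.AtPrime.isDiscreteValuationRing_of_dedekind_domain R hm0 L
    have hle : m.primeCompl ≤ nonZeroDivisors R := Ideal.primeCompl_le_nonZeroDivisors m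
    letI : Algebra L K := (IsLocalization.lift (M := m.primeCompl) (S := L) (g := algebraMap R K) fun y =>
      IsUnit.mk0 _ (IsFractionRing.to_map_ne_zero_of_mem_nonZeroDivisors (hle y.2))).toAlgebra
    haveI : IsScalarTower R L K := IsScalarTower.of_algebraMap_eq fun x => (IsLocalization.lift_eq _ x).symm
    haveI : IsFractionRing L K := IsFractionRing.isFractionRing_of_isDomain_of_isLocalization m.primeCompl L K
    let jL := Spec.map (CommRingCat.ofHom (algebraMap R L))
    let GLoc := Red.bc jL G
    haveI : QuasiCompact GLoc.hom := inferInstanceAs (QuasiCompact (pullback.snd _ _))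
    haveI : IsSeparated GLoc.hom := inferInstanceAs (IsSeparated (pullback.snd _ _))
    haveI : Flat GLoc.hom := inferInstanceAs (Flat (pullback.snd _ _))
    haveI : LocallyOfFiniteType GLoc.hom := inferInstanceAs (LocallyOfFiniteType (pullback.snd _ _))
    have hLK : Spec.map (CommRingCat.ofHom (algebraMap L K)) ≫ jL = Spec.map (CommRingCat.ofHom (algebraMap R K)) := by
      rw [← Spec.map_comp, ← CommRingCat.ofHom_comp, ← IsScalarTower.algebraMap_eq]
    have hgenL : IsAffine (pullback GLoc.hom (Spec.map (CommRingCat.ofHom (algebraMap L K)))) := by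
      haveI := isAffine_pullback_of_affAt G _ (hLK ▸ hgen)
      exact IsAffine.of_isIso (pullbackLeftPullbackSndIso G.hom jL _).hom
    haveI : IsAffine (pullback G.hom jL) := Dvr.isAffine_of_dvr (G := GLoc) K hgenL
    obtain ⟨A', ⟨t, ht⟩, hA'⟩ := SubalgLimit.exists_fg_isAffine (B := L) G.hom
    choose n d hnd using fun x : L => IsLocalization.exists_mk'_eq m.primeCompl x
    classical
    let s : R := ∏ x ∈ t, ((d x : m.primeCompl) : R)
    have hsm : s ∈ m.primeCompl := prod_mem fun x _ => (d x).2
    refine ⟨s, hsm, ?_⟩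
    let φ : Localization.Away s →ₐ[R] L := IsLocalization.Away.liftAlgHom s (f := Algebra.ofId R L)
      (IsLocalization.map_units L ⟨s, hsm⟩)
    have hφ : Function.Injective φ := by
      refine (injective_iff_map_eq_zero φ).2 fun x hx => ?_
      obtain ⟨a, b, rfl⟩ := IsLocalization.exists_mk'_eq (Submonoid.powers s) x
      have h1 : φ (algebraMap R _ a) = 0 := by
        rw [← IsLocalization.mk'_spec (Localization.Away s) a b, map_mul, hx, zero_mul]
      rw [φ.commutes] at h1
      rw [(IsLocalization.injective L hle) (h1.trans (map_zero _).symm), IsLocalization.mk'_zero]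
    have hle' : A' ≤ φ.range := by
      rw [← ht, Algebra.adjoin_le_iff]
      intro x hx
      have hdvd : ((d x : m.primeCompl) : R) ∣ s := Finset.dvd_prod_of_mem _ hx
      obtain ⟨c, hc⟩ := hdvd
      refine ⟨IsLocalization.mk' (Localization.Away s) (n x * c) ⟨s, Submonoid.mem_powers s⟩, ?_⟩
      show φ _ = x
      apply (IsLocalization.map_units L ⟨s, hsm⟩).mul_left_inj.1
      show _ * algebraMap R L s = _ * algebraMap R L s
      have hcs : algebraMap R L s = algebraMap R L ↑(d x) * algebraMap R L c :=
        (congrArg (algebraMap R L) hc).trans (map_mul _ _ _)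
      rw [← φ.commutes, ← map_mul, IsLocalization.mk'_spec, φ.commutes, map_mul, φ.commutes, hcs, ← mul_assoc,
        ← congrArg (· * algebraMap R L ↑(d x)) (hnd x), IsLocalization.mk'_spec]
    let ψ : A' →ₐ[R] Localization.Away s :=
      (AlgEquiv.ofInjective φ hφ).symm.toAlgHom.comp (Subalgebra.inclusion hle')
    have e : Spec.map (CommRingCat.ofHom (algebraMap R (Localization.Away s))) =
        Spec.map (CommRingCat.ofHom ψ.toRingHom) ≫ Spec.map (CommRingCat.ofHom (algebraMap R A')) := by
      rw [← Spec.map_comp, ← CommRingCat.ofHom_comp]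
      exact congrArg (fun g => Spec.map (CommRingCat.ofHom g)) ψ.comp_algebraMap.symm
    apply isAffine_pullback_of_affAt G
    rw [e]
    refine affAt_comp G _ _ ?_
    haveI := hA'
    exact isAffineHom_of_isAffine _
  choose s hsm hs using hloc
  refine isAffineHom_of_cover G s ?_ hs
  by_contra h
  obtain ⟨m, hm, hle⟩ := Ideal.exists_le_maximal _ h
  exact hsm ⟨m, hm⟩ (hle (Ideal.subset_span ⟨⟨m, hm⟩, rfl⟩))

variable {A : Type u} [CommRing A] [IsNoetherianRing A] [Ring.KrullDimLE 1 A]

/-- Over a one-dimensional Noetherian domain. -/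
theorem isAffineHom_of_domain [IsDomain A] (G : Over (Spec (CommRingCat.of A))) [GrpObj G] [QuasiCompact G.hom]
    [IsSeparated G.hom] [Flat G.hom] [LocallyOfFiniteType G.hom]
    (hgen : AffAt G (Spec.map (CommRingCat.ofHom (algebraMap A (FractionRing A))))) : IsAffineHom G.hom := by
  let K := FractionRing A
  let B : Subalgebra A K := integralClosure A K
  haveI : IsNoetherianRing B := KrullAki.isNoetherianRing_subalgebra B
  haveI : Ring.KrullDimLE 1 B := KrullAki.krullDimLE_one_subalgebra B
  haveI : IsFractionRing B K := KrullAki.isFractionRing_subalgebra B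
  haveI : IsIntegrallyClosed B := integralClosure.isIntegrallyClosedOfFiniteExtension K
  haveI : Ring.DimensionLEOne B := ⟨fun {P} hP hPp =>
    haveI := hPp; Ring.krullDimLE_one_iff_of_noZeroDivisors.1 ‹Ring.KrullDimLE 1 B› P hP hPp⟩
  haveI : IsDedekindDomain B := { }
  let jB := Spec.map (CommRingCat.ofHom (algebraMap A B))
  let GB := Red.bc jB G
  haveI : QuasiCompact GB.hom := inferInstanceAs (QuasiCompact (pullback.snd _ _))
  haveI : IsSeparated GB.hom := inferInstanceAs (IsSeparated (pullback.snd _ _))
  haveI : Flat GB.hom := inferInstanceAs (Flat (pullback.snd _ _))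
  haveI : LocallyOfFiniteType GB.hom := inferInstanceAs (LocallyOfFiniteType (pullback.snd _ _))
  have hBK : Spec.map (CommRingCat.ofHom (algebraMap B K)) ≫ jB = Spec.map (CommRingCat.ofHom (algebraMap A K)) := by
    rw [← Spec.map_comp, ← CommRingCat.ofHom_comp, ← IsScalarTower.algebraMap_eq]
  have hgenB : AffAt GB (Spec.map (CommRingCat.ofHom (algebraMap B K))) := by
    have h := hBK ▸ hgen
    show IsAffineHom (pullback.snd (pullback.snd G.hom jB) _)
    rw [← pullbackLeftPullbackSndIso_hom_snd]
    haveI : IsAffineHom (pullback.snd G.hom (Spec.map (CommRingCat.ofHom (algebraMap B K)) ≫ jB)) := h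
    infer_instance
  haveI : IsAffineHom (pullback.snd G.hom jB) := isAffineHom_of_dedekind K GB hgenB
  haveI : IsAffine (pullback G.hom jB) := isAffine_of_isAffineHom (pullback.snd G.hom jB)
  obtain ⟨A', hfg, hA'⟩ := SubalgLimit.exists_fg_isAffine (B := B) G.hom
  haveI := hA'
  haveI : Algebra.IsIntegral A B := inferInstance
  haveI : Algebra.IsIntegral A A' := ⟨fun x =>
    (isIntegral_algHom_iff A'.val Subtype.val_injective).1 (Algebra.IsIntegral.isIntegral (x : B))⟩
  haveI : Algebra.FiniteType A A' := (Subalgebra.fg_iff_finiteType _).1 hfg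
  let g : CommRingCat.of A ⟶ CommRingCat.of A' := CommRingCat.ofHom (algebraMap A A')
  have hint : g.hom.IsIntegral := fun x => (Algebra.IsIntegral.isIntegral x : IsIntegral A (x : A'))
  have hft : g.hom.FiniteType := RingHom.finiteType_algebraMap.2 inferInstance
  have hfin : g.hom.Finite := RingHom.Finite.of_isIntegral_of_finiteType hint hft
  have hinj : Function.Injective (algebraMap A A') := fun x y h =>
    IsFractionRing.injective A K (congrArg (fun z : A' => ((z : B) : K)) h)
  let j := Spec.map g
  haveI : IsFinite j := (IsFinite.SpecMap_iff _).2 hfin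
  haveI : Surjective j := ⟨(hint.comap_surjective hinj)⟩
  haveI : IsAffine (pullback G.hom j) := hA'
  haveI : IsLocallyNoetherian G.left := LocallyOfFiniteType.isLocallyNoetherian G.hom
  haveI : CompactSpace G.left := (quasiCompact_iff_compactSpace G.hom).mp inferInstance
  haveI : IsNoetherian G.left := ⟨⟩
  haveI : IsAffine G.left := ChevAffine.isAffine_of_finite_surjective (pullback.fst G.hom j)
  exact isAffineHom_of_isAffine _

/-- Over a one-dimensional Noetherian ring. -/
theorem isAffineHom_of_noetherian (G : Over (Spec (CommRingCat.of A))) [GrpObj G] [QuasiCompact G.hom]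
    [IsSeparated G.hom] [Flat G.hom] [LocallyOfFiniteType G.hom]
    (H : ∀ (F : Type u) [Field F] (f : Spec (CommRingCat.of F) ⟶ Spec (CommRingCat.of A)), AffAt G f) :
    IsAffineHom G.hom := by
  haveI : Finite (minimalPrimes A) := (minimalPrimes.finite_of_isNoetherianRing A).to_subtype
  let Q : minimalPrimes A → CommRingCat.{u} := fun p => CommRingCat.of (A ⧸ p.1)
  let P := Π p : minimalPrimes A, Q p
  let jP := Spec.map (CommRingCat.ofHom (algebraMap A P))
  have hp : ∀ p : minimalPrimes A, AffAt G (Spec.map (CommRingCat.ofHom (algebraMap A (A ⧸ p.1)))) := by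
    intro p
    haveI : p.1.IsPrime := Ideal.minimalPrimes_isPrime p.2
    haveI : Ring.KrullDimLE 1 (A ⧸ p.1) := Ring.krullDimLE_iff.mpr
      ((ringKrullDim_le_of_surjective _ Ideal.Quotient.mk_surjective).trans (Ring.krullDimLE_iff.mp ‹_›))
    let j := Spec.map (CommRingCat.ofHom (algebraMap A (A ⧸ p.1)))
    let Gp := Red.bc j G
    haveI : QuasiCompact Gp.hom := inferInstanceAs (QuasiCompact (pullback.snd _ _))
    haveI : IsSeparated Gp.hom := inferInstanceAs (IsSeparated (pullback.snd _ _))
    haveI : Flat Gp.hom := inferInstanceAs (Flat (pullback.snd _ _))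
    haveI : LocallyOfFiniteType Gp.hom := inferInstanceAs (LocallyOfFiniteType (pullback.snd _ _))
    refine isAffineHom_of_domain Gp ?_
    show IsAffineHom (pullback.snd (pullback.snd G.hom j) _)
    rw [← pullbackLeftPullbackSndIso_hom_snd]
    haveI : IsAffineHom (pullback.snd G.hom
      (Spec.map (CommRingCat.ofHom (algebraMap (A ⧸ p.1) (FractionRing (A ⧸ p.1)))) ≫ j)) := H _ _
    infer_instance
  haveI : IsAffineHom (pullback.snd G.hom jP) := by
    let 𝒰 : (Spec (CommRingCat.of P)).OpenCover :=
      Scheme.Cover.mkOfCovers (P := @IsOpenImmersion) (minimalPrimes A) (fun p => Spec (Q p))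
        (fun p => Spec.map (CommRingCat.ofHom (Pi.evalRingHom (fun p => (Q p : Type u)) p)))
        (fun x => by
          obtain ⟨z, hz⟩ := (sigmaSpec Q).surjective x
          obtain ⟨⟨p, w⟩, rfl⟩ := (sigmaMk (fun p => Spec (Q p))).surjective z
          rw [sigmaMk_mk] at hz
          refine ⟨p, w, ?_⟩
          rw [← hz, ← Scheme.Hom.comp_apply, ι_sigmaSpec])
        (fun p => by rw [← ι_sigmaSpec]; infer_instance)
    refine IsZariskiLocalAtTarget.of_openCover (P := @IsAffineHom) 𝒰 fun p => ?_
    show IsAffineHom (pullback.snd (pullback.snd G.hom jP) _)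
    rw [← pullbackLeftPullbackSndIso_hom_snd]
    have e : Spec.map (CommRingCat.ofHom (Pi.evalRingHom (fun p => (Q p : Type u)) p)) ≫ jP =
        Spec.map (CommRingCat.ofHom (algebraMap A (A ⧸ p.1))) := by
      rw [← Spec.map_comp]
      rfl
    haveI : IsAffineHom (pullback.snd G.hom (𝒰.f p ≫ jP)) := by
      show AffAt G (Spec.map (CommRingCat.ofHom (Pi.evalRingHom (fun p => (Q p : Type u)) p)) ≫ jP)
      rw [e]
      exact hp p
    infer_instance
  haveI : IsAffine (pullback G.hom jP) := isAffine_of_isAffineHom (pullback.snd G.hom jP)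
  haveI : Fintype (minimalPrimes A) := Fintype.ofFinite _
  haveI : Module.Finite A P := Module.Finite.pi
  haveI : IsFinite jP := (IsFinite.SpecMap_iff _).2 (RingHom.finite_algebraMap.2 inferInstance)
  haveI : Surjective jP := ⟨fun x => by
    obtain ⟨p, hp, hle⟩ := Ideal.exists_minimalPrimes_le (I := (⊥ : Ideal A)) (bot_le (a := x.asIdeal))
    have : x ∈ Set.range (Spec.map (CommRingCat.ofHom (algebraMap A (A ⧸ p)))) := by
      rw [show Set.range (Spec.map (CommRingCat.ofHom (algebraMap A (A ⧸ p)))) = Set.range (PrimeSpectrum.comap (Ideal.Quotient.mk p)) from rfl,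
        range_comap_of_surjective _ _ Ideal.Quotient.mk_surjective, Ideal.mk_ker]
      exact hle
    obtain ⟨y, rfl⟩ := this
    refine ⟨Spec.map (CommRingCat.ofHom (Pi.evalRingHom (fun p => (Q p : Type u)) ⟨p, hp⟩)) y, ?_⟩
    rw [← Scheme.Hom.comp_apply, ← Spec.map_comp]
    rfl⟩
  haveI : IsLocallyNoetherian G.left := LocallyOfFiniteType.isLocallyNoetherian G.hom
  haveI : CompactSpace G.left := (quasiCompact_iff_compactSpace G.hom).mp inferInstance
  haveI : IsNoetherian G.left := ⟨⟩
  haveI : IsAffine G.left := ChevAffine.isAffine_of_finite_surjective (pullback.fst G.hom jP)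
  exact isAffineHom_of_isAffine _

/-- Fibres over fields are affine when the geometric fibres are. -/
theorem affAt_field (G : Over S) (hfib : ∀ s : S, AffAt G (Red.geomPt s)) (F : Type u) [Field F]
    (f : Spec (CommRingCat.of F) ⟶ S) : AffAt G f := by
  let p := (Scheme.SpecToEquivOfField F S) f
  have hf : Spec.map p.2 ≫ S.fromSpecResidueField p.1 = f := (Scheme.SpecToEquivOfField F S).symm_apply_apply f
  rw [← hf]
  refine affAt_comp G _ _ ?_
  let g : Spec (CommRingCat.of (AlgebraicClosure (S.residueField p.1))) ⟶ Spec (S.residueField p.1) :=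
    Spec.map (CommRingCat.ofHom (algebraMap (S.residueField p.1) (AlgebraicClosure (S.residueField p.1))))
  haveI : Surjective g := ⟨fun x => ⟨default, Subsingleton.elim _ _⟩⟩
  haveI : Flat g := (HasRingHomProperty.Spec_iff (P := @Flat)).2 (RingHom.flat_algebraMap_iff.2 inferInstance)
  haveI := EtFound.fpqc_isAffineHom.{u}
  refine MorphismProperty.of_pullback_snd_of_descendsAlong (P := @IsAffineHom) (Q := @Surjective ⊓ @Flat ⊓ @QuasiCompact)
    (f := pullback.snd G.hom (S.fromSpecResidueField p.1)) (g := g)
    ⟨⟨inferInstance, inferInstance⟩, inferInstance⟩ ?_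
  rw [← pullbackLeftPullbackSndIso_hom_snd]
  haveI : IsAffineHom (pullback.snd G.hom (g ≫ S.fromSpecResidueField p.1)) := hfib p.1
  infer_instance

/-- A flat separated group of finite type with affine geometric fibres over a base of dimension at most one is affine. -/
theorem isAffineHom [IsLocallyNoetherian S] (hS : topologicalKrullDim S ≤ 1) (G : Over S) [GrpObj G]
    [QuasiCompact G.hom] [IsSeparated G.hom] [Flat G.hom] [LocallyOfFiniteType G.hom]
    (hfib : ∀ s : S, AffAt G (Red.geomPt s)) : IsAffineHom G.hom := by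
  refine IsZariskiLocalAtTarget.of_openCover (P := @IsAffineHom) S.affineCover fun i => ?_
  let j := S.affineCover.f i
  show IsAffineHom (pullback.snd G.hom j)
  haveI : IsAffine (S.affineCover.X i) := inferInstance
  let e := (S.affineCover.X i).isoSpec
  let A := Γ(S.affineCover.X i, ⊤)
  haveI : IsLocallyNoetherian (S.affineCover.X i) := isLocallyNoetherian_of_isOpenImmersion j
  haveI : IsNoetherianRing A := IsLocallyNoetherian.component_noetherian ⟨⊤, isAffineOpen_top _⟩
  haveI : Ring.KrullDimLE 1 A := by
    rw [Ring.krullDimLE_iff, ← PrimeSpectrum.topologicalKrullDim_eq_ringKrullDim]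
    calc topologicalKrullDim (Spec A) ≤ topologicalKrullDim S :=
          (e.inv ≫ j).isOpenEmbedding.isInducing.topologicalKrullDim_le
      _ ≤ (1 : ℕ) := by exact_mod_cast hS
  let j' : Spec (CommRingCat.of A) ⟶ S := e.inv ≫ j
  let G' := Red.bc j' G
  haveI : QuasiCompact G'.hom := inferInstanceAs (QuasiCompact (pullback.snd _ _))
  haveI : IsSeparated G'.hom := inferInstanceAs (IsSeparated (pullback.snd _ _))
  haveI : Flat G'.hom := inferInstanceAs (Flat (pullback.snd _ _))
  haveI : LocallyOfFiniteType G'.hom := inferInstanceAs (LocallyOfFiniteType (pullback.snd _ _))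
  have h : IsAffineHom G'.hom := isAffineHom_of_noetherian G' fun F _ f => by
    show IsAffineHom (pullback.snd (pullback.snd G.hom j') f)
    rw [← pullbackLeftPullbackSndIso_hom_snd]
    haveI : IsAffineHom (pullback.snd G.hom (f ≫ j')) := affAt_field G hfib F _
    infer_instance
  have h2 : AffAt G (e.hom ≫ j') := affAt_comp G e.hom j' h
  rwa [Iso.hom_inv_id_assoc] at h2

end Groth.Agent.ParLib.GrpDimOne
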