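import Groth.Prelude.Def_RedSub
import Groth.Agent.FlatMisc.Fibrewise
import Mathlib.AlgebraicGeometry.Morphisms.LocalFlatDescent

/-!
# Base change of morphisms over a scheme and fibrewise smoothness
-/

universe u
set_option autoImplicit false
open AlgebraicGeometry CategoryTheory CategoryTheory.Limits MonoidalCategory CartesianMonoidalCategory MonObj

namespace Groth.Agent.ParLib

variable {S T : Scheme.{u}}

theorem isPullback_map_left (g : T ⟶ S) {X Y : Over S} (φ : X ⟶ Y) :
    IsPullback ((Over.pullback g).map φ).left (pullback.fst X.hom g) (pullback.fst Y.hom g) φ.left := by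
  have h2 : ((Over.pullback g).map φ).left ≫ pullback.snd Y.hom g = pullback.snd X.hom g :=
    Over.w ((Over.pullback g).map φ)
  have h1 : ((Over.pullback g).map φ).left ≫ pullback.fst Y.hom g = pullback.fst X.hom g ≫ φ.left :=
    pullback.lift_fst _ _ _
  refine IsPullback.of_right (h₁₂ := pullback.snd Y.hom g) (h₂₂ := Y.hom) (v₁₃ := g) ?_ h1
    (IsPullback.of_hasPullback Y.hom g).flip
  rw [h2, Over.w]
  exact (IsPullback.of_hasPullback X.hom g).flip

theorem smooth_pullback_map (g : T ⟶ S) {X Y : Over S} (φ : X ⟶ Y) (h : Smooth φ.left) :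
    Smooth ((Over.pullback g).map φ).left :=
  MorphismProperty.of_isPullback (isPullback_map_left g φ).flip h

theorem smooth_of_fibres {X Y : Over S} (φ : X ⟶ Y) [LocallyOfFiniteType Y.hom]
    [LocallyOfFinitePresentation X.hom] [Flat X.hom]
    (h : ∀ s : S, Smooth ((Over.pullback (S.fromSpecResidueField s)).map φ).left) : Smooth φ.left := by
  have : LocallyOfFinitePresentation (φ.left ≫ Y.hom) := by rw [Over.w]; infer_instance
  have : Flat (φ.left ≫ Y.hom) := by rw [Over.w]; infer_instance
  refine FlatMisc.smooth_of_smooth_fibres Y.hom φ.left fun s => ?_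
  have hp : IsPullback (pullback.fst X.hom (S.fromSpecResidueField s))
      ((Over.pullback (S.fromSpecResidueField s)).map φ).left φ.left (Y.hom.fiberι s) :=
    (isPullback_map_left (S.fromSpecResidueField s) φ).flip
  have : Smooth ((Over.pullback (S.fromSpecResidueField s)).map φ).left := h s
  have e : hp.isoPullback.inv ≫ ((Over.pullback (S.fromSpecResidueField s)).map φ).left =
    pullback.snd φ.left (Y.hom.fiberι s) := hp.isoPullback_inv_snd
  rw [← e]
  have hi : Smooth hp.isoPullback.inv := inferInstance
  exact @smooth_comp _ _ _ _ _ hi this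

theorem smooth_map_of_comp {A B : Scheme.{u}} (c : B ⟶ A) (i : A ⟶ S) [Surjective c] [Flat c]
    [QuasiCompact c] {X Y : Over S} (φ : X ⟶ Y) (h : Smooth ((Over.pullback (c ≫ i)).map φ).left) :
    Smooth ((Over.pullback i).map φ).left := by
  have hX := pullback.condition (f := X.hom) (g := c ≫ i)
  have hY := pullback.condition (f := Y.hom) (g := c ≫ i)
  let x : pullback X.hom (c ≫ i) ⟶ pullback X.hom i :=
    pullback.lift (pullback.fst _ _) (pullback.snd _ _ ≫ c) (by simp [hX])
  let y : pullback Y.hom (c ≫ i) ⟶ pullback Y.hom i :=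
    pullback.lift (pullback.fst _ _) (pullback.snd _ _ ≫ c) (by simp [hY])
  have hy : IsPullback y (pullback.snd Y.hom (c ≫ i)) (pullback.snd Y.hom i) c :=
    IsPullback.of_right (by rw [pullback.lift_fst]; exact IsPullback.of_hasPullback Y.hom (c ≫ i))
      (pullback.lift_snd _ _ _) (IsPullback.of_hasPullback Y.hom i)
  have : Surjective y := MorphismProperty.of_isPullback hy.flip ‹Surjective c›
  have : Flat y := MorphismProperty.of_isPullback hy.flip ‹Flat c›
  have : QuasiCompact y := MorphismProperty.of_isPullback hy.flip ‹QuasiCompact c›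
  have hw : x ≫ ((Over.pullback i).map φ).left = ((Over.pullback (c ≫ i)).map φ).left ≫ y := by
    have a1 := pullback.lift_fst (f := X.hom) (g := i) (pullback.fst _ _) (pullback.snd X.hom (c ≫ i) ≫ c) (by simp [hX])
    apply pullback.hom_ext
    · rw [Category.assoc, Category.assoc, pullback.lift_fst, (isPullback_map_left i φ).w,
        (isPullback_map_left (c ≫ i) φ).w, reassoc_of% a1]
    · rw [Category.assoc, Category.assoc, pullback.lift_snd,
        show ((Over.pullback i).map φ).left ≫ pullback.snd Y.hom i = pullback.snd X.hom i from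
          Over.w ((Over.pullback i).map φ), pullback.lift_snd,
        ← Category.assoc, show ((Over.pullback (c ≫ i)).map φ).left ≫ pullback.snd Y.hom (c ≫ i) =
          pullback.snd X.hom (c ≫ i) from Over.w ((Over.pullback (c ≫ i)).map φ)]
  have hsq : IsPullback x ((Over.pullback (c ≫ i)).map φ).left ((Over.pullback i).map φ).left y := by
    refine IsPullback.of_right ?_ hw (isPullback_map_left i φ).flip
    rw [pullback.lift_fst, pullback.lift_fst]
    exact (isPullback_map_left (c ≫ i) φ).flip
  exact MorphismProperty.of_isPullback_of_descendsAlong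
    (Q := @Surjective ⊓ @Flat ⊓ @QuasiCompact) hsq.flip ⟨⟨‹Surjective y›, ‹Flat y›⟩, ‹QuasiCompact y›⟩ h

/-- Smoothness of a morphism over `T` descends along a surjective morphism `T ⟶ S` to every fibre. -/
theorem smooth_fibre_of_surjective (g : T ⟶ S) [Surjective g] {X Y : Over S} (φ : X ⟶ Y)
    (h : Smooth ((Over.pullback g).map φ).left) (s : S) :
    Smooth ((Over.pullback (S.fromSpecResidueField s)).map φ).left := by
  obtain ⟨t, rfl⟩ := g.surjective s
  let c := Spec.map (g.residueFieldMap t)
  have : Surjective c := ⟨fun x => ⟨default, Subsingleton.elim _ _⟩⟩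
  have h1 := smooth_pullback_map (T.fromSpecResidueField t) _ h
  let e : Arrow.mk ((Over.pullback (T.fromSpecResidueField t ≫ g)).map φ).left ≅
      Arrow.mk ((Over.pullback (T.fromSpecResidueField t)).map ((Over.pullback g).map φ)).left :=
    Arrow.isoMk ((Over.forget _).mapIso ((Over.pullbackComp (T.fromSpecResidueField t) g).app X))
      ((Over.forget _).mapIso ((Over.pullbackComp (T.fromSpecResidueField t) g).app Y))
      (congrArg (fun f => f.left)
        ((Over.pullbackComp (T.fromSpecResidueField t) g).hom.naturality φ).symm)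
  have h2 : Smooth ((Over.pullback (T.fromSpecResidueField t ≫ g)).map φ).left :=
    by
    haveI : MorphismProperty.RespectsIso (C := Scheme.{u}) @Smooth :=
      MorphismProperty.IsStableUnderBaseChange.respectsIso
    exact (MorphismProperty.arrow_mk_iso_iff (P := @Smooth) e).mpr h1
  refine smooth_map_of_comp c _ φ ?_
  rw [Scheme.Hom.SpecMap_residueFieldMap_fromSpecResidueField]
  exact h2

/-- The fibre product of two homomorphisms is a base change of the product map along the unit. -/
theorem smooth_hom_of_smooth_mul {G P Q I : Over S} [GrpObj G] [GrpObj P] [GrpObj Q]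
    (p : P ⟶ G) (q : Q ⟶ G) [IsMonHom q] (m : I ⟶ P) (m' : I ⟶ Q)
    (hI : IsPullback m m' p q) (h : Smooth ((p ⊗ₘ q) ≫ μ[G]).left) : Smooth I.hom := by
  let j : I ⟶ P ⊗ Q := lift m (m'⁻¹)
  have hsq : IsPullback j (toUnit I) ((p ⊗ₘ q) ≫ μ[G]) (η[G]) := by
    have key : ∀ {X : Over S} (a : X ⟶ P) (b : X ⟶ Q),
        lift a b ≫ (p ⊗ₘ q) ≫ μ[G] = (a ≫ p) * (b ≫ q) := by
      intro X a b
      rw [lift_map_assoc, ← Hom.mul_def]
    have hη : ∀ {X : Over S}, toUnit X ≫ η[G] = 1 := fun {X} => by rw [← Hom.one_def]
    refine IsPullback.of_isLimit (PullbackCone.IsLimit.mk (fst := j) (snd := toUnit I) ?_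
      (fun c => hI.lift (c.fst ≫ fst _ _) ((c.fst ≫ snd _ _)⁻¹) ?_) ?_ ?_ ?_)
    · simp only [j]
      rw [key, hη, hI.w, GrpObj.inv_comp, mul_inv_cancel]
    · have hc := c.condition
      rw [show c.fst = lift (c.fst ≫ fst _ _) (c.fst ≫ snd _ _) by simp, key,
        Subsingleton.elim c.snd (toUnit _), hη] at hc
      rw [GrpObj.inv_comp, eq_inv_iff_mul_eq_one]
      exact hc
    · intro c
      simp only [j, comp_lift, GrpObj.comp_inv, IsPullback.lift_fst, IsPullback.lift_snd, inv_inv,
        lift_comp_fst_snd]
    · exact fun c => Subsingleton.elim _ _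
    · intro c k h1 h2
      refine hI.hom_ext ?_ ?_
      · simp only [IsPullback.lift_fst, ← h1, j]
        simp
      · simp only [IsPullback.lift_snd, ← h1, j]
        simp [GrpObj.comp_inv]
  have h2 : Smooth (toUnit I).left :=
    MorphismProperty.of_isPullback (hsq.map (Over.forget S)) h
  have h3 : (toUnit I).left = I.hom := by simp
  rwa [h3] at h2

end Groth.Agent.ParLib
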