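import Groth.Agent.AGFRoot.BorelExist
import Groth.Agent.GITQuot.Good
import Groth.Agent.GrpSchLib.HomogeneousQuot

/-!
# A Borel subgroup is conjugate to any solvable subgroup with proper quotient, on points
-/

set_option autoImplicit false
set_option backward.isDefEq.respectTransparency false

universe u

open CategoryTheory CategoryTheory.Limits MonoidalCategory CartesianMonoidalCategory MonObj GrpObj AlgebraicGeometry

namespace Groth.Agent.ParLib

open AGFRoot

section Inner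

variable {S : Scheme.{u}} {G H : Over S} [GrpObj G] [GrpObj H] (g : 𝟙_ (Over S) ⟶ G)

omit [GrpObj H] in
theorem conjBy_eq_comp (h : H ⟶ G) : AGF.conjBy g h = h ≫ AGF.conjBy g (𝟙 G) := by
  show _ = h ≫ ((toUnit G ≫ g) * 𝟙 G * (toUnit G ≫ g)⁻¹)
  rw [MonObj.comp_mul, MonObj.comp_mul, GrpObj.comp_inv, ← Category.assoc, comp_toUnit, Category.comp_id]

omit [GrpObj H] in
theorem comp_conjBy {T : Over S} (x : T ⟶ H) (h : H ⟶ G) :
    x ≫ AGF.conjBy g h = (toUnit T ≫ g) * (x ≫ h) * (toUnit T ≫ g)⁻¹ := by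
  show x ≫ ((toUnit H ≫ g) * h * (toUnit H ≫ g)⁻¹) = _
  rw [MonObj.comp_mul, MonObj.comp_mul, GrpObj.comp_inv, ← Category.assoc, comp_toUnit]

theorem isMonHom_inner : IsMonHom (AGF.conjBy g (𝟙 G)) := by
  have h2 : ∀ {T : Over S} (q : T ⟶ G ⊗ G), q ≫ μ[G] = (q ≫ fst G G) * (q ≫ snd G G) := fun q => by
    rw [Hom.mul_def, ← comp_lift, lift_fst_snd, Category.comp_id]
  constructor
  · rw [comp_conjBy, Category.comp_id, show (η[G] : 𝟙_ (Over S) ⟶ G) = 1 by
      rw [Hom.one_def, toUnit_unit, Category.id_comp], _root_.mul_one, mul_inv_cancel]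
  · rw [comp_conjBy, Category.comp_id, h2, tensorHom_fst, tensorHom_snd, comp_conjBy, comp_conjBy,
      Category.comp_id, Category.comp_id]
    have e : μ[G] = fst G G * snd G G := by rw [Hom.mul_def, lift_fst_snd, Category.id_comp]
    rw [e]
    group

theorem inner_comp_inner (g' : 𝟙_ (Over S) ⟶ G) (hgg : g * g' = 1) :
    AGF.conjBy g' (𝟙 G) ≫ AGF.conjBy g (𝟙 G) = 𝟙 G := by
  have h1 : (toUnit G ≫ g) * (toUnit G ≫ g') = 1 := by rw [← MonObj.comp_mul, hgg, MonObj.comp_one]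
  have h2 : toUnit G ≫ g' = (toUnit G ≫ g)⁻¹ := (inv_eq_of_mul_eq_one_right h1).symm
  rw [comp_conjBy, Category.comp_id]
  show (toUnit G ≫ g) * ((toUnit G ≫ g') * 𝟙 G * (toUnit G ≫ g')⁻¹) * (toUnit G ≫ g)⁻¹ = 𝟙 G
  rw [h2]
  group

theorem isIso_inner : IsIso (AGF.conjBy g (𝟙 G)) :=
  ⟨AGF.conjBy g⁻¹ (𝟙 G), inner_comp_inner g⁻¹ g (inv_mul_cancel g), inner_comp_inner g g⁻¹ (mul_inv_cancel g)⟩

theorem isMonHom_conjBy (h : H ⟶ G) [IsMonHom h] : IsMonHom (AGF.conjBy g h) := by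
  have := isMonHom_inner g
  rw [conjBy_eq_comp]
  infer_instance

theorem isClosedImmersion_conjBy (h : H ⟶ G) [IsClosedImmersion h.left] :
    IsClosedImmersion (AGF.conjBy g h).left := by
  have := isIso_inner g
  have : IsIso (AGF.conjBy g (𝟙 G)).left := inferInstanceAs (IsIso ((Over.forget S).map (AGF.conjBy g (𝟙 G))))
  rw [conjBy_eq_comp, Over.comp_left]
  infer_instance

end Inner

variable {k : Type u} [Field k] [IsAlgClosed k] {G : Over (Spec (CommRingCat.of k))} [GrpObj G] [IsAffine G.left]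
  [LocallyOfFiniteType G.hom] [QuasiCompact G.hom]

/-- A connected solvable group mapping to `G` fixes a point of every proper quotient of `G`: it is
conjugate into the subgroup. -/
theorem exists_conj_factor {H B : Over (Spec (CommRingCat.of k))} [GrpObj H] [GrpObj B]
    (h : H ⟶ G) [IsMonHom h] [IsClosedImmersion h.left] [Smooth H.hom]
    (hp : ∀ (X : Over (Spec (CommRingCat.of k))) (a : AlgGrp.Action G X)
      (o : 𝟙_ (Over (Spec (CommRingCat.of k))) ⟶ X), AGF.IsQuotient h X a o → IsProper X.hom)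
    [IsAffine B.left] [Smooth B.hom] [ConnectedSpace B.left]
    [Group.IsSolvable (𝟙_ (Over (Spec (CommRingCat.of k))) ⟶ B)] (b : B ⟶ G) [IsMonHom b] :
    ∃ (g : 𝟙_ (Over (Spec (CommRingCat.of k))) ⟶ G) (f : B ⟶ H), IsMonHom f ∧ f ≫ AGF.conjBy g h = b := by
  have : IsAffine H.left := isAffine_of_isAffineHom h.left
  have : Mono h.left := inferInstance
  have : Mono h := Over.mono_of_mono_left h
  obtain ⟨Y, a, o, hY1, -, hY2, hY3, sq⟩ := GrpSchLib.HomogeneousQuot.exists_quot G H h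
  have hY : AGF.IsQuotient h Y a o := ⟨hY1, hY2, hY3, sq⟩
  have : IsProper Y.hom := hp Y a o hY
  have := hY1
  have : Nonempty Y.left := ⟨o.left (IsLocalRing.closedPoint k)⟩
  let a' : AlgGrp.Action B Y :=
    { act := (b ▷ Y) ≫ a.act
      one_act := by
        rw [← Category.assoc, ← MonoidalCategory.comp_whiskerRight, IsMonHom.one_hom, a.one_act]
      mul_act := by
        rw [← Category.assoc, ← MonoidalCategory.comp_whiskerRight, IsMonHom.mul_hom,
          MonoidalCategory.comp_whiskerRight, Category.assoc, a.mul_act]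
        simp only [← Category.assoc]
        refine congrArg (fun z => z ≫ a.act) ?_
        simp only [Category.assoc]
        have key : (b ⊗ₘ b) ▷ Y ≫ (α_ G G Y).hom ≫ snd G (G ⊗ Y) =
            (α_ B B Y).hom ≫ snd B (B ⊗ Y) ≫ b ▷ Y := by
          apply CartesianMonoidalCategory.hom_ext <;> simp
        apply CartesianMonoidalCategory.hom_ext <;> simp [reassoc_of% key] }
  obtain ⟨x, hx⟩ := exists_fixedPt a'
  obtain ⟨g, hg⟩ : ∃ g : 𝟙_ (Over (Spec (CommRingCat.of k))) ⟶ G, lift g o ≫ a.act = x :=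
    GITQuot.Good.exists_of_mem_orbit a o x (hY3.surj _)
  have key : (toUnit B ≫ g) ≫ a.orbitMap o = (b * (toUnit B ≫ g)) ≫ a.orbitMap o := by
    have h1 : (toUnit B ≫ g) ≫ a.orbitMap o = toUnit B ≫ x := by
      rw [← hg, Category.assoc]
      congr 1
      rw [Quot.comp_orbitMap', toUnit_unit, Category.id_comp]
    have h2 : lift b (toUnit B ≫ x) ≫ a.act = toUnit B ≫ x := by
      have := hx B (𝟙 B)
      rw [show lift b (toUnit B ≫ x) = lift (𝟙 B) (toUnit B ≫ x) ≫ (b ▷ Y) by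
        apply CartesianMonoidalCategory.hom_ext <;> simp, Category.assoc]
      exact this
    rw [Quot.mul_orbitMap, h1, h2]
  obtain ⟨f, hf⟩ := (Quot.orbit_eq_iff sq _ _).mp key
  have hfb : f ≫ AGF.conjBy g h = b := by
    show f ≫ ((toUnit H ≫ g) * h * (toUnit H ≫ g)⁻¹) = b
    rw [MonObj.comp_mul, MonObj.comp_mul, GrpObj.comp_inv, ← Category.assoc, comp_toUnit, ← hf,
      mul_inv_cancel_right]
  refine ⟨g, f, ?_, hfb⟩
  have e : f ≫ h = AGF.conjBy g⁻¹ b := by
    show f ≫ h = (toUnit B ≫ g⁻¹) * b * (toUnit B ≫ g⁻¹)⁻¹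
    rw [GrpObj.comp_inv, _root_.inv_inv, _root_.mul_assoc, hf, inv_mul_cancel_left]
  have : IsMonHom (f ≫ h) := e ▸ isMonHom_conjBy g⁻¹ b
  constructor
  · rw [← cancel_mono h, Category.assoc, IsMonHom.one_hom (f ≫ h), IsMonHom.one_hom h]
  · rw [← cancel_mono h, Category.assoc, IsMonHom.mul_hom (f ≫ h), Category.assoc, IsMonHom.mul_hom h,
      ← Category.assoc, MonoidalCategory.tensorHom_comp_tensorHom]

/-- A Borel subgroup is a conjugate of every solvable connected subgroup with proper quotient. -/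
theorem exists_conj_iso {H B : Over (Spec (CommRingCat.of k))} [GrpObj H] [GrpObj B]
    (h : H ⟶ G) [IsMonHom h] [IsClosedImmersion h.left] (hHsm : Smooth H.hom) (hHc : ConnectedSpace H.left)
    (hHs : Red.IsSolvableGrp H)
    (hp : ∀ (X : Over (Spec (CommRingCat.of k))) (a : AlgGrp.Action G X)
      (o : 𝟙_ (Over (Spec (CommRingCat.of k))) ⟶ X), AGF.IsQuotient h X a o → IsProper X.hom)
    (b : B ⟶ G) (hb : Red.IsBorelOver k b) :
    ∃ (g : 𝟙_ (Over (Spec (CommRingCat.of k))) ⟶ G) (f : B ⟶ H), IsIso f ∧ f ≫ AGF.conjBy g h = b := by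
  obtain ⟨_, _, _, _, hBs, hmax⟩ := hb
  have : IsAffine B.left := isAffine_of_isAffineHom b.left
  have : Group.IsSolvable (𝟙_ (Over (Spec (CommRingCat.of k))) ⟶ B) := by
    obtain ⟨n, hn⟩ := hBs
    exact (Group.isSolvable_def _).mpr ⟨n, hn _⟩
  obtain ⟨g, f, _, hfb⟩ := exists_conj_factor h hp b
  refine ⟨g, f, ?_, hfb⟩
  have := isMonHom_conjBy g h
  exact hmax H (AGF.conjBy g h) f (isClosedImmersion_conjBy g h) hHsm hHc hHs hfb

end Groth.Agent.ParLib
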