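import Groth.Agent.BigCell29.CellAlg
import Groth.Agent.GrpSchLib.FibreIrr
import Groth.Agent.BigCell29.Bridge
import Mathlib.RingTheory.Flat.FaithfullyFlat.Algebra
import Mathlib.RingTheory.Smooth.Flat
import Mathlib.RingTheory.Spectrum.Prime.Topology

/-!
# Fixed subgroups of cocharacters are covered by products of two points near the unit
-/

set_option autoImplicit false
set_option linter.style.haveILetI false
set_option synthInstance.maxHeartbeats 100000

universe u

open TensorProduct WithConv CategoryTheory CategoryTheory.Limits AlgebraicGeometry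
open scoped AddMonoidAlgebra

namespace Groth.Agent.ParLib

open BigCell29

variable {R : Type u} [CommRing R] {A : Type u} [CommRing A] [HopfAlgebra R A] (D : Coact R A ℤ)

/-- The fixed subgroup of a smooth group is smooth. -/
theorem smooth_zRing [Algebra.Smooth R A] : Algebra.Smooth R D.ZRing := by
  haveI : Algebra.FinitePresentation R A := Algebra.Smooth.finitePresentation
  haveI : Algebra.FormallySmooth R A := Algebra.Smooth.formallySmooth
  haveI : Algebra.FormallySmooth R D.ZRing := by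
    refine Algebra.FormallySmooth.of_comp_surjective fun B _ _ I hI f => ?_
    let π : B →ₐ[R] B ⧸ I := Ideal.Quotient.mkₐ R I
    have hsq : SqZero π := fun x y hx hy => by
      have h := Ideal.mul_mem_mul (Ideal.Quotient.eq_zero_iff_mem.mp hx) (Ideal.Quotient.eq_zero_iff_mem.mp hy)
      rwa [← pow_two, hI] at h
    obtain ⟨g, hg⟩ := exists_lift hsq Ideal.Quotient.mk_surjective (mapPt f D.zPt)
    obtain ⟨g', hg', e⟩ := D.exists_inZ_lift hsq g (by rw [hg]; exact Coact.InZ.map D D.inZ_zPt f)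
    refine ⟨D.zLift hg', D.zHom_ext ?_⟩
    rw [← mapPt_mapPt, D.mapPt_zLift, e, hg]
  exact ⟨inferInstance, inferInstance⟩

variable (K : Type u) [Field K] [Algebra R K]

/-- The fixed subgroup inherits irreducibility from the group, over any field. -/
theorem irreducibleSpace_zRing [Algebra.Smooth R A] [IrreducibleSpace (PrimeSpectrum (K ⊗[R] A))] :
    IrreducibleSpace (PrimeSpectrum (K ⊗[R] D.ZRing)) := by
  haveI : Algebra.FinitePresentation R A := Algebra.Smooth.finitePresentation
  haveI : Algebra.FormallySmooth R A := Algebra.Smooth.formallySmooth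
  haveI := D.isOpenImmersion_cellMor
  let a := Spec.map (CommRingCat.ofHom (algebraMap R K))
  let b := Spec.map (CommRingCat.ofHom (algebraMap R A))
  let c := Spec.map (CommRingCat.ofHom (algebraMap R D.CellRing))
  have hc : c ≫ 𝟙 _ = D.cellMor ≫ b := by
    rw [Category.comp_id]
    simp only [c, b, Coact.cellMor, ← Spec.map_comp, ← CommRingCat.ofHom_comp]
    congr 2
    exact (D.cellHom.comp_algebraMap).symm
  let j : pullback a c ⟶ pullback a b :=
    pullback.map a c a b (𝟙 _) D.cellMor (𝟙 _) (by simp) hc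
  haveI : IsOpenImmersion j := inferInstance
  let q : Spec (CommRingCat.of (K ⊗[R] D.CellRing)) ⟶ Spec (CommRingCat.of (K ⊗[R] A)) :=
    (pullbackSpecIso R K D.CellRing).inv ≫ j ≫ (pullbackSpecIso R K A).hom
  haveI : IsOpenImmersion q := inferInstance
  haveI hirr : IrreducibleSpace (Spec (CommRingCat.of (K ⊗[R] A))) := ‹_›
  let ev : D.CellRing →ₐ[R] K := D.cellLift (D.inv.inU_one) (D.inZ_one) (D.inU_one)
  let evK : K ⊗[R] D.CellRing →ₐ[R] K := Algebra.TensorProduct.lift (AlgHom.id R K) ev fun _ _ => .all ..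
  haveI : Nontrivial (K ⊗[R] D.CellRing) := evK.toRingHom.domain_nontrivial
  haveI : PreirreducibleSpace (Spec (CommRingCat.of (K ⊗[R] D.CellRing))) :=
    q.isOpenEmbedding.preirreducibleSpace
  haveI : IrreducibleSpace (PrimeSpectrum (K ⊗[R] D.CellRing)) :=
    { toPreirreducibleSpace := ‹PreirreducibleSpace (Spec (CommRingCat.of (K ⊗[R] D.CellRing)))›
      toNonempty := inferInstance }
  let ι' : K ⊗[R] D.ZRing →ₐ[R] K ⊗[R] D.CellRing := Algebra.TensorProduct.map (AlgHom.id R K) D.inclZ
  let ret : K ⊗[R] D.CellRing →ₐ[R] K ⊗[R] D.ZRing := Algebra.TensorProduct.map (AlgHom.id R K)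
    (D.cellLift (D.inv.inU_one (B := D.ZRing)) D.inZ_zPt D.inU_one)
  have hret : ret.comp ι' = AlgHom.id R _ := by
    rw [← Algebra.TensorProduct.map_comp, D.cellLift_inclZ, AlgHom.comp_id,
      show D.zLift D.inZ_zPt = AlgHom.id R _ from D.zHom_ext (by rw [D.mapPt_zLift, mapPt_id]),
      Algebra.TensorProduct.map_id]
  have hsurj : Function.Surjective (PrimeSpectrum.comap ι'.toRingHom) := fun p => by
    refine ⟨PrimeSpectrum.comap ret.toRingHom p, ?_⟩
    rw [← PrimeSpectrum.comap_comp_apply]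
    have : ret.toRingHom.comp ι'.toRingHom = RingHom.id _ := congrArg AlgHom.toRingHom hret
    rw [this, PrimeSpectrum.comap_id]
  exact hsurj.irreducibleSpace (PrimeSpectrum.continuous_comap _)

/-- The fixed subgroup is generated by its part where `c` is invertible. -/
theorem inZ_apply_eq_zero [Algebra.Smooth R A] (J : Set A) (c : A) (hc : Coalgebra.counit (R := R) c = 1)
    (hirr : ∀ (K : Type u) [Field K] [Algebra R K], IrreducibleSpace (PrimeSpectrum (K ⊗[R] A)))
    (hmul : ∀ (B : Type u) [CommRing B] [Algebra R B] (g h : Pt R A B),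
      (∀ a ∈ J, g a = 0) → (∀ a ∈ J, h a = 0) → ∀ a ∈ J, (g * h) a = 0)
    (hnear : ∀ (B : Type u) [CommRing B] [Algebra R B] (g : Pt R A B), D.InZ g → IsUnit (g c) →
      ∀ a ∈ J, g a = 0)
    {B : Type u} [CommRing B] [Algebra R B] {g : Pt R A B} (hg : D.InZ g) : ∀ a ∈ J, g a = 0 := by
  suffices hz : ∀ a ∈ J, D.zPt a = 0 by
    intro a ha
    rw [← D.mapPt_zLift hg, mapPt_apply, hz a ha, map_zero]
  haveI := smooth_zRing D
  let C := D.ZRing
  let i1 : C →ₐ[R] C ⊗[R] C := Algebra.TensorProduct.includeLeft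
  let i2 : C →ₐ[R] C ⊗[R] C := Algebra.TensorProduct.includeRight
  let z1 := mapPt i1 D.zPt
  let w := mapPt i2 D.zPt
  have hz1 : D.InZ z1 := Coact.InZ.map D D.inZ_zPt i1
  have hw : D.InZ w := Coact.InZ.map D D.inZ_zPt i2
  let e := z1 * w⁻¹
  have he : D.InZ e := Coact.InZ.mul D hz1 (Coact.InZ.inv D hw)
  let s : C ⊗[R] C := e c * w c
  let L := Localization.Away s
  let ψ : C ⊗[R] C →ₐ[R] L := IsScalarTower.toAlgHom R _ L
  haveI : Module.Flat (C ⊗[R] C) L := IsLocalization.flat L (Submonoid.powers s)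
  haveI : Module.Flat C L := Module.Flat.trans C (C ⊗[R] C) L
  haveI : Module.FaithfullyFlat C L := by
    refine Module.FaithfullyFlat.of_comap_surjective fun q => ?_
    let K := q.asIdeal.ResidueField
    let ζ : C →ₐ[R] K := IsScalarTower.toAlgHom R C K
    let ε : C →ₐ[R] K := D.zLift (D.inZ_one (B := K))
    let Φ : C ⊗[R] C →ₐ[R] K ⊗[R] C := Algebra.TensorProduct.map ζ (AlgHom.id R C)
    let v1 : K ⊗[R] C →ₐ[R] K := Algebra.TensorProduct.lift (AlgHom.id R K) ζ fun _ _ => .all ..
    let v2 : K ⊗[R] C →ₐ[R] K := Algebra.TensorProduct.lift (AlgHom.id R K) ε fun _ _ => .all ..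
    have hv1 : v1.comp Φ = Algebra.TensorProduct.lift ζ ζ fun _ _ => .all .. :=
      Algebra.TensorProduct.ext (AlgHom.ext fun x => by simp [v1, Φ]) (AlgHom.ext fun x => by simp [v1, Φ])
    have hv2 : v2.comp Φ = Algebra.TensorProduct.lift ζ ε fun _ _ => .all .. :=
      Algebra.TensorProduct.ext (AlgHom.ext fun x => by simp [v2, Φ]) (AlgHom.ext fun x => by simp [v2, Φ])
    have h1 : v1 (Φ (e c)) = 1 := by
      rw [← AlgHom.comp_apply, hv1, ← mapPt_apply]
      simp only [e, map_mul, map_inv, z1, w, mapPt_mapPt]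
      rw [show (Algebra.TensorProduct.lift ζ ζ fun _ _ => .all ..).comp i1 = ζ from AlgHom.ext fun x => by simp [i1],
        show (Algebra.TensorProduct.lift ζ ζ fun _ _ => .all ..).comp i2 = ζ from AlgHom.ext fun x => by simp [i2],
        mul_inv_cancel]
      simp only [AlgHom.convOne_apply, hc, map_one]
    have h2 : v2 (Φ (w c)) = 1 := by
      rw [← AlgHom.comp_apply, hv2, ← mapPt_apply]
      simp only [w, mapPt_mapPt]
      rw [show (Algebra.TensorProduct.lift ζ ε fun _ _ => .all ..).comp i2 = ε from AlgHom.ext fun x => by simp [i2]]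
      rw [show ε = D.zLift (D.inZ_one (B := K)) from rfl]
      erw [D.mapPt_zLift (D.inZ_one (B := K))]
      simp only [AlgHom.convOne_apply, hc, map_one]
    haveI := hirr K
    haveI := irreducibleSpace_zRing D K
    have hne : ∀ (v : K ⊗[R] C →ₐ[R] K) (x : K ⊗[R] C), v x = 1 →
        (PrimeSpectrum.basicOpen x : Set (PrimeSpectrum (K ⊗[R] C))).Nonempty := fun v x hx =>
      ⟨⟨RingHom.ker v.toRingHom, RingHom.ker_isPrime _⟩, fun hm => one_ne_zero (α := K) (hx.symm.trans hm)⟩
    obtain ⟨P, hP1, hP2⟩ := nonempty_preirreducible_inter (PrimeSpectrum.basicOpen (Φ (e c))).isOpen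
      (PrimeSpectrum.basicOpen (Φ (w c))).isOpen (hne v1 _ h1) (hne v2 _ h2)
    let Q := PrimeSpectrum.comap Φ.toRingHom P
    have hQ : Q ∈ Set.range (PrimeSpectrum.comap (algebraMap (C ⊗[R] C) L)) := by
      rw [PrimeSpectrum.localization_away_comap_range L s]
      intro hs
      rcases P.isPrime.mem_or_mem ((map_mul Φ (e c) (w c)) ▸ hs : Φ (e c) * Φ (w c) ∈ P.asIdeal) with h | h
      · exact hP1 h
      · exact hP2 h
    obtain ⟨Q', hQ'⟩ := hQ
    refine ⟨Q', ?_⟩
    have hcomp : Φ.toRingHom.comp (algebraMap C (C ⊗[R] C)) =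
        (algebraMap K (K ⊗[R] C)).comp (algebraMap C K) := RingHom.ext fun x => by simp [Φ, ζ]
    rw [IsScalarTower.algebraMap_eq C (C ⊗[R] C) L,
      PrimeSpectrum.comap_comp_apply, hQ', ← PrimeSpectrum.comap_comp_apply, hcomp,
      PrimeSpectrum.comap_comp_apply]
    refine PrimeSpectrum.ext ?_
    show Ideal.comap (algebraMap C K) (PrimeSpectrum.comap (algebraMap K (K ⊗[R] C)) P).asIdeal = q.asIdeal
    rw [(Ideal.eq_bot_or_top (PrimeSpectrum.comap (algebraMap K (K ⊗[R] C)) P).asIdeal).resolve_right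
        (PrimeSpectrum.comap (algebraMap K (K ⊗[R] C)) P).isPrime.ne_top,
      ← RingHom.ker_eq_comap_bot, Ideal.ker_algebraMap_residueField]
  have hs : IsUnit (ψ s) := IsLocalization.Away.algebraMap_isUnit s
  rw [show ψ s = ψ (e c) * ψ (w c) from map_mul ψ _ _, IsUnit.mul_iff] at hs
  have hprod := hmul L (mapPt ψ e) (mapPt ψ w)
    (hnear L _ (Coact.InZ.map D he ψ) hs.1) (hnear L _ (Coact.InZ.map D hw ψ) hs.2)
  intro a ha
  refine FaithfulSMul.algebraMap_injective C L ?_
  rw [map_zero]
  have h := hprod a ha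
  rw [← map_mul, show e * w = z1 from inv_mul_cancel_right z1 w] at h
  exact h

/-- A function with value one at the unit whose non-vanishing locus lies in a given open. -/
theorem exists_fn_of_isOpenImmersion {C : Type u} [CommRing C] [Algebra R C] (φ : A →ₐ[R] C)
    [IsOpenImmersion (Spec.map (CommRingCat.ofHom φ.toRingHom))] (u : C →ₐ[R] R)
    (hu : u.comp φ = Bialgebra.counitAlgHom R A) :
    ∃ c : A, Coalgebra.counit (R := R) c = 1 ∧ ∀ (B : Type u) [CommRing B] [Algebra R B] (g : Pt R A B),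
      IsUnit (g c) → ∃ ψ : C →ₐ[R] B, mapPt ψ (toConv φ) = g := by
  set m := Spec.map (CommRingCat.ofHom φ.toRingHom)
  obtain ⟨I, hI⟩ := (PrimeSpectrum.isClosed_iff_zeroLocus_ideal
    (Set.range (PrimeSpectrum.comap φ.toRingHom))ᶜ).mp (m.isOpenEmbedding.isOpen_range.isClosed_compl)
  have htop : I.map (Bialgebra.counitAlgHom R A).toRingHom = ⊤ := by
    by_contra hne
    obtain ⟨M, hM, hle⟩ := Ideal.exists_le_maximal _ hne
    have h1 : PrimeSpectrum.comap (Bialgebra.counitAlgHom R A).toRingHom ⟨M, hM.isPrime⟩ ∈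
        PrimeSpectrum.zeroLocus (I : Set A) := fun x hx => hle (Ideal.mem_map_of_mem _ hx)
    rw [← hI] at h1
    exact h1 ⟨PrimeSpectrum.comap u.toRingHom ⟨M, hM.isPrime⟩, by
      rw [← PrimeSpectrum.comap_comp_apply, ← hu]; rfl⟩
  obtain ⟨c, hc, hc1⟩ := (Ideal.mem_map_iff_of_surjective (Bialgebra.counitAlgHom R A).toRingHom
    fun r => ⟨algebraMap R A r, by simp⟩).mp (htop ▸ Submodule.mem_top : (1 : R) ∈ _)
  refine ⟨c, hc1, fun B _ _ g hg => ?_⟩
  let γ := Spec.map (CommRingCat.ofHom g.ofConv.toRingHom)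
  have hr : Set.range γ.base ⊆ Set.range m.base := by
    rintro _ ⟨p, rfl⟩
    by_contra hp
    have h2 : PrimeSpectrum.comap g.ofConv.toRingHom p ∈ PrimeSpectrum.zeroLocus (I : Set A) := by
      rw [← hI]; exact hp
    exact p.isPrime.ne_top (Ideal.eq_top_of_isUnit_mem _ (h2 hc) hg)
  obtain ⟨l, hl⟩ := Spec.map_surjective (IsOpenImmersion.lift m γ hr)
  have hl' : CommRingCat.ofHom φ.toRingHom ≫ l = CommRingCat.ofHom g.ofConv.toRingHom :=
    Spec.map_injective (by rw [Spec.map_comp, hl, IsOpenImmersion.lift_fac])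
  have hpt : ∀ a, l.hom (φ a) = g a := fun a =>
    congrArg (fun k : CommRingCat.of A ⟶ CommRingCat.of B => k.hom a) hl'
  exact ⟨⟨l.hom, fun r => by
    rw [← φ.commutes r]; exact (hpt _).trans (g.ofConv.commutes r)⟩, pt_ext hpt⟩

/-- The coordinate ring of a group with connected fibres stays irreducible over any field. -/
theorem irreducibleSpace_model {S : Scheme.{u}} {f : Spec (CommRingCat.of R) ⟶ S} {G : Over S} [GrpObj G]
    (Md : Model f G A) [LocallyOfFiniteType G.hom] (hconn : ∀ s : S, _root_.IsConnected (G.hom ⁻¹' {s})) :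
    IrreducibleSpace (PrimeSpectrum (K ⊗[R] A)) := by
  let x : Spec (CommRingCat.of K) ⟶ S := Spec.map (CommRingCat.ofHom (algebraMap R K)) ≫ f
  let s := x (IsLocalRing.closedPoint K)
  obtain ⟨hgi, -⟩ := GrpSchLib.FibreIrr.geometricallyIrreducible_fib G s (hconn s)
  let r : Spec (CommRingCat.of K) ⟶ Spec (S.residueField s) :=
    Spec.map (Scheme.descResidueField (Scheme.stalkClosedPointTo x))
  have hr : r ≫ S.fromSpecResidueField s = x :=
    S.descResidueField_stalkClosedPointTo_fromSpecResidueField K x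
  haveI : GeometricallyIrreducible (pullback.snd G.hom (S.fromSpecResidueField s)) := hgi
  haveI : IrreducibleSpace ↥(pullback (pullback.snd G.hom (S.fromSpecResidueField s)) r) :=
    GeometricallyIrreducible.geometrically_irreducibleSpace
      (f := pullback.snd G.hom (S.fromSpecResidueField s)) _ _ _ (IsPullback.of_hasPullback _ _)
  have hA := (IsPullback.of_hasPullback (Spec.map (CommRingCat.ofHom (algebraMap R K)))
    (Spec.map (CommRingCat.ofHom (algebraMap R A)))).flip.paste_horiz Md.isPullback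
  let i : Spec (CommRingCat.of (K ⊗[R] A)) ≅ pullback (pullback.snd G.hom (S.fromSpecResidueField s)) r :=
    (pullbackSpecIso R K A).symm ≪≫ hA.isoPullback ≪≫ pullback.congrHom rfl hr.symm ≪≫
      (pullbackLeftPullbackSndIso G.hom (S.fromSpecResidueField s) r).symm
  exact i.inv.homeomorph.surjective.irreducibleSpace i.inv.continuous

end Groth.Agent.ParLib
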