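import Groth.Agent.ParLib.CentPts

/-!
# Polynomial conditions on a smooth subgroup with connected fibres may be tested on an open cell
-/

set_option autoImplicit false
set_option linter.style.haveILetI false
set_option synthInstance.maxHeartbeats 100000

universe u

open CategoryTheory CategoryTheory.Limits MonoidalCategory CartesianMonoidalCategory AlgebraicGeometry WithConv
open TensorProduct
open scoped MonObj AddMonoidAlgebra

namespace Groth.Agent.ParLib

open BigCell29 GrpSchLib.AffineHopf RedSub30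

variable {R : Type u} [CommRing R]

/-- The trivial action on a Hopf algebra. -/
noncomputable def trivCoact (A : Type u) [CommRing A] [HopfAlgebra R A] : Coact R A ℤ where
  c := AddMonoidAlgebra.singleZeroAlgHom
  act_mul B _ _ g h := by
    have key : ∀ k : Pt R A B, toConv ((AddMonoidAlgebra.mapAlgHom ℤ k.ofConv).comp
        (AddMonoidAlgebra.singleZeroAlgHom : A →ₐ[R] A[ℤ])) =
        mapPt AddMonoidAlgebra.singleZeroAlgHom k := fun k => pt_ext fun a => AddMonoidAlgebra.coeff_injective (Finsupp.ext fun n => by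
        by_cases hn : n = 0 <;> simp [hn])
    rw [key, key, key, map_mul]
  coassoc a m := by
    refine AddMonoidAlgebra.coeff_injective (Finsupp.ext fun n => ?_)
    by_cases hm : m = 0 <;> by_cases hn : n = 0 <;> simp [hm, hn]
  counit a := by
    show (AddMonoidAlgebra.single (0 : ℤ) a).coeff.sum (fun _ x => x) = a
    rw [AddMonoidAlgebra.coeff_single, Finsupp.sum_single_index rfl]

theorem inZ_trivCoact {A : Type u} [CommRing A] [HopfAlgebra R A] {B : Type u} [CommRing B] [Algebra R B]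
    (g : Pt R A B) : (trivCoact A).InZ g := by
  intro a n hn
  have : (trivCoact (R := R) A).p n a = 0 := by
    show (AddMonoidAlgebra.single (0 : ℤ) a).coeff n = 0
    rw [AddMonoidAlgebra.coeff_single, Finsupp.single_eq_of_ne hn]
  rw [this, map_zero]

/-- A function with value one at the unit whose non-vanishing locus lies in a given open set. -/
theorem exists_fn_of_isOpen {A : Type u} [CommRing A] [Algebra R A] (ε : A →ₐ[R] R) {O : Set (PrimeSpectrum A)}
    (hO : IsOpen O) (h : Set.range (PrimeSpectrum.comap ε.toRingHom) ⊆ O) :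
    ∃ c : A, ε c = 1 ∧ ∀ p : PrimeSpectrum A, c ∉ p.asIdeal → p ∈ O := by
  obtain ⟨I, hI⟩ := (PrimeSpectrum.isClosed_iff_zeroLocus_ideal Oᶜ).mp hO.isClosed_compl
  have htop : I.map ε.toRingHom = ⊤ := by
    by_contra hne
    obtain ⟨M, hM, hle⟩ := Ideal.exists_le_maximal _ hne
    have h1 : PrimeSpectrum.comap ε.toRingHom ⟨M, hM.isPrime⟩ ∈ PrimeSpectrum.zeroLocus (I : Set A) :=
      fun x hx => hle (Ideal.mem_map_of_mem _ hx)
    rw [← hI] at h1
    exact h1 (h ⟨_, rfl⟩)
  obtain ⟨c, hc, hc1⟩ := (Ideal.mem_map_iff_of_surjective ε.toRingHom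
    fun r => ⟨algebraMap R A r, ε.commutes r⟩).mp (htop ▸ Submodule.mem_top : (1 : R) ∈ _)
  exact ⟨c, hc1, fun p hp => not_not.mp fun hpO => hp ((hI ▸ hpO : p ∈ PrimeSpectrum.zeroLocus (I : Set A)) hc)⟩

/-- Polynomial conditions defining a submonoid, verified on an open cell around the unit section of a smooth affine
subgroup with connected fibres, hold on the whole subgroup. -/
theorem apply_eq_zero_of_cell {S : Scheme.{u}} {f : Spec (CommRingCat.of R) ⟶ S}
    {G H C : Over S} [GrpObj G] [GrpObj H] (h : H ⟶ G) [IsMonHom h] [IsAffineHom H.hom] [Smooth H.hom]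
    (hconn : ∀ s : S, _root_.IsConnected (H.hom ⁻¹' {s})) (c : C ⟶ H) [IsOpenImmersion c.left]
    (hone : Set.range η[H].left ⊆ Set.range c.left) {A : Type u} [CommRing A] [HopfAlgebra R A] (Md : Model f G A)
    (J : Set A)
    (hmul : ∀ (B : Type u) [CommRing B] [Algebra R B] (g g' : Pt R A B),
      (∀ a ∈ J, g a = 0) → (∀ a ∈ J, g' a = 0) → ∀ a ∈ J, (g * g') a = 0)
    (hnear : ∀ (B : Type u) [CommRing B] [Algebra R B] (z : tObj f B ⟶ C) (g : Pt R A B),
      Md.pt g = z ≫ c ≫ h → ∀ a ∈ J, g a = 0)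
    {B : Type u} [CommRing B] [Algebra R B] (y : tObj f B ⟶ H) : ∀ a ∈ J, Md.ofPt (y ≫ h) a = 0 := by
  obtain ⟨A', _, _, ⟨Md'⟩⟩ := exists_model f H
  haveI := Md'.smooth ‹Smooth H.hom›
  let idPt : Pt R A' A' := toConv (AlgHom.id R A')
  let π := Md.ofPt (Md'.pt idPt ≫ h)
  have hπ : ∀ {B' : Type u} [CommRing B'] [Algebra R B'] (p : Pt R A' B'),
      Md.pt (mapPt p.ofConv π) = Md'.pt p ≫ h := fun p => by
    rw [Md.pt_map, Md.pt_ofPt, ← Category.assoc, ← Md'.pt_map]
    rfl
  have hπmul : ∀ {B' : Type u} [CommRing B'] [Algebra R B'] (p q : Pt R A' B'),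
      mapPt (p * q).ofConv π = mapPt p.ofConv π * mapPt q.ofConv π := fun p q =>
    Md.pt_bijective.injective (by rw [Md.pt_mul, hπ, hπ, hπ, Md'.pt_mul, MonObj.mul_comp])
  have hone' : Set.range (PrimeSpectrum.comap (Bialgebra.counitAlgHom R A').toRingHom) ⊆
      Md'.toG ⁻¹' Set.range c.left := by
    rintro _ ⟨p, rfl⟩
    have e : (Md'.pt (1 : Pt R A' R)).left =
        Spec.map (CommRingCat.ofHom (Bialgebra.counitAlgHom R A').toRingHom) ≫ Md'.toG := by
      rw [Md'.pt_left]
      congr 3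
    show Md'.toG _ ∈ Set.range c.left
    refine hone ⟨(toUnit (tObj f R)).left p, ?_⟩
    rw [← Scheme.Hom.comp_apply, ← Over.comp_left, MonObj.one_eq_one, MonObj.comp_one, ← Md'.pt_one, e]
    rfl
  obtain ⟨d, hd, hdO⟩ := exists_fn_of_isOpen (Bialgebra.counitAlgHom R A')
    (c.left.isOpenEmbedding.isOpen_range.preimage Md'.toG.continuous) hone'
  obtain ⟨p, hp⟩ := Md'.pt_bijective.surjective y
  haveI : LocallyOfFiniteType H.hom := inferInstance
  have key := inZ_apply_eq_zero (trivCoact A') ((fun a => π a) '' J) d hd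
    (fun K _ _ => irreducibleSpace_model K Md' hconn)
    (fun B' _ _ g g' hg hg' => by
      rintro _ ⟨a, ha, rfl⟩
      have := hmul B' (mapPt g.ofConv π) (mapPt g'.ofConv π) (fun a ha => hg _ ⟨a, ha, rfl⟩)
        (fun a ha => hg' _ ⟨a, ha, rfl⟩) a ha
      rwa [← hπmul] at this)
    (fun B' _ _ g _ hgd => by
      rintro _ ⟨a, ha, rfl⟩
      have hr : Set.range (Md'.pt g).left.base ⊆ Set.range c.left := by
        rintro _ ⟨q, rfl⟩
        rw [Md'.pt_left]
        exact hdO _ fun hq => q.isPrime.ne_top (Ideal.eq_top_of_isUnit_mem _ hq hgd)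
      let z : tObj f B' ⟶ C := Over.homMk (IsOpenImmersion.lift c.left (Md'.pt g).left hr) (by
        rw [← Over.w c, IsOpenImmersion.lift_fac_assoc, Over.w (Md'.pt g)])
      have hz : z ≫ c = Md'.pt g := Over.OverMorphism.ext (IsOpenImmersion.lift_fac _ _ _)
      exact hnear B' z (mapPt g.ofConv π) (by rw [hπ, ← Category.assoc, hz]) a ha)
    (inZ_trivCoact p)
  intro a ha
  have e : Md.ofPt (y ≫ h) = mapPt p.ofConv π := Md.ofPt_eq_iff.mpr (by rw [hπ, hp])
  rw [e]
  exact key _ ⟨a, ha, rfl⟩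

end Groth.Agent.ParLib
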