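import Groth.Agent.ParLib.CentCell
import Groth.Agent.RedSub30.TypeRMain
import Groth.Agent.BigCell29.Global
import Groth.Agent.RedRk29.Geom
import Groth.Agent.RedRk29.Pts
import Mathlib.Data.Fintype.Basic
import Groth.Agent.RedRk29.Extremal

/-!
# Points fixed by a cocharacter lie in every closed subgroup containing the torus and the fixed root groups
-/

set_option autoImplicit false
set_option linter.style.haveILetI false
set_option synthInstance.maxHeartbeats 100000

universe u

open CategoryTheory CategoryTheory.Limits MonoidalCategory CartesianMonoidalCategory AlgebraicGeometry WithConv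
open scoped MonObj AddMonoidAlgebra

namespace Groth.Agent.ParLib

open BigCell29 GrpSchLib.AffineHopf RedSub30

section Frame

variable {R : Type u} [CommRing R] {A : Type u} [CommRing A] [HopfAlgebra R A] {M κ : Type} [AddCommGroup M]
  (F : Frame R A M κ) {B : Type u} [CommRing B] [Algebra R B]

/-- The coordinates of a fixed point of the cell vanish off the fixed roots. -/
theorem coord_eq_zero_of_inZ_ring {ν lam : M →+ ℤ} {n m : ℕ} {eneg : Fin n → κ} {epos : Fin m → κ}
    (h : F.IsSignEnum lam eneg epos) {y : Fin n → B} {χ : Multiplicative M →* B} {x : Fin m → B}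
    (hg : (F.cochar ν).InZ (F.prodPt eneg y * F.T.tor χ * F.prodPt epos x)) :
    (∀ j, ν (F.root (eneg j)) ≠ 0 → y j = 0) ∧ ∀ j, ν (F.root (epos j)) ≠ 0 → x j = 0 := by
  classical
  let c : B →ₐ[R] B[ℤ] := AddMonoidAlgebra.singleZeroAlgHom
  let mp : B[M] →ₐ[R] B[ℤ] := AddMonoidAlgebra.mapDomainAlgHom R B ν
  have hmp : ∀ j r, mp (AddMonoidAlgebra.single j r) = AddMonoidAlgebra.single (ν j) r := fun j r => by simp [mp]
  rw [Coact.inZ_iff, Coact.act_push, map_mul, map_mul] at hg
  have hprod : ∀ {k : ℕ} (e : Fin k → κ) (z : Fin k → B), mapPt mp (F.T.coact.act (F.prodPt e z)) =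
      F.prodPt e fun j => AddMonoidAlgebra.single (ν (F.root (e j))) (z j) := by
    intro k e z
    rw [F.T.act_eq, F.mapPt_prodPt, RedSub30.conj_prodPt, F.mapPt_prodPt]
    refine congrArg (F.prodPt e) (funext fun j => ?_)
    simp [Function.comp_apply, univChar_apply, AddMonoidAlgebra.single_mul_single, hmp]
  have htor : mapPt mp (F.T.coact.act (F.T.tor χ)) = mapPt c (F.T.tor χ) := by
    rw [F.act_tor, mapPt_mapPt]
    refine congrArg (fun φ => mapPt φ (F.T.tor χ)) (AlgHom.ext fun r => ?_)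
    simp [c, mp]
  rw [map_mul, map_mul, hprod, hprod, htor, map_mul, map_mul, F.mapPt_prodPt, F.mapPt_prodPt] at hg
  obtain ⟨e1, -, e3⟩ := (F.cochar lam).cell_inj (F.neg_inU h _) (F.neg_inU h _)
    (Coact.InZ.map _ (F.cochar_inZ_tor lam χ) c) (Coact.InZ.map _ (F.cochar_inZ_tor lam χ) c)
    (F.prodPt_inU lam _ h.pos _) (F.prodPt_inU lam _ h.pos _) hg
  have hz : ∀ {n : ℤ} {r : B}, n ≠ 0 → AddMonoidAlgebra.single n r = c r → r = 0 := fun {n r} hn he => by
    have := congrArg (fun q : B[ℤ] => q.coeff n) he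
    simp only [c, AddMonoidAlgebra.singleZeroAlgHom_apply, AddMonoidAlgebra.coeff_single, Finsupp.single_eq_same,
      Finsupp.single_eq_of_ne hn] at this
    exact this
  refine ⟨fun j hj => hz hj ?_, fun j hj => hz hj ?_⟩
  · exact congrFun ((F.exists_coords_neg h (F.neg_inU h _)).unique e1 rfl) j
  · exact congrFun ((F.exists_coords h.pos h.pos_inj h.pos_range (F.prodPt_inU lam _ h.pos _)).unique e3 rfl) j

end Frame

variable {S : Scheme.{u}}

section ClosedSub

variable {R : Type u} [CommRing R] {f : Spec (CommRingCat.of R) ⟶ S} {G H : Over S} [GrpObj G] [GrpObj H]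
  (h : H ⟶ G) {A : Type u} [CommRing A] [HopfAlgebra R A] (Md : Model f G A)
  {B : Type u} [CommRing B] [Algebra R B]

/-- Membership in a closed subgroup is tested by the functions vanishing on it. -/
theorem inSub_of_ann_closed [IsClosedImmersion h.left] (g : Pt R A B)
    (hann : ∀ a : A, (∀ (B' : Type u) [CommRing B'] [Algebra R B'] (k : Pt R A B'), InSub h Md k → k a = 0) → g a = 0) :
    InSub h Md g := by
  let j := pullback.snd h.left Md.toG
  haveI : IsClosedImmersion j := MorphismProperty.pullback_snd _ _ inferInstance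
  let gam : Spec (CommRingCat.of B) ⟶ Spec (CommRingCat.of A) := Spec.map (CommRingCat.ofHom g.ofConv.toRingHom)
  have hle : j.ker ≤ gam.ker := by
    rw [Scheme.ker_of_isAffine j, Scheme.ker_of_isAffine gam]
    refine Scheme.IdealSheafData.le_of_isAffine ?_
    simp only [Scheme.IdealSheafData.ofIdealTop_ideal, homOfLE_refl, op_id, CategoryTheory.Functor.map_id,
      CommRingCat.hom_id, Ideal.map_id]
    exact ker_le_of_ann h Md g hann
  have hl : IsClosedImmersion.lift j gam hle ≫ j = gam := IsClosedImmersion.lift_fac _ _ _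
  refine ⟨Over.homMk (IsClosedImmersion.lift j gam hle ≫ pullback.fst _ _) ?_, Over.OverMorphism.ext ?_⟩
  · have e := Over.w (Md.pt g)
    rw [← Over.w h, Category.assoc, pullback.condition_assoc, ← Category.assoc, hl]
    rw [Md.pt_left] at e
    exact (Category.assoc _ _ _).symm.trans e
  · refine Eq.trans ?_ (Md.pt_left g).symm
    show (IsClosedImmersion.lift j gam hle ≫ pullback.fst _ _) ≫ h.left = gam ≫ Md.toG
    rw [Category.assoc, pullback.condition, ← Category.assoc, hl]

end ClosedSub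

/-- A reductive group has connected fibres. -/
theorem isConnected_fibre {G : Over S} [GrpObj G] (hG : Red.IsReductive G) (s : S) :
    _root_.IsConnected (G.hom ⁻¹' {s}) := by
  haveI : ConnectedSpace ↥(pullback G.hom (Red.geomPt s)) := (hG.2.2 s).2.2.1
  have e : Set.range (pullback.fst G.hom (Red.geomPt s)) = G.hom ⁻¹' {s} := by
    rw [Scheme.Pullback.range_fst]
    congr 1
    exact Set.eq_singleton_iff_nonempty_unique_mem.mpr ⟨Set.range_nonempty _,
      fun _ ⟨x, hx⟩ => hx ▸ Scheme.fromSpecResidueField_apply s _⟩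
  rw [← e]
  exact isConnected_range (pullback.fst G.hom (Red.geomPt s)).continuous

variable {G L : Over S} [GrpObj G] [GrpObj L] (D : Red.SplitRed G) (l : L ⟶ G) [IsMonHom l]
  [IsClosedImmersion l.left]

/-- A point fixed by a cocharacter lies in every closed subgroup containing the torus and the root groups of
weight zero. -/
theorem exists_factor_of_inZ (t : D.T ⟶ L) (ht : t ≫ l = D.i) (ν : D.M →+ ℤ)
    (hroot : ∀ a : D.idx, ν (D.P.root a) = 0 → ∃ v : Red.Ga S ⟶ L, v ≫ l = D.u a) {X : Over S} (g : X ⟶ G)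
    (hg : ∀ (R : Type u) [CommRing R] (f : Spec (CommRingCat.of R) ⟶ S) [IsOpenImmersion f] (B : Type u)
      [CommRing B] [Algebra R B] (A : Type u) [CommRing A] [HopfAlgebra R A] (Md : Model f G A) (j : tObj f B ⟶ X),
        ((Md.frame D).cochar ν).InZ (Md.ofPt (j ≫ g))) :
    ∃ y : X ⟶ L, y ≫ l = g := by
  classical
  haveI := Fintype.ofFinite D.idx
  refine exists_factor_of_pts l g fun R _ f _ B _ _ j => ?_
  haveI : IsAffineHom G.hom := D.reductive.1
  obtain ⟨A, _, _, ⟨Md⟩⟩ := exists_model f G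
  haveI := Md.smooth D.reductive.2.1
  haveI : Algebra.FinitePresentation R A := Algebra.Smooth.finitePresentation
  haveI : Algebra.FormallySmooth R A := Algebra.Smooth.formallySmooth
  haveI : Smooth G.hom := D.reductive.2.1
  set F := Md.frame D
  obtain ⟨lam, hlam, -⟩ := RedRk29.exists_perturb (0 : D.M →+ ℤ) (Set.finite_range F.root)
  have hsg : ∃ (n m : ℕ) (eneg : Fin n → D.idx) (epos : Fin m → D.idx), F.IsSignEnum lam eneg epos := by
    let sn := Finset.univ.filter fun i => lam (F.root i) < 0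
    let sp := Finset.univ.filter fun i => 0 < lam (F.root i)
    refine ⟨sn.card, sp.card, fun j => (sn.equivFin.symm j : D.idx), fun j => (sp.equivFin.symm j : D.idx),
      ⟨fun j => (Finset.mem_filter.mp (sn.equivFin.symm j).2).2,
        fun j => (Finset.mem_filter.mp (sp.equivFin.symm j).2).2,
        Subtype.val_injective.comp sn.equivFin.symm.injective, Subtype.val_injective.comp sp.equivFin.symm.injective,
        fun i hi => ⟨sn.equivFin ⟨i, Finset.mem_filter.mpr ⟨Finset.mem_univ i, hi⟩⟩, by simp⟩,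
        fun i hi => ⟨sp.equivFin ⟨i, Finset.mem_filter.mpr ⟨Finset.mem_univ i, hi⟩⟩, by simp⟩,
        fun i => hlam (F.root i) ⟨i, rfl⟩ (D.P.ne_zero i)⟩⟩
  obtain ⟨n, m, eneg, epos, hs⟩ := hsg
  haveI := F.isOpenImmersion_splitMor hs
  haveI : IsOpenImmersion (Spec.map (CommRingCat.ofHom (F.splitHom eneg epos).toRingHom)) := ‹_›
  obtain ⟨c, hc, hcell⟩ := exists_fn_of_isOpenImmersion (F.splitHom eneg epos)
    (splLift (0 : Fin n → R) (1 : Multiplicative D.M →* R) (0 : Fin m → R)) (by
      refine congrArg WithConv.ofConv (?_ : mapPt _ (toConv (F.splitHom eneg epos)) = (1 : Pt R A R)) |>.trans ?_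
      · rw [F.mapPt_splitHom, splLift_Y, splLift_T, splLift_X, RedSub30.prodPt_zero, RedSub30.prodPt_zero, map_one,
          mul_one, mul_one]
      · exact AlgHom.ext fun a => by simp)
  obtain ⟨z, hz⟩ : InSub l Md (Md.ofPt (j ≫ g)) := by
    refine inSub_of_ann_closed l Md _ fun a ha => ?_
    refine inZ_apply_eq_zero (F.cochar ν)
      {a | ∀ (B' : Type u) [CommRing B'] [Algebra R B'] (k : Pt R A B'), InSub l Md k → k a = 0} c hc
      (fun K _ _ => irreducibleSpace_model K Md (isConnected_fibre D.reductive))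
      (fun B' _ _ p q hp hq a ha => ?_) (fun B' _ _ p hp hpc a ha => ?_) (hg R f B A Md j) a ha
    · obtain ⟨yp, hyp⟩ := inSub_of_ann_closed l Md p fun b hb => hp b hb
      obtain ⟨yq, hyq⟩ := inSub_of_ann_closed l Md q fun b hb => hq b hb
      exact ha _ _ ⟨yp * yq, by rw [MonObj.mul_comp, hyp, hyq, Md.pt_mul]⟩
    · obtain ⟨ψ, hψ⟩ := hcell B' p hpc
      rw [F.mapPt_splitHom] at hψ
      obtain ⟨h1, h2⟩ := coord_eq_zero_of_inZ_ring F hs (hψ ▸ hp)
      have hrt : ∀ i (x : B'), (ν (F.root i) ≠ 0 → x = 0) → InSub l Md (F.rt i x) := fun i x hx => by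
        by_cases hi : ν (F.root i) = 0
        · obtain ⟨v, hv⟩ := hroot i hi
          exact ⟨gaPt f x ≫ v, by rw [Category.assoc, hv, Md.pt_rt]; rfl⟩
        · rw [hx hi, F.rt_zero]
          exact ⟨1, by rw [MonObj.one_comp, Md.pt_one]⟩
      let Sg : Subgroup (Pt R A B') :=
        { carrier := {q | InSub l Md q}
          one_mem' := ⟨1, by rw [MonObj.one_comp, Md.pt_one]⟩
          mul_mem' := fun {a b} ⟨ya, ea⟩ ⟨yb, eb⟩ => ⟨ya * yb, by rw [MonObj.mul_comp, ea, eb, Md.pt_mul]⟩
          inv_mem' := fun {a} ⟨y, e⟩ => ⟨y⁻¹, by rw [GrpObj.inv_comp, e, Md.pt_inv]⟩ }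
      refine ha B' p (show p ∈ Sg from hψ ▸ mul_mem (mul_mem ?_ ?_) ?_)
      · exact Subgroup.list_prod_mem _ fun q hq => by
          obtain ⟨k, rfl⟩ := List.mem_ofFn.mp hq
          exact hrt _ _ (h1 k)
      · exact ⟨chPt f (coordT ψ) ≫ D.split.inv.hom.hom ≫ t, by
          rw [Category.assoc, Category.assoc, ht, Md.pt_tor]; rfl⟩
      · exact Subgroup.list_prod_mem _ fun q hq => by
          obtain ⟨k, rfl⟩ := List.mem_ofFn.mp hq
          exact hrt _ _ (h2 k)
  exact ⟨z, hz.trans (Md.pt_ofPt _)⟩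

/-- A point commuting with a subtorus through which a cocharacter factors is fixed by that cocharacter. -/
theorem inZ_of_comm {N : Type} [AddCommGroup N] (q : D.M →+ N) (ν : N →+ ℤ) {X : Over S} (g : X ⟶ G)
    (hg : ∀ (X' : Over S) (x : X' ⟶ X) (h : X' ⟶ Red.DS S N),
      (x ≫ g) * (h ≫ Red.DSmap S q ≫ D.split.inv.hom.hom ≫ D.i) =
        (h ≫ Red.DSmap S q ≫ D.split.inv.hom.hom ≫ D.i) * (x ≫ g))
    (R : Type u) [CommRing R] (f : Spec (CommRingCat.of R) ⟶ S) [IsOpenImmersion f] (B : Type u)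
    [CommRing B] [Algebra R B] (A : Type u) [CommRing A] [HopfAlgebra R A] (Md : Model f G A) (j : tObj f B ⟶ X) :
    ((Md.frame D).cochar (ν.comp q)).InZ (Md.ofPt (j ≫ g)) := by
  set F := Md.frame D
  set g₀ := Md.ofPt (j ≫ g)
  let c : B →ₐ[R] B[ℤ] := AddMonoidAlgebra.singleZeroAlgHom
  let χ : Multiplicative N →* B[ℤ] := (AddMonoidAlgebra.of B ℤ).comp ν.toMultiplicative
  rw [Coact.inZ_iff, Coact.act_push, F.T.act_eq, map_mul, map_mul, map_inv, F.T.mapPt_tor, mapPt_mapPt]
  have e1 : (AddMonoidAlgebra.mapDomainAlgHom R B (ν.comp q)).toRingHom.toMonoidHom.comp (univChar B D.M) =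
      χ.comp q.toMultiplicative := MonoidHom.ext fun m => by simp [χ]
  have e2 : (AddMonoidAlgebra.mapDomainAlgHom R B (ν.comp q)).comp AddMonoidAlgebra.singleZeroAlgHom = c :=
    AlgHom.ext fun r => by simp [c]
  rw [e1, e2, mul_inv_eq_iff_eq_mul]
  apply Md.pt_bijective.injective
  rw [Md.pt_mul, Md.pt_mul, Md.pt_map, Md.pt_ofPt, Md.pt_tor, torG]
  have h3 := hg (tObj f B[ℤ]) (tMap f c ≫ j) (chPt f χ)
  rw [← RedRk29.chPt_DSmap]
  simp only [Category.assoc] at h3 ⊢
  exact h3.symm

end Groth.Agent.ParLib
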