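import Groth.Agent.RedRk29.Conj
import Groth.Agent.GrpSchLib.ProperQuotImage
import Groth.Agent.GrpSchLib.LineVec
import Groth.Agent.GITQuot.Good
import Groth.Agent.AGFRoot.BorelFixed

/-!
# The cone over an orbit with proper quotient is closed
-/

set_option autoImplicit false
set_option maxHeartbeats 1000000
set_option backward.isDefEq.respectTransparency false
set_option backward.isDefEq.respectTransparency.types false

universe u

open CategoryTheory CategoryTheory.Limits MonoidalCategory CartesianMonoidalCategory MonObj AlgebraicGeometry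
open TensorProduct WithConv

namespace Groth.Agent.ParLib

open BigCell29 RedRk29 GrpSchLib.AffineHopf GrpSchLib.Kunneth GrpSchLib.LineVec

variable {k : Type u} [Field k] [IsAlgClosed k] {A : Type u} [CommRing A] [HopfAlgebra k A] [Algebra.Smooth k A]
  {W : Type u} [AddCommGroup W] [Module k W] [Module.Finite k W]

omit [IsAlgClosed k] in
theorem mem_basicOpen_iff {Z : Over (Spec (CommRingCat.of k))} (q : sp k k ⟶ Z) (f : Fn Z) :
    q.left (IsLocalRing.closedPoint k) ∈ Z.left.basicOpen f ↔ (toFn (k := k) (A := k)).symm (ev q f) ≠ 0 := by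
  have h : q.left ⁻¹ᵁ Z.left.basicOpen f = (sp k k).left.basicOpen (ev q f) := Scheme.preimage_basicOpen_top _ _
  constructor
  · intro hm h0
    have h1 : ev q f = 0 := by
      apply (toFn (k := k) (A := k)).symm.injective
      rw [h0, map_zero]
    have : IsLocalRing.closedPoint k ∈ q.left ⁻¹ᵁ Z.left.basicOpen f := hm
    rw [h, h1, Scheme.basicOpen_zero] at this
    exact this.elim
  · intro h0
    have hu : IsUnit (ev q f) := by
      have := (isUnit_iff_ne_zero.mpr h0).map (toFn (k := k) (A := k))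
      rwa [AlgEquiv.apply_symm_apply] at this
    have : IsLocalRing.closedPoint k ∈ q.left ⁻¹ᵁ Z.left.basicOpen f := by
      rw [h, Scheme.basicOpen_of_isUnit _ hu]; trivial
    exact this

omit [IsAlgClosed k] in
theorem ev_spMap_toFn {B : Type u} [CommRing B] [HopfAlgebra k B] (g : Pt k B k) (a : B) :
    (toFn (k := k) (A := k)).symm (ev (spMap g.ofConv) (toFn (k := k) (A := B) a)) = g.ofConv a := by
  rw [AlgEquiv.symm_apply_eq]
  show (Spec.map (CommRingCat.ofHom g.ofConv.toRingHom)).appTop ((Scheme.ΓSpecIso (CommRingCat.of B)).inv a) = _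
  exact (ConcreteCategory.congr_hom (Scheme.ΓSpecIso_inv_naturality (CommRingCat.ofHom g.ofConv.toRingHom)) a).symm

omit [IsAlgClosed k] in
theorem ev_spMap_toFn' {B : Type u} [CommRing B] [Algebra k B] (g : B →ₐ[k] k) (a : B) :
    (toFn (k := k) (A := k)).symm (ev (spMap g) (GrpSchLib.LineGroups.spEquiv (k := k) B a)) = g a := by
  rw [AlgEquiv.symm_apply_eq]
  show (Spec.map (CommRingCat.ofHom g.toRingHom)).appTop ((Scheme.ΓSpecIso (CommRingCat.of B)).inv a) = _
  exact (ConcreteCategory.congr_hom (Scheme.ΓSpecIso_inv_naturality (CommRingCat.ofHom g.toRingHom)) a).symm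

/-- The minors of two vectors of functions on a product. -/
noncomputable def crossFn {R : Type u} [CommRing R] [Algebra k R] {J : Type} (a : J → A) (r : J → R) (i j : J) :
    Fn (sp k A ⊗ sp k R) :=
  ev (fst _ _) (toFn (k := k) (a i)) * ev (snd _ _) (GrpSchLib.LineGroups.spEquiv (k := k) R (r j)) -
    ev (fst _ _) (toFn (k := k) (a j)) * ev (snd _ _) (GrpSchLib.LineGroups.spEquiv (k := k) R (r i))

omit [IsAlgClosed k] in
theorem mem_cross_iff {R : Type u} [CommRing R] [Algebra k R] {J : Type} (a : J → A) (r : J → R) (i j : J)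
    (q : sp k k ⟶ sp k A ⊗ sp k R) (g : Pt k A k) (w : R →ₐ[k] k) (h1 : q ≫ fst _ _ = spMap g.ofConv)
    (h2 : q ≫ snd _ _ = spMap w) :
    q.left (IsLocalRing.closedPoint k) ∉ (sp k A ⊗ sp k R).left.basicOpen (crossFn a r i j) ↔
      g.ofConv (a i) * w (r j) = g.ofConv (a j) * w (r i) := by
  have e1 : ∀ b : A, (toFn (k := k) (A := k)).symm (ev q (ev (fst (sp k A) (sp k R)) (toFn b))) = g.ofConv b :=
    fun b => by
      refine Eq.trans (congrArg _ ?_) (ev_spMap_toFn g b)
      exact (ev_ev q _ _).trans (congrArg (fun p => GrpSchLib.Kunneth.ev p (toFn b)) h1)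
  have e2 : ∀ b : R, (toFn (k := k) (A := k)).symm (ev q (ev (snd (sp k A) (sp k R))
      (GrpSchLib.LineGroups.spEquiv (k := k) R b))) = w b :=
    fun b => by
      refine Eq.trans (congrArg _ ?_) (ev_spMap_toFn' w b)
      exact (ev_ev q _ _).trans (congrArg (fun p => GrpSchLib.Kunneth.ev p (GrpSchLib.LineGroups.spEquiv (k := k) R b)) h2)
  rw [mem_basicOpen_iff, ne_eq, not_not, crossFn, map_sub, map_sub, sub_eq_zero]
  simp only [map_mul]
  erw [e1, e1, e2, e2]

/-- An orbit of a line stabilised by a subgroup with proper quotient has a closed cone. -/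
theorem isClosedOrbit_of_proper {H : Over (Spec (CommRingCat.of k))} [GrpObj H] (h : H ⟶ sp k A) [IsMonHom h]
    [IsClosedImmersion h.left]
    (hp : ∀ (X : Over (Spec (CommRingCat.of k))) (a : AlgGrp.Action (sp k A) X)
      (o : 𝟙_ (Over (Spec (CommRingCat.of k))) ⟶ X), AGF.IsQuotient h X a o → IsProper X.hom)
    (hquot : ∃ (X : Over (Spec (CommRingCat.of k))) (a : AlgGrp.Action (sp k A) X)
      (o : 𝟙_ (Over (Spec (CommRingCat.of k))) ⟶ X), AGF.IsQuotient h X a o)
    (π : Pt k A k →* Module.End k W) (hπ : IsRegRep π) {v : W} (hv : v ≠ 0)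
    (hstab : ∀ (g : Pt k A k) (x : sp k k ⟶ H), x ≫ h = spMap g.ofConv → ∃ c : k, c ≠ 0 ∧ π g v = c • v) :
    IsClosedOrbit (fun _ : Unit => π) (fun _ : Unit => v) := by
  classical
  have : Algebra.FinitePresentation k A := Algebra.Smooth.finitePresentation
  have : Algebra.FiniteType k A := Algebra.FiniteType.of_finitePresentation
  let J₀ := CoordIdx k (fun _ : Unit => W)
  let R := MvPolynomial J₀ k
  choose a ha using fun i : J₀ => hπ.exists_coef v ((Module.finBasis k W).coord i.2)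
  have ha' : ∀ (g : Pt k A k) i, crd (k := k) (W := fun _ : Unit => W) (fun _ => π g v) i = g.ofConv (a i) :=
    fun g i => (ha i g)
  let C : Set (sp k A ⊗ sp k R).left :=
    ⋂ i, ⋂ j, (↑((sp k A ⊗ sp k R).left.basicOpen (crossFn a (fun i => (MvPolynomial.X i : R)) i j)) :
      Set (sp k A ⊗ sp k R).left)ᶜ
  have hC : IsClosed C := isClosed_iInter fun i => isClosed_iInter fun j =>
    ((sp k A ⊗ sp k R).left.basicOpen (crossFn a (fun i => (MvPolynomial.X i : R)) i j)).isOpen.isClosed_compl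
  have hpt : ∀ q : sp k k ⟶ sp k A ⊗ sp k R, ∀ (g : Pt k A k) (w : R →ₐ[k] k),
      q ≫ fst _ _ = spMap g.ofConv → q ≫ snd _ _ = spMap w → (q.left (IsLocalRing.closedPoint k) ∈ C ↔
        ∀ i j, g.ofConv (a i) * w (MvPolynomial.X j) = g.ofConv (a j) * w (MvPolynomial.X i)) := by
    intro q g w h1 h2
    simp only [C, Set.mem_iInter, Set.mem_compl_iff, SetLike.mem_coe]
    exact forall₂_congr fun i j => mem_cross_iff a (fun i => (MvPolynomial.X i : R)) i j q g w h1 h2
  have hsec : ∀ {Z : Over (Spec (CommRingCat.of k))} (z : 𝟙_ (Over (Spec (CommRingCat.of k))) ⟶ Z),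
      (AGFRoot.unitSp.inv ≫ z).left (IsLocalRing.closedPoint k) = z.left (IsLocalRing.closedPoint k) := by
    intro Z z
    rw [Over.comp_left, Scheme.Hom.comp_apply]
    exact congrArg z.left (Subsingleton.elim (α := Spec (CommRingCat.of k)) _ _)
  have hstable : ∀ (T : Over (Spec (CommRingCat.of k))) (g : T ⟶ (sp k A)) (hh : T ⟶ H) (x : T ⟶ (sp k R)) (t : T.left),
      (lift g x).left t ∈ C → (lift (g * (hh ≫ h)) x).left t ∈ C := by
    intro T g hh x t ht
    let Ψ : (sp k A) ⊗ (H ⊗ (sp k R)) ⟶ (sp k A) ⊗ (sp k R) := lift (fst _ _) (snd _ _ ≫ snd _ _)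
    let Φ : (sp k A) ⊗ (H ⊗ (sp k R)) ⟶ (sp k A) ⊗ (sp k R) := lift (fst _ _ * (snd _ _ ≫ fst _ _ ≫ h)) (snd _ _ ≫ snd _ _)
    suffices hsub : Ψ.left ⁻¹' C ⊆ Φ.left ⁻¹' C by
      have e1 : lift g (lift hh x) ≫ Ψ = lift g x := by
        apply CartesianMonoidalCategory.hom_ext <;> simp [Ψ]
      have e2 : lift g (lift hh x) ≫ Φ = lift (g * (hh ≫ h)) x := by
        apply CartesianMonoidalCategory.hom_ext <;> simp [Φ, MonObj.comp_mul]
      rw [← e2, Over.comp_left, Scheme.Hom.comp_apply]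
      rw [← e1, Over.comp_left, Scheme.Hom.comp_apply] at ht
      exact hsub ht
    have : IsAffine H.left := isAffine_of_isAffineHom h.left
    have hG : LocallyOfFiniteType (sp k A).hom := (HasRingHomProperty.Spec_iff (P := @LocallyOfFiniteType)).mpr
      (RingHom.finiteType_algebraMap.mpr inferInstance)
    have hX : LocallyOfFiniteType (sp k R).hom := (HasRingHomProperty.Spec_iff (P := @LocallyOfFiniteType)).mpr
      (RingHom.finiteType_algebraMap.mpr inferInstance)
    have hH : LocallyOfFiniteType H.hom := by rw [← Over.w h]; infer_instance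
    have : LocallyOfFiniteType (H ⊗ (sp k R)).hom := by rw [Over.tensorObj_hom]; infer_instance
    have : LocallyOfFiniteType ((sp k A) ⊗ (H ⊗ (sp k R))).hom := by rw [Over.tensorObj_hom]; infer_instance
    haveI : JacobsonSpace ((sp k A) ⊗ (H ⊗ (sp k R))).left := LocallyOfFiniteType.jacobsonSpace ((sp k A) ⊗ (H ⊗ (sp k R))).hom
    have hC₁ : IsClosed (Ψ.left ⁻¹' C) := hC.preimage Ψ.left.continuous
    rw [← closure_inter_closedPoints hC₁]
    refine closure_minimal (fun c ⟨hc1, hc2⟩ => ?_) (hC.preimage Φ.left.continuous)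
    obtain ⟨z, hz⟩ := GITQuot.Good.exists_point ((sp k A) ⊗ (H ⊗ (sp k R))) (C := {c})
      (mem_closedPoints_iff.mp hc2).isLocallyClosed ⟨c, rfl⟩
    replace hz : z.left (IsLocalRing.closedPoint k) = c := hz
    let q := AGFRoot.unitSp.inv ≫ z
    have hq : q.left (IsLocalRing.closedPoint k) = c := (hsec z).trans hz
    obtain ⟨g0, hg0⟩ := exists_eq_spMap (q ≫ fst _ _)
    obtain ⟨h0, hh0⟩ := exists_eq_spMap (q ≫ snd _ _ ≫ fst _ _ ≫ h)
    obtain ⟨w, hw⟩ : ∃ w : R →ₐ[k] k, q ≫ snd _ _ ≫ snd _ _ = spMap w := AGFRoot.exists_eq_spMap' _ |>.imp fun _ e => e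
    obtain ⟨c', hc', hcv⟩ := hstab (toConv h0) (q ≫ snd _ _ ≫ fst _ _) (by rw [← hh0]; simp)
    have h1 := (hpt (q ≫ Ψ) (toConv g0) w (by simp [Ψ, hg0]) (by simp [Ψ, hw])).mp (by
      rw [Over.comp_left, Scheme.Hom.comp_apply, hq]; exact hc1)
    show Φ.left c ∈ C
    rw [← hq, ← Scheme.Hom.comp_apply, ← Over.comp_left]
    refine (hpt _ (toConv g0 * toConv h0) w ?_ (by simp [Φ, hw])).mpr fun i j => ?_
    · rw [show (q ≫ Φ) ≫ fst (sp k A) (sp k R) = (q ≫ fst _ _) * (q ≫ snd _ _ ≫ fst _ _ ≫ h) by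
        simp [Φ, MonObj.comp_mul], hg0, hh0, spMap_mul]
    · have e : ∀ l, (toConv g0 * toConv h0 : Pt k A k).ofConv (a l) = c' * g0 (a l) := fun l => by
        rw [← ha', map_mul, Module.End.mul_apply, hcv, map_smul]
        show (Module.finBasis k W).repr (c' • π (toConv g0) v) l.2 = _
        rw [map_smul, Finsupp.smul_apply, smul_eq_mul]
        exact congrArg (c' * ·) (ha' (toConv g0) l)
      rw [e, e, _root_.mul_assoc, _root_.mul_assoc]
      exact congrArg (c' * ·) (h1 i j)
  obtain ⟨Y, b, o, hY⟩ := hquot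
  have := hp Y b o hY
  have hG : LocallyOfFiniteType (sp k A).hom := (HasRingHomProperty.Spec_iff (P := @LocallyOfFiniteType)).mpr
      (RingHom.finiteType_algebraMap.mpr inferInstance)
  have himg := GrpSchLib.ProperQuotImage.isClosed_image (X := sp k R) h b o hY C hC hstable
  refine ⟨fun _ => hv, fun q hq hqn => ?_⟩
  let qa : R →ₐ[k] k := MvPolynomial.aeval (crd q)
  have hmem : (spMap qa).left (IsLocalRing.closedPoint k) ∈ (snd (sp k A) (sp k R)).left '' C := by
    by_contra hne
    obtain ⟨f, hf, hfq⟩ : ∃ f : R, (∀ z ∈ (snd (sp k A) (sp k R)).left '' C, f ∈ (z : PrimeSpectrum R).asIdeal) ∧ qa f ≠ 0 := by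
      obtain ⟨I, hI⟩ := (PrimeSpectrum.isClosed_iff_zeroLocus_ideal _).mp himg
      have hne' : ¬ ((I : Set R) ⊆ ((spMap qa).left (IsLocalRing.closedPoint k) : PrimeSpectrum R).asIdeal) :=
        fun hsub => hne (hI.symm ▸ hsub)
      obtain ⟨f, hfI, hfn⟩ := Set.not_subset.mp hne'
      refine ⟨f, fun z hz => (hI ▸ hz : z ∈ PrimeSpectrum.zeroLocus (I : Set R)) hfI, fun h0 => hfn ?_⟩
      show qa f ∈ IsLocalRing.maximalIdeal k
      rw [h0]; exact zero_mem _
    refine hfq ?_
    have hkey := hq (fun p => MvPolynomial.eval (crd (k := k) (W := fun _ : Unit => W) p) f) ⟨f, fun p => rfl⟩ fun x hx => ?_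
    · exact (congrFun (MvPolynomial.aeval_eq_eval (crd q)) f).trans hkey
    obtain ⟨g, c, hgc⟩ := hx
    let xa : R →ₐ[k] k := MvPolynomial.aeval (crd x)
    let p : sp k k ⟶ (sp k A) ⊗ (sp k R) := lift (spMap g.ofConv) (spMap xa)
    have hpC : p.left (IsLocalRing.closedPoint k) ∈ C := by
      refine (hpt p g xa (lift_fst _ _) (lift_snd _ _)).mpr fun i j => ?_
      have e : ∀ l, xa (MvPolynomial.X l) = c () * g.ofConv (a l) := fun l => by
        refine (MvPolynomial.aeval_X _ _).trans ?_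
        rw [← ha' g l]
        show (Module.finBasis k W).repr (x l.1) l.2 = c () * (Module.finBasis k W).repr (π g v) l.2
        rw [hgc l.1, map_smul, Finsupp.smul_apply, smul_eq_mul]
      rw [e, e]; ring
    have := hf _ ⟨_, hpC, rfl⟩
    rw [← Scheme.Hom.comp_apply, ← Over.comp_left, lift_snd] at this
    have h0 : xa f ∈ IsLocalRing.maximalIdeal k := this
    rw [IsLocalRing.maximalIdeal_eq_bot, Ideal.mem_bot] at h0
    exact h0
  obtain ⟨z, hzC, hzq⟩ := hmem
  have hG' : LocallyOfFiniteType (sp k A).hom := hG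
  have hX : LocallyOfFiniteType (sp k R).hom := (HasRingHomProperty.Spec_iff (P := @LocallyOfFiniteType)).mpr
      (RingHom.finiteType_algebraMap.mpr inferInstance)
  have : LocallyOfFiniteType ((sp k A) ⊗ (sp k R)).hom := by rw [Over.tensorObj_hom]; infer_instance
  have hcl : IsClosed {(spMap qa).left (IsLocalRing.closedPoint k)} :=
    hsec (AGFRoot.unitSp.hom ≫ spMap qa) ▸ (by
      rw [Iso.inv_hom_id_assoc] at *
      exact GITQuot.Good.isClosed_point (sp k R) (AGFRoot.unitSp.hom ≫ spMap qa))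
  obtain ⟨y, hy⟩ := GITQuot.Good.exists_point ((sp k A) ⊗ (sp k R))
    (C := C ∩ (snd (sp k A) (sp k R)).left ⁻¹' {(spMap qa).left (IsLocalRing.closedPoint k)})
    (hC.inter (hcl.preimage (snd (sp k A) (sp k R)).left.continuous)).isLocallyClosed ⟨z, hzC, hzq⟩
  let q' := AGFRoot.unitSp.inv ≫ y
  have hq' : q' ≫ snd (sp k A) (sp k R) = spMap qa := by
    rw [Category.assoc, Iso.inv_comp_eq]
    refine GITQuot.Good.point_ext ?_
    rw [Over.comp_left, Scheme.Hom.comp_apply, ← hsec (AGFRoot.unitSp.hom ≫ spMap qa), Iso.inv_hom_id_assoc]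
    exact hy.2
  obtain ⟨g, hg⟩ := exists_eq_spMap (q' ≫ fst (sp k A) (sp k R))
  have h1 := (hpt q' (toConv g) qa hg hq').mp (by
    show (AGFRoot.unitSp.inv ≫ y).left (IsLocalRing.closedPoint k) ∈ C
    rw [hsec]; exact hy.1)
  obtain ⟨i₀, hi₀⟩ : ∃ i : J₀, crd (k := k) (W := fun _ : Unit => W) (fun _ => π (toConv g) v) i ≠ 0 := by
    by_contra hall
    push Not at hall
    have h0 : π (toConv g) v = 0 := (Module.finBasis k W).repr.map_eq_zero_iff.mp (Finsupp.ext fun l => hall ⟨(), l⟩)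
    have := congrArg (π (toConv g)⁻¹) h0
    rw [map_zero, ← Module.End.mul_apply, ← map_mul, inv_mul_cancel, map_one, Module.End.one_apply] at this
    exact hv this
  refine ⟨toConv g, fun _ => crd q i₀ / crd (k := k) (W := fun _ : Unit => W) (fun _ => π (toConv g) v) i₀,
    fun j => ?_⟩
  apply (Module.finBasis k W).repr.injective
  ext l
  rw [map_smul, Finsupp.smul_apply, smul_eq_mul]
  have h2 := h1 i₀ ⟨j, l⟩
  have eX : ∀ x : J₀, qa (MvPolynomial.X x) = crd q x := fun x => MvPolynomial.aeval_X _ _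
  rw [eX, eX] at h2
  rw [← ha', ← ha'] at h2
  have h2' : crd (k := k) (W := fun _ : Unit => W) (fun _ => π (toConv g) v) i₀ *
      (Module.finBasis k W).repr (q j) l =
      (Module.finBasis k W).repr (π (toConv g) v) l * crd q i₀ := h2
  field_simp
  linear_combination h2'

end Groth.Agent.ParLib
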