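import Groth.Prelude.Def_Curv2
import Groth.Agent.Lib.CurveVanish
import Groth.Agent.CurveCohLib.Stable

/-!
# Degrees of locally free quotients on a curve are bounded below
-/

universe u
set_option maxHeartbeats 1000000
set_option linter.style.haveILetI false
set_option autoImplicit false
open AlgebraicGeometry CategoryTheory CategoryTheory.Limits

namespace Groth.Agent.ParLib

variable (k : Type u) [Field k] {X : Scheme.{u}} [X.Over (Spec (CommRingCat.of k))]
  [IsIntegral X] [IsProper (X ↘ Spec (CommRingCat.of k))]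

include k in
/-- A locally free quotient has rank at most that of the module and degree bounded below. -/
theorem neg_deg_le (hdim : topologicalKrullDim X = 1) {E Q : X.Modules} (hE : FlatMod.IsFinLocFree E)
    {n : ℕ} (hQ : FlatMod.IsFinLocFreeOfRank n Q) (ψ : E ⟶ Q) [Epi ψ] :
    n ≤ CurveCohLib.genRank E ∧
      -Curv2.deg k X Q n ≤ (Module.finrank k (Coh.HH X E 1) : ℤ) +
        (CurveCohLib.genRank E : ℤ) * Module.finrank k (Coh.HH X (Coh.structureModule X) 0) := by
  have := CurveCohLib.isNoetherian_of_proper (k := k) (X := X)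
  have hEc : Coh.IsCoh E := QCoh.isCoh_iff_isFP.2 (QCoh.isFP_of_isFinLocFree hE)
  have hQc : Coh.IsCoh Q :=
    QCoh.isCoh_iff_isFP.2 (QCoh.isFP_of_isFinLocFree (ConsPropLib.isFinLocFreeOfRank_iff.1 hQ).1)
  have hO : Coh.IsCoh (Coh.structureModule X) := QCoh.isCoh_structureModule'
  let S := ShortComplex.mk (kernel.ι ψ) ψ (kernel.condition ψ)
  have hS : S.ShortExact := { exact := ShortComplex.exact_of_f_is_kernel _ (kernelIsKernel ψ) }
  have hK : Coh.IsCoh (kernel ψ) := QCoh.isCoh_kernel hEc hQc ψ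
  have hr := CurveCohLib.genRank_add hS hEc
  change CurveCohLib.genRank E = CurveCohLib.genRank (kernel ψ) + CurveCohLib.genRank Q at hr
  rw [CurveCohLib.genRank_eq hQ] at hr
  have hn : n ≤ CurveCohLib.genRank E := by omega
  refine ⟨hn, ?_⟩
  have h2 : ∀ {M : X.Modules}, Coh.IsQCoh M → ∀ i, 2 ≤ i → Subsingleton (Coh.HH X M i) := by
    intro M hM i hi
    obtain ⟨j, rfl⟩ := Nat.exists_eq_add_of_le hi
    rw [Nat.add_comm]
    exact CurveVanish.subsingleton_HH_curve k hdim.le hM j
  have eQ := CurveCohLib.euler_eq_sum (k := k) (h2 hQc.1)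
  have eO := CurveCohLib.euler_eq_sum (k := k) (h2 hO.1)
  have := CurveCohLib.finite_HH (k := k) hEc 1
  have : Subsingleton (Coh.HH X S.X₁ (1 + 1)) := CurveVanish.subsingleton_HH_curve k hdim.le hK.1 0
  have hsurj : Function.Surjective (PnCoh.Finite.mapLin k S.g 1) := fun y =>
    (CurveCohLib.ker_deltaLin k hS 1).le (LinearMap.mem_ker.2 (Subsingleton.elim _ _))
  have h1 : Module.finrank k (Coh.HH X Q 1) ≤ Module.finrank k (Coh.HH X E 1) :=
    LinearMap.finrank_le_finrank_of_surjective (f := PnCoh.Finite.mapLin k S.g 1) hsurj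
  simp only [Finset.sum_range_succ, Finset.sum_range_zero, zero_add, pow_zero, pow_one, one_mul,
    neg_mul] at eQ eO
  unfold Curv2.deg
  rw [eQ, eO]
  have h3 : (n : ℤ) * Module.finrank k (Coh.HH X (Coh.structureModule X) 0) ≤
      (CurveCohLib.genRank E : ℤ) * Module.finrank k (Coh.HH X (Coh.structureModule X) 0) :=
    mul_le_mul_of_nonneg_right (by exact_mod_cast hn) (Int.natCast_nonneg _)
  have h4 : (0 : ℤ) ≤ (n : ℤ) * Module.finrank k (Coh.HH X (Coh.structureModule X) 1) := by positivity
  rw [mul_add, mul_neg]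
  omega

end Groth.Agent.ParLib
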