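import Mathlib.RingTheory.Flat.Basic
import Mathlib.RingTheory.Flat.Stability
import Mathlib.RingTheory.Localization.BaseChange
import Mathlib.RingTheory.Localization.Away.Basic
import Mathlib.LinearAlgebra.Finsupp.LinearCombination
import Mathlib.LinearAlgebra.TensorProduct.RightExactness
import Mathlib.RingTheory.Ideal.Quotient.Operations
import Mathlib.Algebra.Module.Torsion.Basic
import Mathlib.RingTheory.Flat.TorsionFree

/-!
# Flatness from the special fibre and the localisation at a regular element
-/

universe u

open TensorProduct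

namespace Groth.Agent.ParLib

set_option linter.style.haveILetI false

variable {A C : Type u} [CommRing A] [CommRing C] [Algebra A C] (π : A)

/-- Modules killed by `π` see only the reduction of `C`. -/
theorem rTensor_injective_of_killed [Module.Flat (A ⧸ Ideal.span {π}) ((A ⧸ Ideal.span {π}) ⊗[A] C)]
    {M N : Type u} [AddCommGroup M] [AddCommGroup N] [Module A M] [Module A N] [Module (A ⧸ Ideal.span {π}) M]
    [Module (A ⧸ Ideal.span {π}) N] [IsScalarTower A (A ⧸ Ideal.span {π}) M] [IsScalarTower A (A ⧸ Ideal.span {π}) N]
    (f : M →ₗ[A ⧸ Ideal.span {π}] N) (hf : Function.Injective f) :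
    Function.Injective ((f.restrictScalars A).rTensor C) := by
  let Q := A ⧸ Ideal.span {π}
  let eM := AlgebraTensorModule.cancelBaseChange A Q Q M C
  let eN := AlgebraTensorModule.cancelBaseChange A Q Q N C
  have h : ∀ z, (f.restrictScalars A).rTensor C (eM z) = eN (f.rTensor (Q ⊗[A] C) z) := by
    intro z
    induction z using TensorProduct.induction_on with
    | zero => simp
    | add x y hx hy => simp only [map_add, hx, hy]
    | tmul m w =>
      induction w using TensorProduct.induction_on with
      | zero => simp
      | add x y hx hy => simp only [tmul_add, map_add, hx, hy]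
      | tmul q c =>
        show (f (q • m)) ⊗ₜ[A] c = (q • f m) ⊗ₜ[A] c
        rw [map_smul]
  intro x y hxy
  obtain ⟨x, rfl⟩ := eM.surjective x
  obtain ⟨y, rfl⟩ := eM.surjective y
  rw [h, h] at hxy
  rw [Module.Flat.rTensor_preserves_injective_linearMap f hf (eN.injective hxy)]

/-- A submodule of a flat module containing its multiples of `π` stays injective after tensoring with `C`. -/
theorem rTensor_subtype_injective [Module.Flat (A ⧸ Ideal.span {π}) ((A ⧸ Ideal.span {π}) ⊗[A] C)]
    (hC : IsSMulRegular C π) {F : Type u} [AddCommGroup F] [Module A F] [Module.Flat A F] (L : Submodule A F)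
    (hL : ∀ x, π • x ∈ L) : Function.Injective (L.subtype.rTensor C) := by
  let mk : F →ₗ[A] F ⧸ Ideal.span {π} • (⊤ : Submodule A F) := Submodule.mkQ _
  let L' : Submodule (A ⧸ Ideal.span {π}) (F ⧸ Ideal.span {π} • (⊤ : Submodule A F)) :=
    { (L.map mk).toAddSubmonoid with
      smul_mem' := fun q x hx => by
        obtain ⟨a, rfl⟩ := Ideal.Quotient.mk_surjective q
        exact (L.map mk).smul_mem a hx }
  let toL' : L →ₗ[A] L' :=
    { toFun := fun x => ⟨mk x.1, x.1, x.2, rfl⟩
      map_add' := fun x y => Subtype.ext (map_add mk x.1 y.1)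
      map_smul' := fun a x => Subtype.ext (map_smul mk a x.1) }
  let mulπ : F →ₗ[A] L := (π • LinearMap.id).codRestrict L fun x => hL x
  have hex : Function.Exact mulπ toL' := by
    intro x
    constructor
    · intro hx
      have hx' : (x : F) ∈ Ideal.span {π} • (⊤ : Submodule A F) :=
        (Submodule.Quotient.mk_eq_zero _).1 (congrArg Subtype.val hx)
      rw [Submodule.ideal_span_singleton_smul] at hx'
      obtain ⟨y, -, hy⟩ := hx'
      exact ⟨y, Subtype.ext hy⟩
    · rintro ⟨y, rfl⟩
      refine Subtype.ext ((Submodule.Quotient.mk_eq_zero _).2 ?_)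
      exact Submodule.smul_mem_smul (Ideal.mem_span_singleton_self π) Submodule.mem_top
  have hsur : Function.Surjective toL' := by
    rintro ⟨_, x, hx, rfl⟩
    exact ⟨⟨x, hx⟩, rfl⟩
  refine (injective_iff_map_eq_zero _).2 fun z hz => ?_
  have h1 : toL'.rTensor C z = 0 := by
    apply rTensor_injective_of_killed π L'.subtype Subtype.val_injective
    have e : (L'.subtype.restrictScalars A) ∘ₗ toL' = mk ∘ₗ L.subtype := rfl
    rw [← LinearMap.comp_apply, ← LinearMap.rTensor_comp, e, LinearMap.rTensor_comp, LinearMap.comp_apply, hz,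
      map_zero, map_zero]
  obtain ⟨w, rfl⟩ := (rTensor_exact C hex hsur z).1 h1
  have h2 : π • w = 0 := by
    rw [← LinearMap.comp_apply, ← LinearMap.rTensor_comp] at hz
    have e : L.subtype ∘ₗ mulπ = π • LinearMap.id := rfl
    rw [e, LinearMap.rTensor_smul, LinearMap.smul_apply, LinearMap.rTensor_id_apply] at hz
    exact hz
  have hreg : IsSMulRegular (F ⊗[A] C) π := by
    have hC' : Function.Injective (π • LinearMap.id : C →ₗ[A] C) := hC
    have := Module.Flat.lTensor_preserves_injective_linearMap (M := F) _ hC'
    rw [LinearMap.lTensor_smul, LinearMap.lTensor_id] at this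
    exact this
  rw [hreg (h2.trans (smul_zero π).symm), map_zero]

/-- A map whose cokernel is killed by `π` stays injective after tensoring with `C`, given a flat presentation. -/
theorem rTensor_injective_of_cover [Module.Flat (A ⧸ Ideal.span {π}) ((A ⧸ Ideal.span {π}) ⊗[A] C)]
    (hC : IsSMulRegular C π) {X Y F : Type u} [AddCommGroup X] [AddCommGroup Y] [Module A X] [Module A Y]
    [AddCommGroup F] [Module A F] [Module.Flat A F] (g : F →ₗ[A] Y) (hg : Function.Surjective g)
    (f : X →ₗ[A] Y) (hf : Function.Injective f) (hY : ∀ y, π • y ∈ LinearMap.range f) :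
    Function.Injective (f.rTensor C) := by
  let L : Submodule A F := (LinearMap.range f).comap g
  have step : Function.Injective (L.subtype.rTensor C) := rTensor_subtype_injective π hC L fun x => by
    show g (π • x) ∈ LinearMap.range f
    rw [map_smul]; exact hY _
  -- Step 2: descend to `X`
  let toX : L →ₗ[A] X := (LinearEquiv.ofInjective f hf).symm.toLinearMap ∘ₗ
    (g.comp L.subtype).codRestrict (LinearMap.range f) fun x => x.2
  have htoX : f ∘ₗ toX = g ∘ₗ L.subtype := by
    ext x
    simp [toX, LinearEquiv.ofInjective_symm_apply] <;> rfl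
  have htoXs : Function.Surjective toX := fun x => by
    obtain ⟨p, hp⟩ := hg (f x)
    refine ⟨⟨p, ⟨x, hp.symm⟩⟩, hf ?_⟩
    rw [← LinearMap.comp_apply, htoX]
    exact hp
  let R0 := LinearMap.ker g
  let inc : R0 →ₗ[A] L := Submodule.inclusion fun x hx => ⟨0, by rw [map_zero]; exact hx.symm⟩
  refine (injective_iff_map_eq_zero _).2 fun z hz => ?_
  obtain ⟨w, rfl⟩ := LinearMap.rTensor_surjective C htoXs z
  have h1 : g.rTensor C (L.subtype.rTensor C w) = 0 := by
    rw [← LinearMap.comp_apply, ← LinearMap.rTensor_comp, ← htoX, LinearMap.rTensor_comp, LinearMap.comp_apply]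
    exact hz
  have hR0 : Function.Exact R0.subtype g := LinearMap.exact_subtype_ker_map g
  obtain ⟨r, hr⟩ := (rTensor_exact C hR0 hg _).1 h1
  have h2 : inc.rTensor C r = w := by
    apply step
    rw [← LinearMap.comp_apply, ← LinearMap.rTensor_comp]
    exact hr
  rw [← h2, ← LinearMap.comp_apply, ← LinearMap.rTensor_comp]
  have : toX ∘ₗ inc = 0 := by
    ext x
    apply hf
    rw [← LinearMap.comp_apply, ← LinearMap.comp_assoc, htoX, LinearMap.zero_apply, map_zero]
    exact x.2
  rw [this, LinearMap.rTensor_zero, LinearMap.zero_apply]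

/-- A map whose cokernel is killed by `π` stays injective after tensoring with `C`. -/
theorem rTensor_injective_of_smul_mem [Module.Flat (A ⧸ Ideal.span {π}) ((A ⧸ Ideal.span {π}) ⊗[A] C)]
    (hC : IsSMulRegular C π) {X Y : Type u} [AddCommGroup X] [AddCommGroup Y] [Module A X] [Module A Y]
    (f : X →ₗ[A] Y) (hf : Function.Injective f) (hY : ∀ y, π • y ∈ LinearMap.range f) :
    Function.Injective (f.rTensor C) :=
  rTensor_injective_of_cover π hC (Finsupp.linearCombination A (id : Y → Y)) (fun y =>
    ⟨Finsupp.single y 1, (Finsupp.linearCombination_single A 1 y).trans (one_smul A y)⟩) f hf hY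

/-- An algebra is flat if it is so modulo a regular element and after inverting it. -/
theorem flat_of_mod_of_away [Module.Flat (A ⧸ Ideal.span {π}) ((A ⧸ Ideal.span {π}) ⊗[A] C)]
    (hA : IsSMulRegular A π) (hC : IsSMulRegular C π) (C' : Type u) [CommRing C'] [Algebra A C'] [Algebra C C']
    [IsScalarTower A C C'] [IsLocalization.Away (algebraMap A C π) C'] [Module.Flat A C'] : Module.Flat A C := by
  rw [Module.Flat.iff_rTensor_injective]
  intro I _
  refine (injective_iff_map_eq_zero _).2 fun z hz => ?_
  -- `π` is injective on `I ⊗ C`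
  let μ : I →ₗ[A] I := π • LinearMap.id
  have hμ : Function.Injective μ := fun x y h => Subtype.ext (hA (congrArg Subtype.val h))
  have hπ : IsSMulRegular (I ⊗[A] C) π := by
    have h := rTensor_injective_of_smul_mem π hC μ hμ fun y => ⟨y, rfl⟩
    rw [LinearMap.rTensor_smul, LinearMap.rTensor_id] at h
    exact h
  let g : C →ₗ[A] C' := (IsScalarTower.toAlgHom A C C').toLinearMap
  haveI : IsLocalizedModule (Submonoid.powers π) g := by
    rw [isLocalizedModule_iff_isLocalization, Algebra.algebraMapSubmonoid, Submonoid.map_powers]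
    infer_instance
  let s := TensorProduct.comm A I C z
  have h0 : AlgebraTensorModule.rTensor A I g s = 0 := by
    apply (TensorProduct.comm A C' I).injective
    apply Module.Flat.rTensor_preserves_injective_linearMap (M := C') I.subtype Subtype.val_injective
    have h : ∀ z, I.subtype.rTensor C' (TensorProduct.comm A C' I (AlgebraTensorModule.rTensor A I g
        (TensorProduct.comm A I C z))) = g.lTensor A (I.subtype.rTensor C z) := by
      intro z
      induction z using TensorProduct.induction_on with
      | zero => simp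
      | add x y hx hy => simp only [map_add, hx, hy]
      | tmul a b => simp
    rw [h, hz, map_zero, map_zero, map_zero]
  obtain ⟨⟨_, n, rfl⟩, hn⟩ := (IsLocalizedModule.eq_zero_iff (Submonoid.powers π) (AlgebraTensorModule.rTensor A I g)).1 h0
  apply (hπ.pow n)
  apply (TensorProduct.comm A I C).injective
  show TensorProduct.comm A I C (π ^ n • z) = TensorProduct.comm A I C (π ^ n • 0)
  rw [map_smul, smul_zero, map_zero]
  exact hn

end Groth.Agent.ParLib
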