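import Groth.Agent.ParLib.Special
import Groth.Agent.ParLib.FlatLemma
import Groth.Agent.GrpSchLib.GenericFibreExt
import Mathlib.AlgebraicGeometry.Morphisms.FlatDescent
import Mathlib.RingTheory.TensorProduct.Quotient
import Mathlib.RingTheory.DiscreteValuationRing.Basic
import Mathlib.RingTheory.Flat.TorsionFree

/-!
# A flat separated group scheme of finite type over a DVR with affine generic fibre is affine
-/

universe u

open CategoryTheory CategoryTheory.Limits AlgebraicGeometry TopologicalSpace Opposite TensorProduct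
open Groth.Agent.GModLib41

namespace Groth.Agent.ParLib.Dvr

set_option linter.style.haveILetI false
set_option linter.unusedSectionVars false
set_option backward.isDefEq.respectTransparency false
set_option backward.isDefEq.respectTransparency.types false
set_option synthInstance.maxHeartbeats 400000
set_option maxHeartbeats 1000000

variable {R : Type u} [CommRing R] {G : Over (Spec (CommRingCat.of R))}

/-- An element of the base as a function on an open. -/
noncomputable def cst (π : R) (W : G.left.Opens) : Γ(G.left, W) :=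
  letI := algU (G := G) W; algebraMap R Γ(G.left, W) π

theorem map_cst (π : R) {W W' : G.left.Opens} (h : W' ≤ W) :
    G.left.presheaf.map (homOfLE h).op (cst π W) = cst π W' := by
  letI := algU (G := G) W; letI := algU (G := G) W'
  exact (resAlg (G := G) h).commutes π

theorem cst_top (π : R) :
    letI := algTop (G := G); cst (G := G) π ⊤ = algebraMap R Γ(G.left, ⊤) π := by
  show ((Scheme.ΓSpecIso (CommRingCat.of R)).inv ≫ G.hom.appLE ⊤ ⊤ _) π =
    ((Scheme.ΓSpecIso (CommRingCat.of R)).inv ≫ G.hom.appTop) π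
  exact congrArg (fun φ => ((Scheme.ΓSpecIso (CommRingCat.of R)).inv ≫ φ) π) G.hom.app_eq_appLE.symm

/-- A nonzero constant is regular on every open of a flat scheme over a domain. -/
theorem eq_zero_of_cst_mul [IsDomain R] [Flat G.hom] {π : R} (hπ : π ≠ 0) {W : G.left.Opens} (x : Γ(G.left, W))
    (hx : cst π W * x = 0) : x = 0 := by
  refine G.left.sheaf.eq_of_locally_eq' (fun i : {V : G.left.affineOpens // V.1 ≤ W} => i.1.1) W (fun i => homOfLE i.2)
    (fun p hp => ?_) x 0 fun i => ?_
  · obtain ⟨V, hV, hpV, hle⟩ := exists_isAffineOpen_mem_and_subset (x := p) (U := W) hp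
    exact Opens.mem_iSup.2 ⟨⟨⟨V, hV⟩, hle⟩, hpV⟩
  · letI := algU (G := G) i.1.1
    haveI : Module.Flat R Γ(G.left, i.1.1) := flat_algU i.1.2
    have h := congrArg (G.left.presheaf.map (homOfLE i.2).op) hx
    rw [map_mul, map_zero, map_cst] at h
    show G.left.presheaf.map (homOfLE i.2).op x = G.left.presheaf.map (homOfLE i.2).op 0
    rw [map_zero]
    apply Module.Flat.isSMulRegular_of_nonZeroDivisors (R := R) (M := Γ(G.left, i.1.1))
      (mem_nonZeroDivisors_of_ne_zero hπ)
    dsimp only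
    rw [smul_zero, Algebra.smul_def]
    exact h

/-- Global functions divisible by a constant on the charts are divisible. -/
theorem exists_eq_cst_mul [IsDomain R] [Flat G.hom] {π : R} (hπ : π ≠ 0) (a : Γ(G.left, ⊤))
    (h : ∀ U : G.left.Opens, IsAffineOpen U → ∃ c, G.left.presheaf.map (homOfLE (le_top : U ≤ ⊤)).op a = cst π U * c) :
    ∃ a', a = cst π ⊤ * a' := by
  choose c hc using fun U : G.left.affineOpens => h U.1 U.2
  have hcov : (⊤ : G.left.Opens) ≤ ⨆ U : G.left.affineOpens, U.1 := fun p _ => by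
    obtain ⟨V, hV, hpV, -⟩ := exists_isAffineOpen_mem_and_subset (x := p) (U := ⊤) trivial
    exact Opens.mem_iSup.2 ⟨⟨V, hV⟩, hpV⟩
  obtain ⟨a', ha', -⟩ := G.left.sheaf.existsUnique_gluing' (fun U : G.left.affineOpens => U.1) ⊤
    (fun U => homOfLE le_top) hcov c fun U V => by
      rw [← sub_eq_zero]
      apply eq_zero_of_cst_mul hπ
      rw [mul_sub, sub_eq_zero]
      have e1 := congrArg (G.left.presheaf.map (homOfLE (inf_le_left : U.1 ⊓ V.1 ≤ U.1)).op) (hc U)
      have e2 := congrArg (G.left.presheaf.map (homOfLE (inf_le_right : U.1 ⊓ V.1 ≤ V.1)).op) (hc V)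
      rw [map_mul, map_cst] at e1 e2
      refine e1.symm.trans (Eq.trans ?_ e2)
      rw [← CommRingCat.comp_apply, ← CommRingCat.comp_apply, ← Functor.map_comp, ← Functor.map_comp]
      rfl
  obtain ⟨b, hb⟩ : ∃ b : Γ(G.left, ⊤), ∀ U : G.left.affineOpens,
      G.left.presheaf.map (homOfLE le_top).op b = c U := ⟨a', ha'⟩
  refine ⟨b, G.left.sheaf.eq_of_locally_eq' (fun U : G.left.affineOpens => U.1) ⊤ (fun U => homOfLE le_top) hcov a _
    fun U => ?_⟩
  refine (hc U).trans ?_
  show _ = G.left.presheaf.map (homOfLE le_top).op (cst π ⊤ * b)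
  rw [map_mul, map_cst, hb U]

variable [IsDomain R] [IsDiscreteValuationRing R] [GrpObj G] [QuasiCompact G.hom] [IsSeparated G.hom] [Flat G.hom]
  [LocallyOfFiniteType G.hom]

theorem isAffine_of_dvr (K : Type u) [Field K] [Algebra R K] [IsFractionRing R K]
    (hgen : IsAffine (pullback G.hom (Spec.map (CommRingCat.ofHom (algebraMap R K))))) : IsAffine G.left := by
  obtain ⟨π, hπirr⟩ := IsDiscreteValuationRing.exists_irreducible R
  have hm : IsLocalRing.maximalIdeal R = Ideal.span {π} :=
    IsDiscreteValuationRing.irreducible_iff_uniformizer π |>.1 hπirr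
  have hπ0 : π ≠ 0 := hπirr.ne_zero
  haveI : IsLocalization.Away π K := by
    refine IsLocalization.Away.mk π (IsUnit.mk0 _ fun h => hπ0 ((IsFractionRing.injective R K) (h.trans (map_zero _).symm)))
      (fun z => ?_) (fun a b h => ⟨0, by rw [IsFractionRing.injective R K h]⟩)
    obtain ⟨a, b, hb, rfl⟩ := IsFractionRing.div_surjective (A := R) z
    obtain ⟨n, w, rfl⟩ := IsDiscreteValuationRing.eq_unit_mul_pow_irreducible (nonZeroDivisors.ne_zero hb) hπirr
    refine ⟨n, a * ↑w⁻¹, ?_⟩
    have hw : algebraMap R K (↑w⁻¹) * algebraMap R K ↑w = 1 := by rw [← map_mul, Units.inv_mul, map_one]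
    have hne : algebraMap R K ↑w * algebraMap R K π ^ n ≠ 0 := by
      rw [← map_pow, ← map_mul]
      exact fun h => nonZeroDivisors.ne_zero hb ((IsFractionRing.injective R K) (h.trans (map_zero _).symm))
    rw [map_mul, map_mul, map_pow, div_mul_eq_mul_div, div_eq_iff hne]
    linear_combination (-(algebraMap R K a * algebraMap R K π ^ n)) * hw
  haveI : CompactSpace G.left := (quasiCompact_iff_compactSpace G.hom).mp inferInstance
  haveI : QuasiSeparatedSpace G.left := (quasiSeparated_iff_quasiSeparatedSpace G.hom).mp inferInstance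
  letI := algTop (G := G)
  let πA : Γ(G.left, ⊤) := cst π ⊤
  let D := G.left.basicOpen πA
  haveI : IsOpenImmersion (Spec.map (CommRingCat.ofHom (algebraMap R K))) := IsOpenImmersion.of_isLocalization π
  have hDpre : D = G.hom ⁻¹ᵁ PrimeSpectrum.basicOpen π := by
    refine Eq.trans ?_ (congrArg (G.hom ⁻¹ᵁ ·) (basicOpen_eq_of_affine (R := CommRingCat.of R) π))
    rw [Scheme.preimage_basicOpen_top]
    show G.left.basicOpen (cst π ⊤) = _
    rw [cst_top]
    rfl
  have hrange : (pullback.fst G.hom (Spec.map (CommRingCat.ofHom (algebraMap R K)))).opensRange = D := by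
    rw [hDpre]
    refine Opens.ext ?_
    show Set.range (pullback.fst G.hom (Spec.map (CommRingCat.ofHom (algebraMap R K)))) = _
    rw [Scheme.Pullback.range_fst]
    exact congrArg (G.hom ⁻¹' ·) (PrimeSpectrum.localization_away_comap_range K π)
  have hD : IsAffineOpen D := by
    haveI := hgen
    exact hrange ▸ isAffineOpen_opensRange _
  letI : Algebra Γ(G.left, ⊤) Γ(G.left, D) := (G.left.presheaf.map (homOfLE le_top).op).hom.toAlgebra
  haveI hloc : IsLocalization.Away πA Γ(G.left, D) :=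
    isLocalization_basicOpen_of_qcqs isCompact_univ isQuasiSeparated_univ πA
  let ρ := G.left.toSpecΓ
  -- the special fibre
  letI : Field (R ⧸ IsLocalRing.maximalIdeal R) := Ideal.Quotient.field _
  obtain ⟨A', _, q, hq, hker, hflat, hpts⟩ :=
    Special.exists_image (k := R ⧸ IsLocalRing.maximalIdeal R) (G := G) Ideal.Quotient.mk_surjective
  have hqker : RingHom.ker q = Ideal.span {πA} := by
    refine le_antisymm (fun a ha => ?_) ?_
    · rw [RingHom.mem_ker] at ha
      obtain ⟨a', rfl⟩ := exists_eq_cst_mul hπ0 a fun U hU => by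
        letI := algU (G := G) U
        obtain ⟨r, -, hr⟩ := hflat U hU
        have h1 : ((1 : R ⧸ IsLocalRing.maximalIdeal R) ⊗ₜ[R] pullFn (openPt hU) a) = 0 := by
          rw [← hr, ha, map_zero]
        rw [pullFn_openPt, ← Algebra.TensorProduct.quotIdealMapEquivQuotTensor_mk,
          AddEquivClass.map_eq_zero_iff, Ideal.Quotient.eq_zero_iff_mem, hm, Ideal.map_span,
          Set.image_singleton, Ideal.mem_span_singleton] at h1
        exact h1
      exact Ideal.mul_mem_right _ _ (Ideal.mem_span_singleton_self _)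
    · rw [Ideal.span_le, Set.singleton_subset_iff]
      refine hker _ fun U hU => ?_
      letI := algU (G := G) U
      rw [show πA = algebraMap R Γ(G.left, ⊤) π from cst_top π, AlgHom.commutes,
        Algebra.algebraMap_eq_smul_one, ← TensorProduct.smul_tmul, ← Algebra.algebraMap_eq_smul_one,
        Ideal.Quotient.algebraMap_eq, Ideal.Quotient.eq_zero_iff_mem.mpr (hm ▸ Ideal.mem_span_singleton_self π),
        TensorProduct.zero_tmul]
  have hmap : ∀ (U : G.left.Opens), letI := algU (G := G) U;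
      letI : Algebra Γ(G.left, ⊤) Γ(G.left, U) := (G.left.presheaf.map (homOfLE le_top).op).hom.toAlgebra
      algebraMap Γ(G.left, ⊤) Γ(G.left, U) πA = algebraMap R Γ(G.left, U) π := fun U => map_cst π le_top
  -- flatness
  have hflatC : ∀ (U : G.left.Opens), IsAffineOpen U →
      (G.left.presheaf.map (homOfLE (le_top : U ≤ ⊤)).op).hom.Flat := by
    intro U hU
    letI := algU (G := G) U
    letI algA : Algebra Γ(G.left, ⊤) Γ(G.left, U) := (G.left.presheaf.map (homOfLE le_top).op).hom.toAlgebra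
    show Module.Flat Γ(G.left, ⊤) Γ(G.left, U)
    let J : Ideal Γ(G.left, U) := (Ideal.span {πA}).map (algebraMap Γ(G.left, ⊤) Γ(G.left, U))
    have hJ : (IsLocalRing.maximalIdeal R).map (algebraMap R Γ(G.left, U)) = J := by
      simp only [J, hm, Ideal.map_span, Set.image_singleton, hmap]
    obtain ⟨r, hrf, hr⟩ := hflat U hU
    let e1 : (R ⧸ IsLocalRing.maximalIdeal R) ⊗[R] Γ(G.left, U) ≃+* Γ(G.left, U) ⧸ J :=
      ((Algebra.TensorProduct.quotIdealMapEquivQuotTensor Γ(G.left, U) (IsLocalRing.maximalIdeal R)).symm.toRingEquiv).trans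
        (Ideal.quotEquivOfEq hJ)
    let e2 : Γ(G.left, U) ⧸ J ≃+* (Γ(G.left, ⊤) ⧸ Ideal.span {πA}) ⊗[Γ(G.left, ⊤)] Γ(G.left, U) :=
      (Algebra.TensorProduct.quotIdealMapEquivQuotTensor Γ(G.left, U) (Ideal.span {πA})).toRingEquiv
    let eq : Γ(G.left, ⊤) ⧸ Ideal.span {πA} ≃+* A' :=
      (Ideal.quotEquivOfEq hqker.symm).trans (RingHom.quotientKerEquivOfSurjective hq)
    haveI : Module.Flat (Γ(G.left, ⊤) ⧸ Ideal.span {πA})
        ((Γ(G.left, ⊤) ⧸ Ideal.span {πA}) ⊗[Γ(G.left, ⊤)] Γ(G.left, U)) := by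
      have h1 : algebraMap (Γ(G.left, ⊤) ⧸ Ideal.span {πA})
          ((Γ(G.left, ⊤) ⧸ Ideal.span {πA}) ⊗[Γ(G.left, ⊤)] Γ(G.left, U)) =
          e2.toRingHom.comp (e1.toRingHom.comp (r.comp eq.toRingHom)) := by
        refine Ideal.Quotient.ringHom_ext (RingHom.ext fun a => ?_)
        show Ideal.Quotient.mk _ a ⊗ₜ[Γ(G.left, ⊤)] (1 : Γ(G.left, U)) = e2 (e1 (r (q a)))
        rw [hr, pullFn_openPt]
        have h2 : e1 ((1 : R ⧸ IsLocalRing.maximalIdeal R) ⊗ₜ[R] algebraMap Γ(G.left, ⊤) Γ(G.left, U) a) =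
            Ideal.Quotient.mk J (algebraMap Γ(G.left, ⊤) Γ(G.left, U) a) := by
          show Ideal.quotEquivOfEq hJ ((Algebra.TensorProduct.quotIdealMapEquivQuotTensor Γ(G.left, U)
            (IsLocalRing.maximalIdeal R)).symm (1 ⊗ₜ[R] algebraMap Γ(G.left, ⊤) Γ(G.left, U) a)) = _
          rw [← Algebra.TensorProduct.quotIdealMapEquivQuotTensor_mk, AlgEquiv.symm_apply_apply]
          rfl
        refine Eq.trans ?_ (congrArg e2 h2).symm
        show _ = (1 : Γ(G.left, ⊤) ⧸ Ideal.span {πA}) ⊗ₜ[Γ(G.left, ⊤)] algebraMap Γ(G.left, ⊤) Γ(G.left, U) a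
        rw [Algebra.algebraMap_eq_smul_one, ← TensorProduct.smul_tmul]
        congr 1
        exact (Algebra.algebraMap_eq_smul_one (A := Γ(G.left, ⊤) ⧸ Ideal.span {πA}) a)
      have h2 : (algebraMap (Γ(G.left, ⊤) ⧸ Ideal.span {πA})
          ((Γ(G.left, ⊤) ⧸ Ideal.span {πA}) ⊗[Γ(G.left, ⊤)] Γ(G.left, U))).Flat := by
        rw [h1]
        exact (((RingHom.Flat.of_bijective eq.bijective).comp hrf).comp (RingHom.Flat.of_bijective e1.bijective)).comp
          (RingHom.Flat.of_bijective e2.bijective)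
      exact RingHom.flat_algebraMap_iff.mp h2
    let W := G.left.basicOpen (algebraMap Γ(G.left, ⊤) Γ(G.left, U) πA)
    have hWU : W ≤ U := G.left.basicOpen_le _
    have hW : IsAffineOpen W := hU.basicOpen _
    have hWD : W ≤ D := by
      show G.left.basicOpen (G.left.presheaf.map (homOfLE le_top).op πA) ≤ _
      rw [Scheme.basicOpen_res]
      exact inf_le_right
    letI : Algebra Γ(G.left, ⊤) Γ(G.left, W) := (G.left.presheaf.map (homOfLE le_top).op).hom.toAlgebra
    letI : Algebra Γ(G.left, U) Γ(G.left, W) := (G.left.presheaf.map (homOfLE hWU).op).hom.toAlgebra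
    haveI : IsScalarTower Γ(G.left, ⊤) Γ(G.left, U) Γ(G.left, W) := IsScalarTower.of_algebraMap_eq fun a =>
      (ConcreteCategory.congr_hom (G.left.presheaf.map_comp (homOfLE le_top).op (homOfLE hWU).op) a)
    haveI : IsLocalization.Away (algebraMap Γ(G.left, ⊤) Γ(G.left, U) πA) Γ(G.left, W) :=
      hU.isLocalization_of_eq_basicOpen _ _ rfl
    haveI : Module.Flat Γ(G.left, ⊤) Γ(G.left, W) := by
      have h1 : (G.left.presheaf.map (homOfLE (le_top : D ≤ ⊤)).op).hom.Flat :=
        (RingHom.flat_algebraMap_iff (R := Γ(G.left, ⊤)) (S := Γ(G.left, D))).mpr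
          (IsLocalization.flat Γ(G.left, D) (Submonoid.powers πA))
      have h2 : (G.left.presheaf.map (homOfLE hWD).op).hom.Flat := by
        have := Scheme.Hom.flat_appLE (𝟙 G.left) hD hW hWD
        simpa [Scheme.Hom.appLE] using this
      have h3 := h1.comp h2
      rw [← CommRingCat.hom_comp, ← Functor.map_comp] at h3
      exact h3
    refine flat_of_mod_of_away πA ?_ ?_ Γ(G.left, W)
    · intro x y h
      exact sub_eq_zero.1 (eq_zero_of_cst_mul hπ0 _ (by rw [mul_sub, sub_eq_zero]; exact h))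
    · intro x y h
      refine sub_eq_zero.1 (eq_zero_of_cst_mul hπ0 _ ?_)
      rw [mul_sub, sub_eq_zero]
      simp only [Algebra.smul_def, hmap] at h
      exact h
  haveI hρf : Flat ρ := by
    refine HasRingHomProperty.of_iSup_eq_top (P := @Flat) (fun U : G.left.affineOpens => U)
      (iSup_affineOpens_eq_top G.left) fun U => ?_
    have e : ρ.appLE ⊤ U.1 le_top = (Scheme.ΓSpecIso Γ(G.left, ⊤)).hom ≫
        G.left.presheaf.map (homOfLE (le_top : U.1 ≤ ⊤)).op := by
      rw [← Scheme.toSpecΓ_appTop]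
      rfl
    rw [e, CommRingCat.hom_comp]
    exact (RingHom.Flat.of_bijective (ConcreteCategory.bijective_of_isIso _)).comp (hflatC U.1 U.2)
  -- surjectivity
  haveI hρs : Surjective ρ := ⟨fun p => by
    by_cases hp : πA ∈ p.asIdeal
    · let f : Γ(G.left, ⊤) ⧸ Ideal.span {πA} ≃+* A' :=
        (Ideal.quotEquivOfEq hqker.symm).trans (RingHom.quotientKerEquivOfSurjective hq)
      have hle : RingHom.ker q ≤ p.asIdeal := hqker ▸ (Ideal.span_le.2 (Set.singleton_subset_iff.2 hp))
      haveI := Ideal.map_isPrime_of_surjective hq hle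
      obtain ⟨x, hx⟩ := hpts ⟨p.asIdeal.map q, inferInstance⟩
      refine ⟨x, hx.trans (PrimeSpectrum.ext ?_)⟩
      show (p.asIdeal.map q).comap q = _
      rw [Ideal.comap_map_of_surjective q hq]
      exact sup_eq_left.2 hle
    · have : p ∈ Set.range (PrimeSpectrum.comap (algebraMap Γ(G.left, ⊤) Γ(G.left, D))) := by
        rw [PrimeSpectrum.localization_away_comap_range _ πA]
        exact hp
      obtain ⟨P, hP⟩ := this
      refine ⟨hD.fromSpec P, ?_⟩
      rw [← Scheme.Hom.comp_apply, hD.fromSpec_toSpecΓ]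
      exact hP⟩
  haveI : QuasiCompact ρ := inferInstance
  -- monomorphism
  haveI : IsOpenImmersion (D.ι ≫ ρ) := by
    rw [← IsIso.hom_inv_id_assoc hD.isoSpec.hom (D.ι ≫ ρ)]
    haveI : IsOpenImmersion (Spec.map (CommRingCat.ofHom (algebraMap Γ(G.left, ⊤) Γ(G.left, D)))) :=
      IsOpenImmersion.of_isLocalization πA
    have e : inv hD.isoSpec.hom ≫ D.ι ≫ ρ = Spec.map (CommRingCat.ofHom (algebraMap Γ(G.left, ⊤) Γ(G.left, D))) := by
      rw [IsIso.Iso.inv_hom, IsAffineOpen.isoSpec_inv_ι_assoc, hD.fromSpec_toSpecΓ]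
      rfl
    rw [e]
    infer_instance
  have hw : ρ ≫ Spec.map (CommRingCat.ofHom (algebraMap R Γ(G.left, ⊤))) = G.hom := by
    show G.left.toSpecΓ ≫ Spec.map ((Scheme.ΓSpecIso (CommRingCat.of R)).inv ≫ G.hom.appTop) = _
    rw [Spec.map_comp, ← Category.assoc, ← Scheme.toSpecΓ_naturality, Category.assoc,
      ← SpecMap_ΓSpecIso_hom, ← Spec.map_comp, Iso.inv_hom_id, Spec.map_id, Category.comp_id]
  have hfs : pullback.fst ρ ρ = pullback.snd ρ ρ := by
    let W : Over (Spec (CommRingCat.of R)) := Over.mk (pullback.fst ρ ρ ≫ G.hom)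
    haveI : Flat W.hom := inferInstanceAs (Flat (pullback.fst ρ ρ ≫ G.hom))
    let a : W ⟶ G := Over.homMk (pullback.fst ρ ρ) rfl
    let b : W ⟶ G := Over.homMk (pullback.snd ρ ρ) (by
      show pullback.snd ρ ρ ≫ G.hom = pullback.fst ρ ρ ≫ G.hom
      rw [← hw, ← pullback.condition_assoc])
    refine congrArg CommaMorphism.left (GrpSchLib.hom_ext_of_generic (IsFractionRing.injective R K) a b ?_)
    let z := pullback.fst W.hom (Spec.map (CommRingCat.ofHom (algebraMap R K)))
    have hin : ∀ c : W ⟶ G, Set.range (z ≫ c.left) ⊆ Set.range D.ι := by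
      rintro c _ ⟨t, rfl⟩
      rw [Scheme.Opens.range_ι, hDpre]
      show G.hom ((z ≫ c.left) t) ∈ (PrimeSpectrum.basicOpen π : Set (PrimeSpectrum R))
      rw [← Scheme.Hom.comp_apply, Category.assoc, Over.w c, pullback.condition, Scheme.Hom.comp_apply,
        ← PrimeSpectrum.localization_away_comap_range K π]
      exact ⟨_, rfl⟩
    have e : IsOpenImmersion.lift D.ι (z ≫ a.left) (hin a) = IsOpenImmersion.lift D.ι (z ≫ b.left) (hin b) := by
      rw [← cancel_mono (D.ι ≫ ρ), IsOpenImmersion.lift_fac_assoc, IsOpenImmersion.lift_fac_assoc, Category.assoc,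
        Category.assoc]
      exact congrArg (z ≫ ·) pullback.condition
    have := congrArg (· ≫ D.ι) e
    simpa only [IsOpenImmersion.lift_fac] using this
  haveI : Mono ρ := ⟨fun x y h => by
    rw [← pullback.lift_fst (f := ρ) (g := ρ) x y h, hfs, pullback.lift_snd]⟩
  have hiso : IsIso (pullback.fst ρ ρ) := inferInstance
  haveI : IsIso ρ := MorphismProperty.of_pullback_fst_of_descendsAlong
    (P := MorphismProperty.isomorphisms Scheme.{u}) (Q := @Surjective ⊓ @Flat ⊓ @QuasiCompact) (f := ρ) (g := ρ)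
    ⟨⟨hρs, hρf⟩, inferInstance⟩ hiso
  exact ⟨inferInstance⟩

end Groth.Agent.ParLib.Dvr
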