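import Groth.Agent.ParLib.CurveBound
import Groth.Agent.ParLib.FibreBound
import Groth.Agent.CurveCohLib.SmoothCurve
import Groth.Agent.FibDim.BaseField

/-!
# Degrees of quotients of a bundle are uniformly bounded in a family of curves
-/

universe u
set_option maxHeartbeats 1000000
set_option linter.style.haveILetI false
set_option autoImplicit false
open AlgebraicGeometry CategoryTheory CategoryTheory.Limits

namespace Groth.Agent.ParLib

open Groth.Agent.QCoh Groth.Agent.ConsPropLib

theorem finrank_stalk_of_restrict_iso {X : Scheme.{u}} {M : X.Modules} {U : X.Opens} {m : ℕ}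
    (e : M.restrict U.ι ≅ FlatMod.freeMod (U : Scheme.{u}) m) (h : FlatMod.IsFinLocFree M) {x : X}
    (hx : x ∈ U) : Module.finrank (X.presheaf.stalk x) (M.presheaf.stalk x) = m := by
  obtain ⟨_, ⟨V, hV, rfl⟩, hxV, hle⟩ :=
    X.isBasis_affineOpens.exists_subset_of_mem_open (show x ∈ U from hx) U.2
  obtain ⟨l⟩ := exists_linearEquiv_of_freeIso (freeChart hV hle e)
  exact finrank_stalk_of_freeChart hV (isQCoh_of_isFinLocFree h) ((chartEquiv hV M).trans l) hxV

theorem finrank_stalk_pullback {X Y : Scheme.{u}} (g : Y ⟶ X) {M : X.Modules} (hM : FlatMod.IsFinLocFree M)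
    (y : Y) : Module.finrank (Y.presheaf.stalk y) (((Scheme.Modules.pullback g).obj M).presheaf.stalk y) =
      Module.finrank (X.presheaf.stalk (g y)) (M.presheaf.stalk (g y)) := by
  obtain ⟨U, m, hx, ⟨e⟩⟩ := hM (g y)
  rw [finrank_stalk_of_restrict_iso e hM hx]
  exact finrank_stalk_of_restrict_iso
    (((H23.PullPush.pullRestrictIso g U).app M).symm ≪≫ (Scheme.Modules.pullback (g ∣_ U)).mapIso e ≪≫
      KFlatLib.pullFreeIso _ m) (KFlatLib.isFinLocFree_pullback g hM) hx

theorem exists_bound_rank {X : Scheme.{u}} [CompactSpace X] {M : X.Modules} (hM : FlatMod.IsFinLocFree M) :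
    ∃ N : ℕ, ∀ x : X, Module.finrank (X.presheaf.stalk x) (M.presheaf.stalk x) ≤ N := by
  obtain ⟨N, hN⟩ := (QCoh.isLocallyConstant_rank hM).range_finite.bddAbove
  exact ⟨N, fun x => hN ⟨x, rfl⟩⟩

theorem isFinLocFree_structureModule (X : Scheme.{u}) : FlatMod.IsFinLocFree (Coh.structureModule X) :=
  fun _ => ⟨⊤, 1, trivial, ⟨(Scheme.Modules.restrictFunctorIsoPullback _).app _ ≪≫ CurveBC.unitIso _ ≪≫
    (coproductUniqueIso fun _ : Fin 1 => Coh.structureModule ((⊤ : X.Opens) : Scheme.{u})).symm⟩⟩

/-- The cohomology of the restriction to the curve over a field-valued point is that of the fibre. -/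
theorem finrank_HH_pullback_le {S X : Scheme.{u}} (p : X ⟶ S) [QuasiCompact p] [QuasiSeparated p]
    {M : X.Modules} (hM : Coh.IsQCoh M) {q B : ℕ} (hB : ∀ s, CohIII.fiberRank p M q s ≤ B)
    (K : Type u) [Field K] (x : Spec (CommRingCat.of K) ⟶ S) :
    letI : (pullback p x).Over (Spec (CommRingCat.of K)) := ⟨pullback.snd p x⟩
    Module.finrank K (Coh.HH (pullback p x) ((Scheme.Modules.pullback (pullback.fst p x)).obj M) q) ≤ B := by
  letI : (pullback p x).Over (Spec (CommRingCat.of K)) := ⟨pullback.snd p x⟩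
  obtain ⟨⟨s, ψ⟩, rfl⟩ := (Scheme.SpecToEquivOfField K S).symm.surjective x
  letI : Algebra (S.residueField s) K := ψ.hom.toAlgebra
  let x' : Spec (CommRingCat.of K) ⟶ S := Spec.map ψ ≫ S.fromSpecResidueField s
  change letI : (pullback p x').Over (Spec (CommRingCat.of K)) := ⟨pullback.snd p x'⟩
    Module.finrank K (Coh.HH (pullback p x') ((Scheme.Modules.pullback (pullback.fst p x')).obj M) q) ≤ B
  letI : (pullback p x').Over (Spec (CommRingCat.of K)) := ⟨pullback.snd p x'⟩
  letI : (p.fiber s).Over (Spec (CommRingCat.of (S.residueField s))) := ⟨p.fiberToSpecResidueField s⟩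
  let g' : pullback p x' ⟶ p.fiber s :=
    pullback.lift (pullback.fst p x') (pullback.snd p x' ≫ Spec.map ψ)
      (by rw [Category.assoc]; exact pullback.condition)
  have hg : g' ≫ p.fiberι s = pullback.fst p x' := pullback.lift_fst _ _ _
  have hpb : IsPullback g' ((pullback p x') ↘ Spec (CommRingCat.of K))
      ((p.fiber s) ↘ Spec (CommRingCat.of (S.residueField s)))
      (Spec.map (CommRingCat.ofHom (algebraMap (S.residueField s) K))) := by
    refine IsPullback.of_right ?_ (pullback.lift_snd _ _ _) (IsPullback.of_hasPullback p (S.fromSpecResidueField s))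
    erw [hg]
    exact IsPullback.of_hasPullback p x'
  haveI : QuasiCompact (p.fiberToSpecResidueField s) :=
    inferInstanceAs (QuasiCompact (pullback.snd p (S.fromSpecResidueField s)))
  haveI : QuasiSeparated (p.fiberToSpecResidueField s) :=
    inferInstanceAs (QuasiSeparated (pullback.snd p (S.fromSpecResidueField s)))
  haveI : CompactSpace (p.fiber s) := QuasiCompact.compactSpace_of_compactSpace (p.fiberToSpecResidueField s)
  haveI : QuasiSeparatedSpace (p.fiber s) := quasiSeparatedSpace_of_quasiSeparated (p.fiberToSpecResidueField s)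
  rw [← (CurveCohLib.hhEquiv (k := K) ((Scheme.Modules.pullbackComp g' (p.fiberι s)).app M ≪≫
      (Scheme.Modules.pullbackCongr hg).app M) q).finrank_eq]
  exact (CurveBC.finrank_hh (S.residueField s) K g' hpb (CohIII.fiberMod p M s)
    (QCoh.isQCoh_pullback _ hM) q).trans_le (hB s)

/-- Uniform bound for the degrees of the quotients of a vector bundle on the curves of a family. -/
theorem exists_uniform_bound {S X : Scheme.{u}} [IsNoetherian S] (p : X ⟶ S) [Smooth p] [IsProper p]
    [GeometricallyConnected p] (hdim : ∀ s : S, topologicalKrullDim (p.fiber s) = 1)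
    {E : X.Modules} (hE : FlatMod.IsFinLocFree E) :
    ∃ B : ℤ, ∀ (K : Type u) [Field K] (x : Spec (CommRingCat.of K) ⟶ S) (Q : (pullback p x).Modules) (n : ℕ)
      (ψ : (Scheme.Modules.pullback (pullback.fst p x)).obj E ⟶ Q), Epi ψ → FlatMod.IsFinLocFreeOfRank n Q →
      -@Curv2.deg K _ (pullback p x) ⟨pullback.snd p x⟩ Q n ≤ B := by
  haveI : IsLocallyNoetherian X := LocallyOfFiniteType.isLocallyNoetherian p
  haveI : CompactSpace X := QuasiCompact.compactSpace_of_compactSpace p
  have hO := isFinLocFree_structureModule X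
  have hEc : Coh.IsCoh E := QCoh.isCoh_iff_isFP.2 (QCoh.isFP_of_isFinLocFree hE)
  have hOc : Coh.IsCoh (Coh.structureModule X) := QCoh.isCoh_iff_isFP.2 (QCoh.isFP_of_isFinLocFree hO)
  obtain ⟨B1, hB1⟩ := exists_bound_fiberRank p hEc (isFlatOver_of_isFinLocFree p hE) 1
  obtain ⟨B0, hB0⟩ := exists_bound_fiberRank p hOc (isFlatOver_of_isFinLocFree p hO) 0
  obtain ⟨N, hN⟩ := exists_bound_rank hE
  refine ⟨(B1 : ℤ) + (N : ℤ) * B0, fun K _ x Q n ψ hψ hQ => ?_⟩
  letI : (pullback p x).Over (Spec (CommRingCat.of K)) := ⟨pullback.snd p x⟩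
  haveI : IsProper ((pullback p x) ↘ Spec (CommRingCat.of K)) := inferInstanceAs (IsProper (pullback.snd p x))
  haveI : CompactSpace (pullback p x : Scheme.{u}) :=
    QuasiCompact.compactSpace_of_compactSpace ((pullback p x) ↘ Spec (CommRingCat.of K))
  haveI : Smooth ((pullback p x) ↘ Spec (CommRingCat.of K)) := inferInstanceAs (Smooth (pullback.snd p x))
  haveI : ConnectedSpace (pullback p x : Scheme.{u}) :=
    GeometricallyConnected.geometrically_connectedSpace _ _ _ (IsPullback.of_hasPullback p x)
  haveI : IsIntegral (pullback p x) :=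
    CurveCohLib.isIntegral_of_smooth_connected ((pullback p x) ↘ Spec (CommRingCat.of K))
  have hdimK : topologicalKrullDim (pullback p x : Scheme.{u}) = 1 := by
    obtain ⟨⟨s, ψ'⟩, rfl⟩ := (Scheme.SpecToEquivOfField K S).symm.surjective x
    let x' : Spec (CommRingCat.of K) ⟶ S := Spec.map ψ' ≫ S.fromSpecResidueField s
    have h : IsPullback (pullback.lift (pullback.fst p x') (pullback.snd p x' ≫ Spec.map ψ')
        (by rw [Category.assoc]; exact pullback.condition) : pullback p x' ⟶ p.fiber s)
        (pullback.snd p x') (p.fiberToSpecResidueField s) (Spec.map ψ') := by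
      refine IsPullback.of_right ?_ (pullback.lift_snd _ _ _) (IsPullback.of_hasPullback p (S.fromSpecResidueField s))
      erw [pullback.lift_fst]
      exact IsPullback.of_hasPullback p x'
    haveI : Subsingleton (Spec (CommRingCat.of K)) := inferInstanceAs (Subsingleton (PrimeSpectrum K))
    haveI : Nonempty (Spec (CommRingCat.of K)) := inferInstanceAs (Nonempty (PrimeSpectrum K))
    haveI : Subsingleton (Spec (S.residueField s)) :=
      inferInstanceAs (Subsingleton (PrimeSpectrum (S.residueField s)))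
    haveI : LocallyOfFiniteType (p.fiberToSpecResidueField s) :=
      inferInstanceAs (LocallyOfFiniteType (pullback.snd p (S.fromSpecResidueField s)))
    haveI : LocallyOfFiniteType (pullback.snd p x') := inferInstance
    exact (@FibDim.topologicalKrullDim_baseChange _ _ _ _ _ _ _ _ ‹LocallyOfFiniteType (p.fiberToSpecResidueField s)›
      ‹LocallyOfFiniteType (pullback.snd p x')› ‹_› ‹_› ‹_› h).trans (hdim s)
  haveI := hψ
  obtain ⟨-, h2⟩ := neg_deg_le K hdimK (KFlatLib.isFinLocFree_pullback (pullback.fst p x) hE) hQ ψ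
  have hr : CurveCohLib.genRank ((Scheme.Modules.pullback (pullback.fst p x)).obj E) ≤ N :=
    (finrank_stalk_pullback _ hE _).trans_le (hN _)
  have h1 := finrank_HH_pullback_le p hEc.1 hB1 K x
  have h0 := finrank_HH_pullback_le p hOc.1 hB0 K x
  rw [(CurveCohLib.hhEquiv (k := K) (CurveBC.unitIso (pullback.fst p x)) 0).finrank_eq] at h0
  refine h2.trans (add_le_add (by exact_mod_cast h1) ?_)
  exact mul_le_mul (by exact_mod_cast hr) (by exact_mod_cast h0) (Int.natCast_nonneg _) (Int.natCast_nonneg _)

end Groth.Agent.ParLib
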