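import Groth.Agent.RedRk29.Translate
import Groth.Agent.ComodLib.Push
import Groth.Agent.AlgGrpQ.Kolchin
import Groth.Agent.ComodLib.Trig
import Groth.Agent.Obs28.Unip.Main

/-!
# The points of a connected smooth subgroup of an affine group
-/

set_option autoImplicit false
set_option backward.isDefEq.respectTransparency false
set_option backward.isDefEq.respectTransparency.types false

universe u

open CategoryTheory CategoryTheory.Limits MonoidalCategory CartesianMonoidalCategory MonObj AlgebraicGeometry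
open TensorProduct WithConv

namespace Groth.Agent.ParLib

open BigCell29 RedRk29 GrpSchLib.AffineHopf

variable {k : Type u} [Field k] {A : Type u} [CommRing A] [HopfAlgebra k A]

/-- The points of a subgroup scheme of `sp k A`. -/
noncomputable def ptsOf {H : Over (Spec (CommRingCat.of k))} [GrpObj H] (h : H ⟶ sp k A) [IsMonHom h] :
    Subgroup (Pt k A k) where
  carrier := {g | ∃ x : sp k k ⟶ H, x ≫ h = spMap g.ofConv}
  one_mem' := ⟨1, by rw [MonObj.one_comp, spMap_eq_mapMulEquiv, toConv_ofConv, map_one]⟩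
  mul_mem' := fun {a b} ⟨x, hx⟩ ⟨y, hy⟩ => ⟨x * y, by rw [MonObj.mul_comp, hx, hy, spMap_mul]⟩
  inv_mem' := fun {a} ⟨x, hx⟩ => ⟨x⁻¹, by
    rw [GrpObj.inv_comp, hx, spMap_eq_mapMulEquiv, spMap_eq_mapMulEquiv, toConv_ofConv, toConv_ofConv]
    exact (map_inv Spec.mapMulEquiv a).symm⟩

/-- A smooth connected closed subgroup in coordinates. -/
theorem exists_coordinates [IsAlgClosed k] [Algebra.FiniteType k A] {H : Over (Spec (CommRingCat.of k))} [GrpObj H]
    (h : H ⟶ sp k A) [IsMonHom h] [IsClosedImmersion h.left] (hsm : Smooth H.hom) (hc : ConnectedSpace H.left) :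
    (∀ g : Pt k A k, (∀ a ∈ vanIdeal (ptsOf h), g.ofConv a = 0) → g ∈ ptsOf h) ∧
      (vanIdeal (ptsOf h)).IsPrime := by
  have := hsm
  have := hc
  have : IsAffine (sp k A).left := isAffine_Spec _
  have hAff : IsAffine H.left := isAffine_of_isAffineHom h.left
  obtain ⟨B, _, _, ⟨t⟩⟩ := exists_hopf H
  let e : sp k B ≅ H := (Grp.forget _).mapIso t
  haveI : IsMonHom e.hom := t.hom.hom.isMonHom_hom
  obtain ⟨φ, hφ⟩ := exists_eq_spMap (e.hom ≫ h)
  have he : IsIso e.hom.left := inferInstanceAs (IsIso ((Over.forget _).map e.hom))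
  have : IsClosedImmersion (spMap φ).left := by rw [← hφ, Over.comp_left]; infer_instance
  have hsurj : Function.Surjective φ := by
    have h2 := (@IsClosedImmersion.isAffine_surjective_of_isAffine _ _ (isAffine_Spec _) (spMap φ).left this).2
    intro b
    obtain ⟨a, ha⟩ := h2 ((Scheme.ΓSpecIso (CommRingCat.of B)).inv b)
    refine ⟨(Scheme.ΓSpecIso (CommRingCat.of A)).hom a, ?_⟩
    have h3 : φ.toRingHom ((Scheme.ΓSpecIso (CommRingCat.of A)).hom a) =
        (Scheme.ΓSpecIso (CommRingCat.of B)).hom ((Spec.map (CommRingCat.ofHom φ.toRingHom)).appTop a) :=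
      (ConcreteCategory.congr_hom (Scheme.ΓSpecIso_naturality (CommRingCat.ofHom φ.toRingHom)) a).symm
    refine h3.trans ?_
    erw [ha]
    exact (Scheme.ΓSpecIso (CommRingCat.of B)).commRingCatIsoToRingEquiv.apply_symm_apply b
  have hint : IsIntegral H.left := Obs28.Unip.isIntegral_grp (G := H)
  haveI : IsDomain B := by
    have hne : Nonempty (Spec (CommRingCat.of B)) :=
      ⟨(inv e.hom.left).base (Classical.choice inferInstance)⟩
    have : IsOpenImmersion e.hom.left := IsOpenImmersion.of_isIso _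
    have : IsIntegral (Spec (CommRingCat.of B)) :=
      @isIntegral_of_isOpenImmersion (Spec (CommRingCat.of B)) H.left e.hom.left this inferInstance hne
    exact (affine_isIntegral_iff (CommRingCat.of B)).mp this
  haveI : Algebra.FiniteType k B := .of_surjective φ hsurj
  have hmem : ∀ g : Pt k A k, g ∈ ptsOf h ↔ ∃ ψ : B →ₐ[k] k, g.ofConv = ψ.comp φ := by
    intro g
    constructor
    · rintro ⟨x, hx⟩
      obtain ⟨ψ, hψ⟩ := exists_eq_spMap (x ≫ e.inv)
      refine ⟨ψ, spMap_injective ?_⟩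
      rw [← spMap_comp, ← hψ, ← hφ, ← hx]
      simp
    · rintro ⟨ψ, hψ⟩
      exact ⟨spMap ψ ≫ e.hom, by rw [Category.assoc, hφ, spMap_comp, ← hψ]⟩
  have hker : vanIdeal (ptsOf h) = RingHom.ker φ := by
    ext a
    rw [mem_vanIdeal, RingHom.mem_ker]
    refine ⟨fun ha => RedRk29.eq_zero_of_points (k := k) (φ a) fun ψ => ?_, fun ha g hg => ?_⟩
    · exact ha (toConv (ψ.comp φ)) ((hmem _).mpr ⟨ψ, rfl⟩)
    · obtain ⟨ψ, hψ⟩ := (hmem g).mp hg
      rw [hψ, AlgHom.comp_apply, ha, map_zero]
  refine ⟨fun g hg => (hmem g).mpr ?_, hker ▸ RingHom.ker_isPrime φ.toRingHom⟩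
  refine ⟨AlgHom.liftOfSurjective φ hsurj g.ofConv fun a ha => hg a (hker ▸ ha), ?_⟩
  exact (AlgHom.liftOfSurjective_comp _ _ _ _).symm

theorem isSolvable_ptsOf {H : Over (Spec (CommRingCat.of k))} [GrpObj H] (h : H ⟶ sp k A) [IsMonHom h] [Mono h]
    (hs : Red.IsSolvableGrp H) : Group.IsSolvable (ptsOf h) := by
  obtain ⟨n, hn⟩ := hs
  haveI : Group.IsSolvable (sp k k ⟶ H) := (Group.isSolvable_def _).mpr ⟨n, hn _⟩
  let ψ : ptsOf h →* (sp k k ⟶ H) := MonoidHom.mk' (fun g => Classical.choose g.2) fun g g' => by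
    rw [← cancel_mono h, MonObj.mul_comp, Classical.choose_spec g.2, Classical.choose_spec g'.2,
      Classical.choose_spec (g * g').2]
    exact (spMap_mul _ _).symm
  refine Group.isSolvable_of_isSolvable_injective (f := ψ) fun g g' e => Subtype.ext (WithConv.ofConv_injective ?_)
  have e' : Classical.choose g.2 = Classical.choose g'.2 := e
  exact spMap_injective ((Classical.choose_spec g.2).symm.trans (e' ▸ Classical.choose_spec g'.2))

/-- A connected solvable group of points preserves a flag of a generating representation. -/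
theorem exists_flag_of_solvable [IsAlgClosed k] [Algebra.FiniteType k A] (H : Subgroup (Pt k A k))
    [Group.IsSolvable H] (hprime : (vanIdeal H).IsPrime)
    (hclosed : ∀ g : Pt k A k, (∀ a ∈ vanIdeal H, g.ofConv a = 0) → g ∈ H) :
    ∃ (V : Type u) (_ : AddCommGroup V) (_ : Module k V) (_ : Module.Finite k V)
      (ρ : Pt k A k →* Module.End k V) (F : ℕ → Submodule k V) (n : ℕ),
      IsRegRep ρ ∧ Generates ρ ∧ Monotone F ∧ F 0 = ⊥ ∧ F n = ⊤ ∧
        (∀ i, i ≤ n → Module.finrank k (F i) = i) ∧ ∀ g ∈ H, ρ g ∈ AlgGrpQ.fil F 0 := by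
  classical
  obtain ⟨s, hs⟩ := (Algebra.FiniteType.out : (⊤ : Subalgebra k A).FG)
  letI cA : HopfRep.Comod k A A := HopfRep.Comod.regular k A
  obtain ⟨U, hUf, hsU, hU⟩ := ComodLib.exists_finite_subcomod_le (k := k) (C := A) (V := A) s.finite_toSet
  letI cU : HopfRep.Comod k A U := ComodSub.Comod.restr (HopfRep.Comod.regular k A) U hU
  have hi : Hoch.IsComodHom A U.subtype :=
    ComodSub.isComodHom_subtype _ U hU
  let ρ := AlgGrpQ.rho k A U
  have hgen : Generates ρ := by
    refine top_le_iff.mp (hs ▸ Algebra.adjoin_mono fun a ha => ?_)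
    refine ⟨⟨a, Set.mem_of_subset_of_mem hsU ha⟩, (Coalgebra.counit (R := k)).comp U.subtype, fun g => ?_⟩
    rw [LinearMap.comp_apply, ← AlgGrpQ.counit_rho g a]
    refine congrArg _ ?_
    rw [AlgGrpQ.rho_apply, ComodLib.comodHom_actF hi, AlgGrpQ.rho_apply]
    rfl
  haveI := isHopfIdeal_vanIdeal H
  haveI := hprime
  let B := A ⧸ vanIdeal H
  let q := Bialgebra.Quotient.mkBialgHom (R := k) (vanIdeal H)
  haveI : Algebra.FiniteType k B :=
    .of_surjective (Ideal.Quotient.mkₐ k (vanIdeal H)) Ideal.Quotient.mk_surjective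
  haveI : IsDomain B := Ideal.Quotient.isDomain _
  have hBsol : Group.IsSolvable (WithConv (B →ₐ[k] k)) := by
    let ψ : Pt k B k →* H := MonoidHom.mk'
      (fun g => ⟨toConv (g.ofConv.comp (q : A →ₐ[k] B)), hclosed _ fun a ha => by
        show g.ofConv (q a) = 0
        rw [show q a = 0 from Ideal.Quotient.eq_zero_iff_mem.mpr ha, map_zero]⟩)
      fun g g' => Subtype.ext (WithConv.ofConv_injective
        (AlgHom.convMul_comp_bialgHom_distrib (f := g) (g := g') (h := q)))
    exact Group.isSolvable_of_isSolvable_injective (f := ψ) fun g g' e => WithConv.ofConv_injective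
      ((AlgHom.cancel_right (f := (q : A →ₐ[k] B)) Ideal.Quotient.mk_surjective).mp
        (congrArg (fun x : H => (x : Pt k A k).ofConv) e))
  have hT : HopfRep.IsTrigonalizable k B := AlgGrpQ.isTrigonalizable_of_solvable k B fun e he =>
    IsIdempotentElem.iff_eq_zero_or_one.mp he
  letI cB : HopfRep.Comod k B U := ComodLib.pushComod q.toCoalgHom cU
  obtain ⟨F, hmono, hsub, htop, hr⟩ := ComodLib.exists_flag hT U
  refine ⟨U, inferInstance, inferInstance, hUf, ρ, F, Module.finrank k U, isRegRep_rho, hgen, hmono,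
    Submodule.finrank_eq_zero.mp (hr 0 (Nat.zero_le _)), htop, hr, fun g hg i v hv => ?_⟩
  have h1 := @AlgGrpQ.rho_mem k _ B _ _ U _ _ cB (F i) (hsub i) (toConv (qPt H ⟨g, hg⟩)) v (by simpa using hv)
  have e : ρ g v = ComodLib.actF (C := B) (V := U) (qPt H ⟨g, hg⟩).toLinearMap v := by
    rw [ComodLib.actF_comp_of_push (C := A) (D := B) (V := U) q.toCoalgHom rfl]
    rfl
  exact e ▸ h1

end Groth.Agent.ParLib
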