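import Groth.Agent.ParLib.CentGen
import Groth.Agent.RedSub30.TypeRCell
import Groth.Agent.BigCell29.CellOne

/-!
# Tools for Levi subgroups: connected fibres, conditions on subgroups checked on root groups
-/

set_option autoImplicit false
set_option linter.style.haveILetI false
set_option synthInstance.maxHeartbeats 100000

universe u

open CategoryTheory CategoryTheory.Limits MonoidalCategory CartesianMonoidalCategory AlgebraicGeometry WithConv
open scoped MonObj AddMonoidAlgebra

namespace Groth.Agent.ParLib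

open BigCell29 GrpSchLib.AffineHopf RedSub30

variable {S : Scheme.{u}}

/-- Connectedness of a fibre follows from that of the geometric fibre. -/
theorem isConnected_fibre_of_geom (X : Over S) (s : S) (h : ConnectedSpace (Red.geomFibre s X).left) :
    _root_.IsConnected (X.hom ⁻¹' {s}) := by
  haveI : ConnectedSpace ↥(pullback X.hom (Red.geomPt s)) := h
  have e : Set.range (pullback.fst X.hom (Red.geomPt s)) = X.hom ⁻¹' {s} := by
    rw [Scheme.Pullback.range_fst]
    congr 1
    exact Set.eq_singleton_iff_nonempty_unique_mem.mpr ⟨Set.range_nonempty _,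
      fun _ ⟨x, hx⟩ => hx ▸ Scheme.fromSpecResidueField_apply s _⟩
  rw [← e]
  exact isConnected_range (pullback.fst X.hom (Red.geomPt s)).continuous

/-- A group with connected fibres stays irreducible over every field-valued point of the base. -/
theorem irreducibleSpace_pullback_field {G : Over S} [GrpObj G] [LocallyOfFiniteType G.hom]
    (hconn : ∀ s : S, _root_.IsConnected (G.hom ⁻¹' {s})) {K : Type u} [Field K]
    (x : Spec (CommRingCat.of K) ⟶ S) : IrreducibleSpace ↥(pullback G.hom x) := by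
  let s := x (IsLocalRing.closedPoint K)
  obtain ⟨hgi, -⟩ := GrpSchLib.FibreIrr.geometricallyIrreducible_fib G s (hconn s)
  let r : Spec (CommRingCat.of K) ⟶ Spec (S.residueField s) :=
    Spec.map (Scheme.descResidueField (Scheme.stalkClosedPointTo x))
  have hr : r ≫ S.fromSpecResidueField s = x :=
    S.descResidueField_stalkClosedPointTo_fromSpecResidueField K x
  haveI : GeometricallyIrreducible (pullback.snd G.hom (S.fromSpecResidueField s)) := hgi
  haveI : IrreducibleSpace ↥(pullback (pullback.snd G.hom (S.fromSpecResidueField s)) r) :=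
    GeometricallyIrreducible.geometrically_irreducibleSpace
      (f := pullback.snd G.hom (S.fromSpecResidueField s)) _ _ _ (IsPullback.of_hasPullback _ _)
  let i := pullback.congrHom (rfl : G.hom = G.hom) hr.symm ≪≫
    (pullbackLeftPullbackSndIso G.hom (S.fromSpecResidueField s) r).symm
  exact i.inv.homeomorph.surjective.irreducibleSpace i.inv.continuous

/-- A product of groups with connected fibres has connected fibres. -/
theorem isConnected_tensor_fibre {X Y : Over S} [GrpObj Y] [LocallyOfFiniteType Y.hom]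
    (hX : ∀ s : S, _root_.IsConnected (X.hom ⁻¹' {s})) (hY : ∀ s : S, _root_.IsConnected (Y.hom ⁻¹' {s}))
    (s : S) : _root_.IsConnected ((X ⊗ Y).hom ⁻¹' {s}) := by
  let f1 := (fst X Y).left
  let e := (lift (𝟙 X) (toUnit X ≫ η[Y])).left
  have hfe : ∀ a, f1 (e a) = a := fun a => by
    show (fst X Y).left _ = a
    rw [← Scheme.Hom.comp_apply, ← Over.comp_left, lift_fst]
    rfl
  have hwe : ∀ a, (X ⊗ Y).hom (e a) = X.hom a := fun a => by
    rw [← Scheme.Hom.comp_apply, Over.w]
  have hwf : ∀ z, X.hom (f1 z) = (X ⊗ Y).hom z := fun z => by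
    rw [← Scheme.Hom.comp_apply, Over.w]
  have hfib : ∀ a : X.left, _root_.IsConnected (f1 ⁻¹' {a}) := fun a => by
    let x := X.left.fromSpecResidueField a
    haveI hirr := irreducibleSpace_pullback_field (G := Y) hY (K := X.left.residueField a) (x ≫ X.hom)
    let i : pullback f1 x ≅ pullback Y.hom (x ≫ X.hom) :=
      pullbackSymmetry _ _ ≪≫ pullbackRightPullbackFstIso X.hom Y.hom x ≪≫ pullbackSymmetry _ _
    haveI : IrreducibleSpace ↥(pullback f1 x) := i.inv.homeomorph.surjective.irreducibleSpace i.inv.continuous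
    have e1 : Set.range (pullback.fst f1 x) = f1 ⁻¹' {a} := by
      rw [Scheme.Pullback.range_fst, Scheme.range_fromSpecResidueField]
    rw [← e1]
    exact isConnected_range (pullback.fst f1 x).continuous
  obtain ⟨a0, ha0⟩ := (hX s).nonempty
  have hE : _root_.IsConnected (e '' (X.hom ⁻¹' {s})) := (hX s).image _ e.continuous.continuousOn
  refine ⟨⟨e a0, by rw [Set.mem_preimage, hwe]; exact ha0⟩, isPreconnected_of_forall (e a0) fun z hz => ?_⟩
  have hs : f1 z ∈ X.hom ⁻¹' {s} := by rw [Set.mem_preimage, hwf]; exact hz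
  refine ⟨e '' (X.hom ⁻¹' {s}) ∪ f1 ⁻¹' {f1 z}, ?_, Or.inl ⟨a0, ha0, rfl⟩, Or.inr rfl,
    (IsConnected.union (show (e '' (X.hom ⁻¹' {s}) ∩ f1 ⁻¹' {f1 z}).Nonempty from
      ⟨e (f1 z), ⟨f1 z, hs, rfl⟩, hfe (f1 z)⟩) hE (hfib _)).isPreconnected⟩
  rintro w (⟨a, ha, rfl⟩ | hw)
  · rw [Set.mem_preimage, hwe]; exact ha
  · rw [Set.mem_preimage, ← hwf, show f1 w = f1 z from hw]; exact hs

variable {G H : Over S} [GrpObj G] [GrpObj H] (D : Red.SplitRed G) (h : H ⟶ G) [IsMonHom h]
  [IsClosedImmersion h.left] [Smooth H.hom] (t : D.T ⟶ H) (ht : t ≫ h = D.i)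

variable {R : Type u} [CommRing R] {f : Spec (CommRingCat.of R) ⟶ S} [IsOpenImmersion f] {A : Type u}
  [CommRing A] [HopfAlgebra R A]

include t ht in
/-- Conditions stable under products hold on a closed smooth subgroup with connected fibres containing the torus,
as soon as they hold on the torus and on the root groups inside it. -/
theorem ann_of_roots [ConnectedSpace S] (hconn : ∀ s : S, _root_.IsConnected (H.hom ⁻¹' {s})) (Md : Model f G A)
    (J : Set A) (hmul : ∀ (B : Type u) [CommRing B] [Algebra R B] (g g' : Pt R A B),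
      (∀ a ∈ J, g a = 0) → (∀ a ∈ J, g' a = 0) → ∀ a ∈ J, (g * g') a = 0)
    (htor : ∀ (B : Type u) [CommRing B] [Algebra R B] (χ : Multiplicative D.M →* B),
      ∀ a ∈ J, (Md.frame D).T.tor χ a = 0)
    (hrt : ∀ i : D.idx, (∃ v : Red.Ga S ⟶ H, v ≫ h = D.u i) → ∀ (B : Type u) [CommRing B] [Algebra R B] (x : B),
      ∀ a ∈ J, (Md.frame D).rt i x a = 0)
    {B : Type u} [CommRing B] [Algebra R B] (y : tObj f B ⟶ H) : ∀ a ∈ J, Md.ofPt (y ≫ h) a = 0 := by
  classical
  haveI := Fintype.ofFinite D.idx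
  haveI : IsAffineHom G.hom := D.reductive.1
  haveI : IsAffineHom H.hom := by
    rw [← Over.w h]; infer_instance
  haveI : IsImmersion h.left := inferInstance
  haveI : QuasiCompact h.left := inferInstance
  let R' : Set D.idx := {i | ∃ v : Red.Ga S ⟶ H, v ≫ h = D.u i}
  have hR' : ∀ i : D.idx, (∃ v : Red.Ga S ⟶ H, v ≫ h = D.u i) ↔ i ∈ R' := fun _ => Iff.rfl
  obtain ⟨lam, hlam, -⟩ := RedRk29.exists_perturb (0 : D.M →+ ℤ) (Set.finite_range D.P.root)
  have hreg : ∀ i, lam (D.P.root i) ≠ 0 := fun i => hlam _ ⟨i, rfl⟩ (D.P.ne_zero i)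
  have henum : ∀ Ψ : Set D.idx, ∃ (k : ℕ) (e : Fin k → D.idx), RedSub.Enumerates Ψ e := fun Ψ => by
    let e : Fin (Fintype.card Ψ) → D.idx := fun k => ((Fintype.equivFin Ψ).symm k).1
    refine ⟨_, e, fun p q hpq => (Fintype.equivFin Ψ).symm.injective (Subtype.ext hpq),
      Set.ext fun a => ⟨?_, fun ha => ⟨Fintype.equivFin Ψ ⟨a, ha⟩, by simp [e]⟩⟩⟩
    rintro ⟨k, rfl⟩
    exact ((Fintype.equivFin Ψ).symm k).2
  obtain ⟨n, eneg, hneg⟩ := henum (R' ∩ {i | 0 < (-lam) (D.P.root i)})
  obtain ⟨m, epos, hpos⟩ := henum (R' ∩ {i | 0 < lam (D.P.root i)})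
  have hn : ∀ j, eneg j ∈ R' := fun j => ((Set.ext_iff.mp hneg.2 _).mp (Set.mem_range_self j)).1
  have hp : ∀ j, epos j ∈ R' := fun j => ((Set.ext_iff.mp hpos.2 _).mp (Set.mem_range_self j)).1
  obtain ⟨c, hc⟩ := exists_cell_factor D h t ht hR' hn hp
  haveI := isOpenImmersion_cell D h t ht hR' hreg hneg hpos c hc
  have hh : Mono h := ⟨fun a b hab =>
    Over.OverMorphism.ext ((cancel_mono h.left).mp (congrArg CommaMorphism.left hab))⟩
  have hone : Set.range η[H].left ⊆ Set.range c.left := by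
    obtain ⟨e1, he1⟩ := exists_one_cellMap D eneg epos
    have e2 : e1 ≫ c = η[H] := by
      rw [← cancel_mono h, Category.assoc, hc, he1, IsMonHom.one_hom, MonObj.one_eq_one]
    rw [← e2, Over.comp_left]
    rintro _ ⟨a, rfl⟩
    exact ⟨e1.left a, rfl⟩
  refine apply_eq_zero_of_cell h hconn c hone Md J hmul (fun B _ _ z g hg => ?_) y
  obtain ⟨⟨yy, χ, xx⟩, hq, -⟩ := cellPt_bijective D z
  have e : g = (Md.frame D).prodPt eneg yy * (Md.frame D).T.tor χ * (Md.frame D).prodPt epos xx :=
    Md.pt_bijective.injective (by rw [hg, hc, ← hq, Md.cellPt_cellMap])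
  have hone' : ∀ a ∈ J, (1 : Pt R A B) a = 0 := by
    have := htor B 1
    rwa [map_one] at this
  have hlist : ∀ (k : ℕ) (e : Fin k → D.idx), (∀ j, e j ∈ R') → ∀ x : Fin k → B,
      ∀ a ∈ J, (Md.frame D).prodPt e x a = 0 := by
    intro k e he x
    induction k with
    | zero => simpa [Frame.prodPt] using hone'
    | succ k ih =>
      rw [prodPt_succ]
      exact hmul B _ _ (hrt _ (he 0) B _) (ih _ (fun j => he j.succ) _)
  rw [e]
  exact hmul B _ _ (hmul B _ _ (hlist _ _ hn yy) (htor B χ)) (hlist _ _ hp xx)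

omit [GrpObj H] [IsMonHom h] [IsClosedImmersion h.left] [Smooth H.hom] in
/-- A root group of weight zero is fixed. -/
theorem inZ_push_rt (Md : Model f G A) {Γ : Type} [AddCommGroup Γ] (q : D.M →+ Γ) {i : D.idx}
    (hi : q (D.P.root i) = 0) {B : Type u} [CommRing B] [Algebra R B] (x : B) :
    ((Md.frame D).T.coact.push q).InZ ((Md.frame D).rt i x) := by
  rw [Coact.inZ_iff, Coact.act_push, (Md.frame D).act_rt, (Md.frame D).mapPt_rt, (Md.frame D).mapPt_rt]
  congr 1
  simp [Model.frame_root, hi]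

omit [GrpObj H] [IsMonHom h] [IsClosedImmersion h.left] [Smooth H.hom] in
/-- The torus is fixed. -/
theorem inZ_push_tor (Md : Model f G A) {Γ : Type} [AddCommGroup Γ] (q : D.M →+ Γ)
    {B : Type u} [CommRing B] [Algebra R B] (χ : Multiplicative D.M →* B) :
    ((Md.frame D).T.coact.push q).InZ ((Md.frame D).T.tor χ) := by
  rw [Coact.inZ_iff, Coact.act_push, (Md.frame D).act_tor, mapPt_mapPt]
  refine congrArg (fun φ => mapPt φ ((Md.frame D).T.tor χ)) (AlgHom.ext fun r => ?_)
  simp

omit [GrpObj H] [IsMonHom h] [IsClosedImmersion h.left] [Smooth H.hom] in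
/-- A fixed point commutes with the subtorus. -/
theorem tor_comm_of_inZ (Md : Model f G A) {Γ : Type} [AddCommGroup Γ] (q : D.M →+ Γ)
    {B : Type u} [CommRing B] [Algebra R B] {g : Pt R A B} (hg : ((Md.frame D).T.coact.push q).InZ g)
    (χ : Multiplicative Γ →* B) :
    (Md.frame D).T.tor (χ.comp q.toMultiplicative) * g = g * (Md.frame D).T.tor (χ.comp q.toMultiplicative) := by
  set F := Md.frame D
  rw [Coact.inZ_iff, Coact.act_push, F.T.act_eq] at hg
  have h := congrArg (mapPt ((AddMonoidAlgebra.lift B B Γ χ).restrictScalars R)) hg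
  simp only [map_mul, map_inv, F.T.mapPt_tor, mapPt_mapPt] at h
  have e1 : ((AddMonoidAlgebra.lift B B Γ χ).restrictScalars R).toRingHom.toMonoidHom.comp
      ((AddMonoidAlgebra.mapDomainAlgHom R B q).toRingHom.toMonoidHom.comp (univChar B D.M)) =
      χ.comp q.toMultiplicative := MonoidHom.ext fun m => by simp [AddMonoidAlgebra.lift_single]
  have e2 : ((AddMonoidAlgebra.lift B B Γ χ).restrictScalars R).comp ((AddMonoidAlgebra.mapDomainAlgHom R B q).comp
      AddMonoidAlgebra.singleZeroAlgHom) = AlgHom.id R B := AlgHom.ext fun r => by simp [AddMonoidAlgebra.lift_single]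
  have e3 : ((AddMonoidAlgebra.lift B B Γ χ).restrictScalars R).comp
      (AddMonoidAlgebra.singleZeroAlgHom (R := R) (A := B) (M := Γ)) = AlgHom.id R B :=
    AlgHom.ext fun r => by simp [AddMonoidAlgebra.lift_single]
  rw [e1, e2, e3, mapPt_id] at h
  rw [mul_inv_eq_iff_eq_mul] at h
  exact h

end Groth.Agent.ParLib
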