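import Groth.Agent.BigCell29.Regular
import Mathlib.LinearAlgebra.RootSystem.Finite.Nondegenerate
import Mathlib.RingTheory.Finiteness.Basic
import Mathlib.LinearAlgebra.FreeModule.PID

/-!
# Roots in the span of a set of simple roots, and functionals vanishing exactly on them
-/

set_option autoImplicit false

universe u

open Function Set

namespace Groth.Agent.ParLib

variable {M N idx : Type} [AddCommGroup M] [AddCommGroup N] (P : RootPairing idx ℤ M N) (b : P.Base)
  {Δ : Set idx} (hΔ : Δ ⊆ (b.support : Set idx)) (W : Submodule ℤ M)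
  (hW : ∀ m : M, m ∈ W ↔ ∃ k : ℤ, k ≠ 0 ∧ k • m ∈ Submodule.span ℤ (P.root '' Δ))

section
variable [Module.Free ℤ M] [Module.Finite ℤ M]

omit [Module.Free ℤ M] [Module.Finite ℤ M] in
include hW in
/-- The saturation has a torsion-free quotient. -/
theorem quot_smul_eq_zero {k : ℤ} (hk : k ≠ 0) {x : M ⧸ W} (hx : k • x = 0) : x = 0 := by
  obtain ⟨m, rfl⟩ := Submodule.Quotient.mk_surjective W x
  rw [← Submodule.Quotient.mk_smul, Submodule.Quotient.mk_eq_zero, hW] at hx
  obtain ⟨k', hk', h⟩ := hx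
  rw [Submodule.Quotient.mk_eq_zero, hW]
  exact ⟨k' * k, mul_ne_zero hk' hk, by rwa [mul_smul]⟩

omit [Module.Free ℤ M] in
include hW in
/-- The quotient by the saturation is free. -/
theorem free_quot : Module.Free ℤ (M ⧸ W) := by
  haveI : Module.IsTorsionFree ℤ (M ⧸ W) := ⟨fun k hk x y h => by
    have h0 : k • (x - y) = 0 := by rw [smul_sub, show k • x = k • y from h, sub_self]
    exact sub_eq_zero.mp (quot_smul_eq_zero P W hW hk.ne_zero h0)⟩
  exact Module.free_of_finite_type_torsion_free'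

include hΔ hW in
/-- A functional on the quotient by the saturated span of some simple roots, positive on the others. -/
theorem exists_levi_functional : ∃ l : (M ⧸ W) →+ ℤ,
    (∀ a, l (W.mkQ (P.root a)) = 0 ↔ P.root a ∈ W) ∧
      ∀ a ∈ RedSub.posRoots P b, 0 ≤ l (W.mkQ (P.root a)) := by
  classical
  haveI := free_quot P W hW
  let v : ((b.support : Set idx) \ Δ : Set idx) → M := fun a => P.root a.1
  have hli : LinearIndependent ℤ v :=
    (b.linearIndepOn_root.mono Set.sdiff_subset : LinearIndepOn ℤ P.root ((b.support : Set idx) \ Δ))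
  haveI : Module.IsTorsionFree ℤ M := inferInstance
  have hd : Disjoint (Submodule.span ℤ (Set.range v)) (LinearMap.ker W.mkQ) := by
    rw [Submodule.ker_mkQ, Submodule.disjoint_def]
    intro x hx hxW
    obtain ⟨k, hk, hkx⟩ := (hW x).mp hxW
    have h := b.linearIndepOn_root.disjoint_span_image (s := {i | (i : idx) ∈ Δ})
      (t := {i | (i : idx) ∈ (b.support : Set idx) \ Δ})
      (Set.disjoint_left.mpr fun i h1 h2 => h2.2 h1)
    have e1 : (fun i : (b.support : Set idx) => P.root i) '' {i | (i : idx) ∈ Δ} = P.root '' Δ := by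
      ext y
      constructor
      · rintro ⟨i, hi, rfl⟩; exact ⟨_, hi, rfl⟩
      · rintro ⟨i, hi, rfl⟩; exact ⟨⟨i, hΔ hi⟩, hi, rfl⟩
    have e2 : (fun i : (b.support : Set idx) => P.root i) '' {i | (i : idx) ∈ (b.support : Set idx) \ Δ} =
        Set.range v := by
      ext y
      constructor
      · rintro ⟨i, hi, rfl⟩; exact ⟨⟨i, hi⟩, rfl⟩
      · rintro ⟨i, rfl⟩; exact ⟨⟨i, i.2.1⟩, i.2, rfl⟩
    rw [e1, e2] at h
    have h0 : k • x = 0 := Submodule.disjoint_def.mp h _ hkx (Submodule.smul_mem _ _ hx)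
    exact (smul_eq_zero.mp h0).resolve_left hk
  obtain ⟨l, hl⟩ := BigCell29.exists_int_functional (hli.map hd)
  have key : ∀ x ∈ AddSubmonoid.closure (P.root '' (b.support : Set idx)),
      0 ≤ l (W.mkQ x) ∧ (l (W.mkQ x) = 0 → x ∈ W) := by
    intro x hx
    induction hx using AddSubmonoid.closure_induction with
    | mem x hx =>
      obtain ⟨i, hi, rfl⟩ := hx
      by_cases hiΔ : i ∈ Δ
      · have hm : P.root i ∈ W := (hW _).mpr ⟨1, one_ne_zero, by
          rw [one_smul]; exact Submodule.subset_span ⟨i, hiΔ, rfl⟩⟩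
        have h0 : W.mkQ (P.root i) = 0 := (Submodule.Quotient.mk_eq_zero W).mpr hm
        exact ⟨by rw [h0, map_zero], fun _ => hm⟩
      · have h0 : 0 < l (W.mkQ (P.root i)) := hl ⟨i, hi, hiΔ⟩
        exact ⟨h0.le, fun h => absurd h h0.ne'⟩
    | zero => simp
    | add x y _ _ hx hy =>
      rw [map_add, map_add]
      exact ⟨add_nonneg hx.1 hy.1, fun h => by
        obtain ⟨h1, h2⟩ := (add_eq_zero_iff_of_nonneg hx.1 hy.1).mp h
        exact add_mem (hx.2 h1) (hy.2 h2)⟩
  refine ⟨l, fun a => ⟨fun h => ?_, fun h => ?_⟩, fun a ha => (key _ ha).1⟩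
  · rcases b.root_mem_or_neg_mem a with h' | h'
    · exact (key _ h').2 h
    · exact neg_mem_iff.mp ((key _ h').2 (by rw [map_neg, map_neg, h, neg_zero]))
  · rw [show W.mkQ (P.root a) = 0 from (Submodule.Quotient.mk_eq_zero W).mpr h, map_zero]

end

include hΔ hW in
/-- The coroots of the positive roots on a weight which is dominant with prescribed zero set. -/
theorem coroot_sign [Finite idx] [Module.Free ℤ M] {m : M} (hm : ∀ i ∈ b.support, 0 ≤ P.coroot' i m)
    (hm0 : ∀ i ∈ b.support, P.coroot' i m = 0 ↔ i ∈ Δ) {c : idx} (hc : c ∈ RedSub.posRoots P b) :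
    0 ≤ P.coroot' c m ∧ (P.coroot' c m = 0 ↔ P.root c ∈ W) := by
  classical
  haveI := Fintype.ofFinite idx
  let φ : M →ₗ[ℤ] ℤ := (2 : ℤ) • P.RootForm m
  have hφ : ∀ i, φ (P.root i) = P.coroot' i m * P.RootForm (P.root i) (P.root i) := by
    intro i
    have h := P.rootForm_reflection_reflection_apply i m (P.root i)
    rw [RootPairing.reflection_apply, RootPairing.reflection_apply_self] at h
    simp only [map_sub, map_neg, LinearMap.sub_apply, map_smul, LinearMap.smul_apply, smul_eq_mul] at h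
    show (2 : ℤ) * P.RootForm m (P.root i) = _
    linarith
  have hpos : ∀ i, 0 < P.RootForm (P.root i) (P.root i) := fun i =>
    P.rootForm_pos_of_ne_zero (Submodule.subset_span ⟨i, rfl⟩) (P.ne_zero i)
  have hker : ∀ x ∈ W, φ x = 0 := fun x hx => by
    obtain ⟨k, hk, hkx⟩ := (hW x).mp hx
    have hle : Submodule.span ℤ (P.root '' (Δ ∩ (b.support : Set idx))) ≤ LinearMap.ker φ :=
      Submodule.span_le.mpr fun y hy' => by
        obtain ⟨i, hi, hy⟩ := hy'
        rw [SetLike.mem_coe, LinearMap.mem_ker, ← hy, hφ, (hm0 i hi.2).mpr hi.1, zero_mul]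
    have hle' : Submodule.span ℤ (P.root '' Δ) ≤ LinearMap.ker φ :=
      le_trans (Submodule.span_mono (Set.image_mono (fun i hi => Set.mem_inter hi (hΔ hi) : Δ ⊆ Δ ∩ (b.support : Set idx)))) hle
    have h0 := hle' hkx
    rw [LinearMap.mem_ker, map_smul, smul_eq_mul] at h0
    exact (mul_eq_zero.mp h0).resolve_left hk
  have key : ∀ x ∈ AddSubmonoid.closure (P.root '' (b.support : Set idx)), 0 ≤ φ x ∧ (φ x = 0 → x ∈ W) := by
    intro x hx
    induction hx using AddSubmonoid.closure_induction with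
    | mem x hx =>
      obtain ⟨i, hi, rfl⟩ := hx
      rw [hφ]
      exact ⟨mul_nonneg (hm i hi) (hpos i).le, fun h => (hW _).mpr ⟨1, one_ne_zero, by
        rw [one_smul]
        exact Submodule.subset_span ⟨i, (hm0 i hi).mp ((mul_eq_zero.mp h).resolve_right (hpos i).ne'), rfl⟩⟩⟩
    | zero => simp
    | add x y _ _ hx hy =>
      rw [map_add]
      exact ⟨add_nonneg hx.1 hy.1, fun h => by
        obtain ⟨h1, h2⟩ := (add_eq_zero_iff_of_nonneg hx.1 hy.1).mp h
        exact add_mem (hx.2 h1) (hy.2 h2)⟩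
  obtain ⟨h1, h2⟩ := key _ hc
  rw [hφ] at h1 h2
  refine ⟨nonneg_of_mul_nonneg_left h1 (hpos c), fun h => h2 (by rw [h, zero_mul]), fun h => ?_⟩
  have := hker _ h
  rw [hφ] at this
  exact (mul_eq_zero.mp this).resolve_right (hpos c).ne'

end Groth.Agent.ParLib
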