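import Groth.Agent.ParLib.CentGen
import Mathlib.FieldTheory.IsAlgClosed.Basic
import Mathlib.Algebra.Polynomial.AlgebraMap

/-!
# An equivariant one-parameter family in a split group is a multiple of the root group
-/

set_option autoImplicit false
set_option linter.style.haveILetI false
set_option synthInstance.maxHeartbeats 100000

universe u

open CategoryTheory AlgebraicGeometry WithConv TensorProduct
open scoped AddMonoidAlgebra

namespace Groth.Agent.ParLib

open BigCell29

variable {R : Type u} [CommRing R] {A : Type u} [CommRing A] [HopfAlgebra R A] {M κ : Type} [AddCommGroup M]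
  (F : Frame R A M κ)

/-- A product with a single non-trivial factor. -/
theorem prodPt_eq_rt {B : Type u} [CommRing B] [Algebra R B] {a : κ} :
    ∀ {n : ℕ} (e : Fin n → κ), Function.Injective e → ∀ (z : Fin n → B), (∀ j, e j ≠ a → z j = 0) →
      (∀ j, e j = a → F.prodPt e z = F.rt a (z j)) ∧ ((∀ j, e j ≠ a) → F.prodPt e z = 1)
  | 0, e, _, z, _ => ⟨fun j => j.elim0, fun _ => by simp [Frame.prodPt]⟩
  | n + 1, e, he, z, hz => by
    obtain ⟨h1, h2⟩ := prodPt_eq_rt (fun j => e j.succ) (fun p q h => Fin.succ_injective _ (he h))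
      (fun j => z j.succ) fun j hj => hz _ hj
    rw [RedSub30.prodPt_succ]
    refine ⟨fun j hj => ?_, fun h => by rw [hz _ (h 0), F.rt_zero, h2 fun j => h _, one_mul]⟩
    induction j using Fin.cases with
    | zero => rw [hj, h2 fun i hi => Fin.succ_ne_zero i (he (hi.trans hj.symm)), mul_one]
    | succ i => rw [h1 i hj, hz 0 fun h0 => Fin.succ_ne_zero i (he (hj.trans h0.symm)), F.rt_zero, one_mul]

variable {K : Type u} [Field K] [Algebra R K]

/-- The degrees occurring in a polynomial which is homogeneous for a grading of the variable. -/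
theorem nsmul_eq_of_aeval {a b : M} (hinj : ∀ k k' : ℕ, k • a = k' • a → k = k') {y : Polynomial K}
    (h : Polynomial.aeval (AddMonoidAlgebra.single a (Polynomial.X : Polynomial K)) y =
      AddMonoidAlgebra.single b y) {k : ℕ} (hk : y.coeff k ≠ 0) : k • a = b := by
  classical
  by_contra hne
  have h1 := congrArg (fun q : (Polynomial K)[M] => (q.coeff (k • a)).coeff k) h
  rw [Polynomial.aeval_eq_sum_range] at h1
  simp only [AddMonoidAlgebra.coeff_sum, Finsupp.finsetSum_apply, Polynomial.finsetSum_coeff,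
    AddMonoidAlgebra.single_pow, AddMonoidAlgebra.coeff_smul, Finsupp.smul_apply, Polynomial.coeff_smul,
    AddMonoidAlgebra.coeff_single, Finsupp.single_eq_of_ne hne, Polynomial.coeff_zero] at h1
  rw [Finset.sum_eq_single k] at h1
  · simp [Finsupp.single_eq_same] at h1
    exact hk h1
  · intro i _ hi
    rw [Finsupp.single_eq_of_ne fun e => hi (hinj _ _ e).symm]
    simp
  · intro hk'
    exact absurd (Finset.mem_range.mpr (Nat.lt_succ_of_le (Polynomial.le_natDegree_of_ne_zero hk))) hk'

variable [IsAlgClosed K] [Algebra.Smooth R A] [Fintype κ] [Module.Free ℤ M] [Module.Finite ℤ M]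

/-- A family of points natural in the parameter, equivariant of weight `root a` and trivial at zero is a multiple
of the root group of `a`. -/
theorem exists_scalar {a : κ} (hne : F.root a ≠ 0) (hred : ∀ i (k : ℕ), F.root i = k • F.root a → k = 1)
    {lam : M →+ ℤ} {n m : ℕ} {eneg : Fin n → κ} {epos : Fin m → κ} (hs : F.IsSignEnum lam eneg epos)
    (Φ : ∀ (B : Type u) [CommRing B] [Algebra R B], B → Pt R A B)
    (hnat : ∀ (B B' : Type u) [CommRing B] [Algebra R B] [CommRing B'] [Algebra R B'] (φ : B →ₐ[R] B') (x : B),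
      mapPt φ (Φ B x) = Φ B' (φ x))
    (heq : ∀ (B : Type u) [CommRing B] [Algebra R B] (χ : Multiplicative M →* B) (x : B),
      F.T.tor χ * Φ B x * (F.T.tor χ)⁻¹ = Φ B (χ (Multiplicative.ofAdd (F.root a)) * x))
    (hzero : ∀ (B : Type u) [CommRing B] [Algebra R B], Φ B 0 = 1) :
    ∃ c : K, Φ (Polynomial K) Polynomial.X = F.rt a (Polynomial.C c * Polynomial.X) := by
  classical
  haveI : Algebra.FinitePresentation R A := Algebra.Smooth.finitePresentation
  haveI : Algebra.FormallySmooth R A := Algebra.Smooth.formallySmooth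
  haveI hopen := F.isOpenImmersion_splitMor hs
  haveI : IsOpenImmersion (Spec.map (CommRingCat.ofHom (F.splitHom eneg epos).toRingHom)) := hopen
  let O : Set (PrimeSpectrum A) := Set.range (F.splitMor eneg epos).base
  have hOo : IsOpen O := (F.splitMor eneg epos).isOpenEmbedding.isOpen_range
  set g := Φ (Polynomial K) Polynomial.X
  let ev : K → (Polynomial K →ₐ[R] K) := fun x => (Polynomial.aeval x).restrictScalars R
  have hev : ∀ x, mapPt (ev x) g = Φ K x := fun x => by
    rw [hnat]; simp [ev]
  -- every value lies in the cell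
  obtain ⟨c, hc, hcell⟩ := exists_fn_of_isOpenImmersion (F.splitHom eneg epos)
    (splLift (0 : Fin n → R) (1 : Multiplicative M →* R) (0 : Fin m → R)) (by
      refine congrArg WithConv.ofConv (?_ : mapPt _ (toConv (F.splitHom eneg epos)) = (1 : Pt R A R)) |>.trans ?_
      · rw [F.mapPt_splitHom, splLift_Y, splLift_T, splLift_X, RedSub30.prodPt_zero, RedSub30.prodPt_zero, map_one,
          mul_one, mul_one]
      · exact AlgHom.ext fun r => by simp)
  have hg0 : (g c).eval 0 = 1 := by
    have h := DFunLike.congr_fun (congrArg WithConv.ofConv ((hev 0).trans (hzero K))) c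
    rw [mapPt_apply, AlgHom.convOne_apply, hc, map_one] at h
    simpa [ev] using h
  have hgc : g c ≠ 0 := fun h => by simp [h] at hg0
  haveI : Infinite K := IsAlgClosed.instInfinite
  obtain ⟨x₀, hx₀⟩ : ∃ x₀ : K, ¬ (Polynomial.X * g c).IsRoot x₀ :=
    Infinite.exists_notMem_finset ((Polynomial.X * g c).roots.toFinset) |>.imp fun x hx h =>
      hx (Multiset.mem_toFinset.mpr ((Polynomial.mem_roots (mul_ne_zero Polynomial.X_ne_zero hgc)).mpr h))
  simp only [Polynomial.IsRoot, Polynomial.eval_mul, Polynomial.eval_X, mul_eq_zero, not_or] at hx₀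
  have hcellK : ∀ x : K, ∃ (y : Fin n → K) (χ : Multiplicative M →* K) (z : Fin m → K),
      Φ K x = F.prodPt eneg y * F.T.tor χ * F.prodPt epos z := by
    intro x
    by_cases hx : x = 0
    · subst hx
      exact ⟨0, 1, 0, by rw [hzero, RedSub30.prodPt_zero, RedSub30.prodPt_zero, map_one, mul_one, mul_one]⟩
    obtain ⟨ψ, hψ⟩ := hcell K (Φ K x₀) (by
      have : Φ K x₀ c = (g c).eval x₀ := by
        rw [← hev, mapPt_apply]; simp [ev]
      rw [this]
      exact (Ne.isUnit hx₀.2))
    rw [F.mapPt_splitHom] at hψ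
    obtain ⟨χ, hχ⟩ : ∃ χ : Multiplicative M →* K, χ (Multiplicative.ofAdd (F.root a)) = x / x₀ := by
      let b := Module.Free.chooseBasis ℤ M
      obtain ⟨j, hj⟩ : ∃ j, b.coord j (F.root a) ≠ 0 := by
        by_contra hall
        push Not at hall
        exact hne ((b.forall_coord_eq_zero_iff).mp hall)
      obtain ⟨z, hz⟩ := IsAlgClosed.exists_pow_nat_eq (k := K) (x / x₀) (Int.natAbs_pos.mpr hj)
      have hz0 : z ≠ 0 := by
        rintro rfl
        rw [zero_pow (Int.natAbs_ne_zero.mpr hj)] at hz
        exact div_ne_zero hx hx₀.1 hz.symm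
      rcases Int.natAbs_eq (b.coord j (F.root a)) with h | h
      · refine ⟨(Units.coeHom K).comp (MonoidHom.comp (zpowersHom Kˣ (Units.mk0 z hz0))
          (b.coord j).toAddMonoidHom.toMultiplicative), ?_⟩
        simp only [MonoidHom.comp_apply, Units.coeHom_apply]
        show ((Units.mk0 z hz0 ^ (b.coord j (F.root a)) : Kˣ) : K) = _
        rw [h, zpow_natCast, Units.val_pow_eq_pow_val]
        exact hz
      · refine ⟨(Units.coeHom K).comp (MonoidHom.comp (zpowersHom Kˣ (Units.mk0 z hz0)⁻¹)
          (b.coord j).toAddMonoidHom.toMultiplicative), ?_⟩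
        simp only [MonoidHom.comp_apply, Units.coeHom_apply]
        show (((Units.mk0 z hz0)⁻¹ ^ (b.coord j (F.root a)) : Kˣ) : K) = _
        rw [h, zpow_neg, inv_zpow, inv_inv, zpow_natCast, Units.val_pow_eq_pow_val]
        exact hz
    refine ⟨fun j => χ (Multiplicative.ofAdd (F.root (eneg j))) * coordY ψ j, coordT ψ,
      fun j => χ (Multiplicative.ofAdd (F.root (epos j))) * coordX ψ j, ?_⟩
    rw [← RedSub30.conj_prodPt, ← RedSub30.conj_prodPt]
    calc Φ K x = Φ K (χ (Multiplicative.ofAdd (F.root a)) * x₀) := by rw [hχ, div_mul_cancel₀ _ hx₀.1]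
      _ = F.T.tor χ * (F.prodPt eneg (coordY ψ) * F.T.tor (coordT ψ) * F.prodPt epos (coordX ψ)) *
          (F.T.tor χ)⁻¹ := by rw [← heq, hψ]
      _ = F.T.tor χ * F.prodPt eneg (coordY ψ) * (F.T.tor χ)⁻¹ *
          (F.T.tor χ * F.T.tor (coordT ψ) * (F.T.tor χ)⁻¹) *
          (F.T.tor χ * F.prodPt epos (coordX ψ) * (F.T.tor χ)⁻¹) := by group
      _ = _ := by
        rw [show F.T.tor χ * F.T.tor (coordT ψ) * (F.T.tor χ)⁻¹ = F.T.tor (coordT ψ) by
          rw [← map_mul, mul_comm, map_mul, mul_inv_cancel_right]]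
  -- hence the whole family does
  let γ := Spec.map (CommRingCat.ofHom g.ofConv.toRingHom)
  have hrange : Set.range γ.base ⊆ Set.range (F.splitMor eneg epos).base := by
    rintro _ ⟨q, rfl⟩
    obtain ⟨Mx, hMx, hle⟩ := Ideal.exists_le_maximal q.asIdeal q.isPrime.ne_top
    obtain ⟨x, hx⟩ : ∃ x : K, RingHom.ker (ev x).toRingHom = Mx := by
      obtain ⟨p, hp⟩ := (IsPrincipalIdealRing.principal Mx).principal
      have hirr : Irreducible p := by
        have hp0 : p ≠ 0 := fun h => by
          rw [h, Submodule.span_zero_singleton] at hp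
          exact Polynomial.not_isField K (Ring.isField_iff_maximal_bot.mpr (hp ▸ hMx))
        exact ((Ideal.span_singleton_prime hp0).mp (by rw [← Ideal.submodule_span_eq, ← hp]; exact hMx.isPrime)).irreducible
      obtain ⟨x, hx⟩ := IsAlgClosed.exists_root p (Polynomial.degree_pos_of_irreducible hirr).ne'
      refine ⟨x, (hMx.eq_of_le (RingHom.ker_ne_top _) ?_).symm⟩
      rw [hp]
      refine Submodule.span_le.mpr (Set.singleton_subset_iff.mpr ?_)
      show ev x p = 0
      simpa [ev] using hx
    obtain ⟨y, χ, z, e⟩ := hcellK x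
    have hmem : PrimeSpectrum.comap g.ofConv.toRingHom ⟨Mx, hMx.isPrime⟩ ∈ O := by
      refine ⟨PrimeSpectrum.comap (splLift (R := R) y χ z).toRingHom ⟨⊥, Ideal.isPrime_bot⟩, ?_⟩
      have e1 : mapPt (ev x) g = mapPt (splLift (R := R) y χ z) (toConv (F.splitHom eneg epos)) := by
        rw [hev, e, F.mapPt_splitHom, splLift_Y, splLift_T, splLift_X]
      have e2 : (ev x).toRingHom.comp g.ofConv.toRingHom =
          (splLift (R := R) y χ z).toRingHom.comp (F.splitHom eneg epos).toRingHom :=
        RingHom.ext fun r => DFunLike.congr_fun (congrArg WithConv.ofConv e1) r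
      show PrimeSpectrum.comap (F.splitHom eneg epos).toRingHom _ = _
      rw [← PrimeSpectrum.comap_comp_apply, ← e2, PrimeSpectrum.comap_comp_apply]
      congr 1
      exact PrimeSpectrum.ext ((RingHom.ker_eq_comap_bot _).symm.trans hx)
    have hspec : PrimeSpectrum.comap g.ofConv.toRingHom q ⤳ PrimeSpectrum.comap g.ofConv.toRingHom ⟨Mx, hMx.isPrime⟩ :=
      ((PrimeSpectrum.le_iff_specializes q ⟨Mx, hMx.isPrime⟩).mp hle).map (PrimeSpectrum.continuous_comap _)
    exact hspec.mem_open hOo hmem
  obtain ⟨l, hl⟩ := Spec.map_surjective (IsOpenImmersion.lift (F.splitMor eneg epos) γ hrange)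
  have hl' : CommRingCat.ofHom (F.splitHom eneg epos).toRingHom ≫ l = CommRingCat.ofHom g.ofConv.toRingHom :=
    Spec.map_injective (by rw [Spec.map_comp, hl]; exact IsOpenImmersion.lift_fac _ _ _)
  have hpt : ∀ r, l.hom (F.splitHom eneg epos r) = g r := fun r =>
    congrArg (fun k : CommRingCat.of A ⟶ CommRingCat.of (Polynomial K) => k.hom r) hl'
  let ψ : SplitRing R M n m →ₐ[R] Polynomial K := ⟨l.hom, fun r => by
    rw [← (F.splitHom eneg epos).commutes r]; exact (hpt _).trans (g.ofConv.commutes r)⟩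
  have hψ : F.prodPt eneg (coordY ψ) * F.T.tor (coordT ψ) * F.prodPt epos (coordX ψ) = g :=
    (F.mapPt_splitHom eneg epos ψ).symm.trans (pt_ext hpt)
  -- uniqueness of coordinates
  have uniq : ∀ {B : Type u} [CommRing B] [Algebra R B] {y y' : Fin n → B} {χ χ' : Multiplicative M →* B}
      {x x' : Fin m → B}, F.prodPt eneg y * F.T.tor χ * F.prodPt epos x =
        F.prodPt eneg y' * F.T.tor χ' * F.prodPt epos x' → y = y' ∧ χ = χ' ∧ x = x' := by
    intro B _ _ y y' χ χ' x x' e
    have e' : mapPt (splLift (R := R) y χ x) (toConv (F.splitHom eneg epos)) =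
        mapPt (splLift (R := R) y' χ' x') (toConv (F.splitHom eneg epos)) := by
      rw [F.mapPt_splitHom, F.mapPt_splitHom, splLift_Y, splLift_T, splLift_X, splLift_Y, splLift_T, splLift_X, e]
    have := F.splitHom_epi hs (congrArg WithConv.ofConv e')
    exact ⟨by rw [← splLift_Y (R := R) y χ x, this, splLift_Y], by rw [← splLift_T (R := R) y χ x, this, splLift_T],
      by rw [← splLift_X (R := R) y χ x, this, splLift_X]⟩
  -- homogeneity
  let s : (Polynomial K)[M] := AddMonoidAlgebra.single (F.root a) Polynomial.X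
  let gr : Polynomial K →ₐ[R] (Polynomial K)[M] := (Polynomial.aeval s).restrictScalars R
  have hgr : mapPt gr g = F.T.tor (univChar (Polynomial K) M) *
      mapPt AddMonoidAlgebra.singleZeroAlgHom g * (F.T.tor (univChar (Polynomial K) M))⁻¹ := by
    rw [hnat, hnat, heq]
    congr 1
    simp [gr, s, univChar_apply, AddMonoidAlgebra.single_mul_single]
  rw [← hψ, map_mul, map_mul, F.mapPt_prodPt, F.T.mapPt_tor, F.mapPt_prodPt, map_mul, map_mul, F.mapPt_prodPt,
    F.T.mapPt_tor, F.mapPt_prodPt] at hgr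
  have e3 : ∀ u v w z : Pt R A (Polynomial K)[M], u * (v * w * z) * u⁻¹ = u * v * u⁻¹ * (u * w * u⁻¹) * (u * z * u⁻¹) :=
    fun u v w z => by group
  rw [e3, RedSub30.conj_prodPt, RedSub30.conj_prodPt, ← map_mul F.T.tor, mul_comm (univChar _ M), map_mul F.T.tor,
    mul_inv_cancel_right] at hgr
  obtain ⟨hy, hT, hx⟩ := uniq hgr
  have hinj : ∀ k k' : ℕ, k • F.root a = k' • F.root a → k = k' := fun k k' e => by
    haveI : Module.IsTorsionFree ℤ M := inferInstance
    have h0 : ((k : ℤ) - k') • F.root a = 0 := by rw [sub_smul, natCast_zsmul, natCast_zsmul, e, sub_self]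
    have := (smul_eq_zero.mp h0).resolve_right hne
    omega
  have hpoly : ∀ (i : κ) (y : Polynomial K), gr y = AddMonoidAlgebra.single (F.root i) y →
      (i ≠ a → y = 0) ∧ y = Polynomial.C (y.coeff 1) * Polynomial.X := fun i y e => by
    have h1 : ∀ k, y.coeff k ≠ 0 → k = 1 ∧ i = a := fun k hk => by
      have hk' := nsmul_eq_of_aeval hinj e hk
      have h1 := hred i k hk'.symm
      subst h1
      exact ⟨rfl, (F.root_inj (by simpa using hk')).symm⟩
    refine ⟨fun hi => Polynomial.ext fun k => by_contra fun hk => hi (h1 k (by simpa using hk)).2,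
      Polynomial.ext fun k => ?_⟩
    rw [Polynomial.coeff_C_mul_X]
    split_ifs with h
    · rw [h]
    · exact by_contra fun hk => h (h1 k hk).1
  have hY := fun j => hpoly (eneg j) (coordY ψ j) (by
    have := congrFun hy j
    simpa [univChar_apply, AddMonoidAlgebra.single_mul_single] using this)
  have hX := fun j => hpoly (epos j) (coordX ψ j) (by
    have := congrFun hx j
    simpa [univChar_apply, AddMonoidAlgebra.single_mul_single] using this)
  have hT1 : coordT ψ = 1 := by
    have h0 : mapPt (ev 0) g = 1 := (hev 0).trans (hzero K)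
    rw [← hψ, map_mul, map_mul, F.mapPt_prodPt, F.T.mapPt_tor, F.mapPt_prodPt] at h0
    obtain ⟨-, hT0, -⟩ := uniq (y' := 0) (χ' := 1) (x' := 0) (h0.trans (by
      rw [RedSub30.prodPt_zero, RedSub30.prodPt_zero, map_one, mul_one, mul_one]))
    refine MonoidHom.ext fun μ => ?_
    have hμ : gr (coordT ψ μ) = AddMonoidAlgebra.single 0 (coordT ψ μ) := by
      have := DFunLike.congr_fun hT μ
      simpa using this
    have h2 : coordT ψ μ = Polynomial.C ((coordT ψ μ).coeff 0) := Polynomial.ext fun k => by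
      rw [Polynomial.coeff_C]
      split_ifs with h
      · rw [h]
      · exact by_contra fun hk => h (hinj k 0 (by rw [nsmul_eq_of_aeval hinj hμ hk, zero_nsmul]))
    have h3 := DFunLike.congr_fun hT0 μ
    simp only [MonoidHom.comp_apply, MonoidHom.one_apply] at h3
    rw [h2] at h3 ⊢
    simp [ev] at h3
    simp [h3]
  rw [hT1, map_one, mul_one] at hψ
  rcases lt_or_gt_of_ne (hs.reg a) with ha | ha
  · obtain ⟨j, hj⟩ := hs.neg_range a ha
    refine ⟨(coordY ψ j).coeff 1, hψ.symm.trans ?_⟩
    rw [(prodPt_eq_rt F eneg hs.neg_inj _ fun i hi => (hY i).1 hi).1 j hj,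
      (prodPt_eq_rt F epos hs.pos_inj _ fun i hi => (hX i).1 hi).2 fun i hi => by
        have := hs.pos i; rw [hi] at this; omega, mul_one]
    exact congrArg (F.rt a) (hY j).2
  · obtain ⟨j, hj⟩ := hs.pos_range a ha
    refine ⟨(coordX ψ j).coeff 1, hψ.symm.trans ?_⟩
    rw [(prodPt_eq_rt F eneg hs.neg_inj _ fun i hi => (hY i).1 hi).2 fun i hi => by
        have := hs.neg i; rw [hi] at this; omega,
      (prodPt_eq_rt F epos hs.pos_inj _ fun i hi => (hX i).1 hi).1 j hj, one_mul]
    exact congrArg (F.rt a) (hX j).2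

end Groth.Agent.ParLib
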