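import Groth.Agent.ParLib.ParFibre
import Groth.Agent.ParLib.LeviBase
import Groth.Agent.ParLib.LeviRoots
import Groth.Agent.ParLib.LeviScalar
import Groth.Agent.RedSub30.TypeRUnip
import Groth.Agent.RedSub30.ProdTorus

/-!
# The roots of a parabolic subgroup and of its Levi subgroups
-/

set_option autoImplicit false
set_option linter.style.haveILetI false
set_option linter.unusedSectionVars false
set_option synthInstance.maxHeartbeats 100000

universe u

open CategoryTheory CategoryTheory.Limits MonoidalCategory CartesianMonoidalCategory AlgebraicGeometry WithConv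
open scoped MonObj AddMonoidAlgebra

namespace Groth.Agent.ParLib

open BigCell29 GrpSchLib.AffineHopf RedSub30 RedRk29

variable {S : Scheme.{u}}

/-- A monomorphism of schemes over the base gives one in the category over the base. -/
theorem mono_of_closedImmersion {X Y : Over S} (h : X ⟶ Y) [IsClosedImmersion h.left] : Mono h :=
  ⟨fun _ _ hab => Over.OverMorphism.ext ((cancel_mono h.left).mp (congrArg CommaMorphism.left hab))⟩

section Proj

variable {P L U : Over S} [GrpObj P] [GrpObj L] [GrpObj U] (l : L ⟶ P) [IsMonHom l] (u : U ⟶ P) [IsMonHom u]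
  [IsIso ((l ⊗ₘ u) ≫ μ[P])]

/-- The decomposition of a point of a semi-direct product is unique. -/
theorem decomp_unique {X : Over S} {a a' : X ⟶ L} {b b' : X ⟶ U} (h : (a ≫ l) * (b ≫ u) = (a' ≫ l) * (b' ≫ u)) :
    a = a' ∧ b = b' := by
  have e : ∀ (a : X ⟶ L) (b : X ⟶ U), lift a b ≫ ((l ⊗ₘ u) ≫ μ[P]) = (a ≫ l) * (b ≫ u) := fun a b => by
    rw [CategoryTheory.Hom.mul_def, ← Category.assoc, lift_map]
  rw [← e, ← e, cancel_mono] at h
  exact ⟨by simpa using congrArg (fun k => k ≫ fst L U) h, by simpa using congrArg (fun k => k ≫ snd L U) h⟩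

/-- The projection of a semi-direct product to the subgroup. -/
theorem exists_proj (hnorm : AlgGrp.IsNormalHom u) : ∃ q : P ⟶ L,
    (∀ (X : Over S) (g h : X ⟶ P), (g * h) ≫ q = (g ≫ q) * (h ≫ q)) ∧ l ≫ q = 𝟙 L ∧
      ∀ (X : Over S) (g : X ⟶ P), ∃ b : X ⟶ U, g = (g ≫ q ≫ l) * (b ≫ u) := by
  refine ⟨inv ((l ⊗ₘ u) ≫ μ[P]) ≫ fst L U, ?_⟩
  set q := inv ((l ⊗ₘ u) ≫ μ[P]) ≫ fst L U
  have hd : ∀ (X : Over S) (g : X ⟶ P), ∃ b : X ⟶ U, g = ((g ≫ q) ≫ l) * (b ≫ u) := fun X g => by
    refine ⟨g ≫ inv ((l ⊗ₘ u) ≫ μ[P]) ≫ snd L U, ?_⟩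
    conv_lhs => rw [← Category.comp_id g, ← IsIso.inv_hom_id ((l ⊗ₘ u) ≫ μ[P])]
    rw [CategoryTheory.Hom.mul_def, ← Category.assoc, ← Category.assoc (g ≫ inv _)]
    congr 1
    ext <;> simp [q]
  refine ⟨fun X g h => ?_, ?_, fun X g => by
    obtain ⟨b, hb⟩ := hd X g
    exact ⟨b, by rwa [Category.assoc] at hb⟩⟩
  · obtain ⟨b, hb⟩ := hd X g
    obtain ⟨c, hc⟩ := hd X h
    obtain ⟨d, hd'⟩ := hd X (g * h)
    obtain ⟨b', hb'⟩ := hnorm X ((h ≫ q) ≫ l)⁻¹ b
    rw [inv_inv] at hb'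
    refine (decomp_unique l u (a := (g * h) ≫ q) (b := d) (a' := (g ≫ q) * (h ≫ q)) (b' := b' * c) ?_).1
    rw [← hd', MonObj.mul_comp, MonObj.mul_comp, ← hb']
    conv_lhs => rw [hb, hc]
    group
  · obtain ⟨b, hb⟩ := hd L l
    exact (decomp_unique l u (a := 𝟙 L) (b := (1 : L ⟶ U)) (a' := l ≫ q) (b' := b) (by
      rw [MonObj.one_comp, mul_one, Category.id_comp, ← hb])).1.symm

include u in
/-- The subgroup of a semi-direct product is closed. -/
theorem isClosedImmersion_of_semidirect [IsAffineHom U.hom] : IsClosedImmersion l.left := by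
  let z : L ⟶ L ⊗ U := lift (𝟙 L) 1
  have hz : z ≫ ((l ⊗ₘ u) ≫ μ[P]) = l := by
    rw [← Category.assoc, lift_map, ← CategoryTheory.Hom.mul_def, MonObj.one_comp, mul_one, Category.id_comp]
  have hf : z ≫ fst L U = 𝟙 L := lift_fst _ _
  haveI : IsSeparated (fst L U).left := by
    show IsSeparated (pullback.fst L.hom U.hom)
    infer_instance
  haveI : IsClosedImmersion (z.left ≫ (fst L U).left) := by
    rw [← Over.comp_left, hf, Over.id_left]; infer_instance
  haveI : IsClosedImmersion z.left := IsClosedImmersion.of_comp z.left (fst L U).left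
  haveI : IsIso ((l ⊗ₘ u) ≫ μ[P]).left := inferInstanceAs (IsIso ((Over.forget _).map ((l ⊗ₘ u) ≫ μ[P])))
  rw [← hz, Over.comp_left]
  infer_instance

end Proj

variable {G : Over S} [GrpObj G] (D : Red.SplitRed G)

section Attracted

variable (ν : D.M →+ ℤ) {k : ℕ} {e : Fin k → D.idx} (he : RedSub.Enumerates {i | 0 < ν (D.P.root i)} e)
include he

/-- A point attracted by a form is a product of the root groups on which the form is positive. -/
theorem exists_fac_inU {X : Over S} (y : X ⟶ G)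
    (hy : ∀ (R : Type u) [CommRing R] (f : Spec (CommRingCat.of R) ⟶ S) [IsOpenImmersion f] (B : Type u)
      [CommRing B] [Algebra R B] (A : Type u) [CommRing A] [HopfAlgebra R A] (Md : Model f G A)
      (j : tObj f B ⟶ X), ((Md.frame D).cochar ν).InU (Md.ofPt (j ≫ y))) :
    ∃ x : X ⟶ RedSub.pow (Red.Ga S) k, x ≫ RedSub.prodMap (Red.Ga S) k (fun i => D.u (e i)) = y := by
  haveI := (isPosClosed_pos D ν he).isClosedImmersion_prodMap
  refine exists_factor_of_pts _ y fun R _ f _ B _ _ j => ?_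
  haveI : IsAffineHom G.hom := D.reductive.1
  obtain ⟨A, _, _, ⟨Md⟩⟩ := exists_model f G
  obtain ⟨z, hz, -⟩ := (Md.frame D).exists_coords (fun l => he.2.le ⟨l, rfl⟩) he.1
    (fun i hi => he.2.ge hi) (hy R f B A Md j)
  exact ⟨powPt f z, by rw [Md.powPt_prodMap, hz, Md.pt_ofPt]⟩

/-- The products of the root groups on which a form is positive are attracted. -/
theorem inU_prodMap {R : Type u} [CommRing R] {f : Spec (CommRingCat.of R) ⟶ S} [IsOpenImmersion f] {A : Type u}
    [CommRing A] [HopfAlgebra R A] (Md : Model f G A) {B : Type u} [CommRing B] [Algebra R B]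
    (j : tObj f B ⟶ RedSub.pow (Red.Ga S) k) :
    ((Md.frame D).cochar ν).InU (Md.ofPt (j ≫ RedSub.prodMap (Red.Ga S) k (fun i => D.u (e i)))) := by
  obtain ⟨x, rfl⟩ := (powPt_bijective k).surjective j
  rw [Md.ofPt_eq_iff.mpr (Md.powPt_prodMap D e x)]
  exact (Md.frame D).prodPt_inU ν _ (fun l => he.2.le ⟨l, rfl⟩) x

end Attracted

/-- An enumeration of the signs of a regular form. -/
theorem exists_signEnum {R : Type u} [CommRing R] {A : Type u} [CommRing A] [HopfAlgebra R A] {M κ : Type} [AddCommGroup M]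
    [Fintype κ] (F : Frame R A M κ) (lam : M →+ ℤ) (hlam : ∀ i, lam (F.root i) ≠ 0) :
    ∃ (n m : ℕ) (eneg : Fin n → κ) (epos : Fin m → κ), F.IsSignEnum lam eneg epos := by
  classical
  let sn := Finset.univ.filter fun i => lam (F.root i) < 0
  let sp := Finset.univ.filter fun i => 0 < lam (F.root i)
  exact ⟨sn.card, sp.card, fun j => (sn.equivFin.symm j : κ), fun j => (sp.equivFin.symm j : κ),
    ⟨fun j => (Finset.mem_filter.mp (sn.equivFin.symm j).2).2,
      fun j => (Finset.mem_filter.mp (sp.equivFin.symm j).2).2,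
      Subtype.val_injective.comp sn.equivFin.symm.injective, Subtype.val_injective.comp sp.equivFin.symm.injective,
      fun i hi => ⟨sn.equivFin ⟨i, Finset.mem_filter.mpr ⟨Finset.mem_univ i, hi⟩⟩, by simp⟩,
      fun i hi => ⟨sp.equivFin ⟨i, Finset.mem_filter.mpr ⟨Finset.mem_univ i, hi⟩⟩, by simp⟩, hlam⟩⟩

variable [ConnectedSpace S] {P L : Over S} [GrpObj P] [GrpObj L] (p : P ⟶ G) [IsMonHom p] [IsClosedImmersion p.left]
  [Smooth P.hom] (tP : D.T ⟶ P) (htP : tP ≫ p = D.i)

include tP htP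

/-- A subgroup whose roots have non-negative weight is contracted by the form. -/
theorem inP_of_roots (ν : D.M →+ ℤ)
    (hν : ∀ a : D.idx, (∃ v : Red.Ga S ⟶ P, v ≫ p = D.u a) → 0 ≤ ν (D.P.root a))
    (hconn : ∀ s : S, _root_.IsConnected (P.hom ⁻¹' {s})) {R : Type u} [CommRing R]
    {f : Spec (CommRingCat.of R) ⟶ S} [IsOpenImmersion f] {A : Type u} [CommRing A] [HopfAlgebra R A]
    (Md : Model f G A) {B : Type u} [CommRing B] [Algebra R B] (y : tObj f B ⟶ P) :
    ((Md.frame D).cochar ν).InP (Md.ofPt (y ≫ p)) := by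
  set E := (Md.frame D).cochar ν
  let J : Set A := {x | ∃ (a : A) (n : ℤ), n < 0 ∧ x = E.p n a}
  have hJ : ∀ {C : Type u} [CommRing C] [Algebra R C] (g : Pt R A C), (∀ x ∈ J, g x = 0) ↔ E.InP g :=
    fun g => ⟨fun h a n hn => h _ ⟨a, n, hn, rfl⟩, fun h x ⟨a, n, hn, e⟩ => e ▸ h a n hn⟩
  refine (hJ _).mp (ann_of_roots D p tP htP hconn Md J (fun C _ _ g g' h h' => ?_) (fun C _ _ χ => ?_)
    (fun i hi C _ _ x => ?_) y)
  · exact (hJ _).mpr (Coact.InP.mul _ ((hJ _).mp h) ((hJ _).mp h'))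
  · exact (hJ _).mpr (Coact.InZ.inP _ ((Md.frame D).cochar_inZ_tor ν χ))
  · refine (hJ _).mpr ?_
    rcases (hν i hi).lt_or_eq with h | h
    · exact ((Md.frame D).inU_rt ν h x).1
    · exact Coact.InZ.inP _ (inZ_push_rt D Md ν h.symm x)

/-- The root groups on which a form non-negative on the roots of the subgroup is positive lie in the unipotent
radical. -/
theorem exists_radical_factor {U : Over S} [GrpObj U] {u : U ⟶ P} (hu : Par.IsUnipotentRadical u) (ν : D.M →+ ℤ)
    (hν : ∀ a : D.idx, (∃ v : Red.Ga S ⟶ P, v ≫ p = D.u a) ↔ 0 ≤ ν (D.P.root a))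
    (hconn : ∀ s : S, _root_.IsConnected (P.hom ⁻¹' {s})) {a : D.idx} (ha : 0 < ν (D.P.root a)) :
    ∃ w : Red.Ga S ⟶ U, w ≫ u ≫ p = D.u a := by
  classical
  haveI := Fintype.ofFinite D.idx
  haveI : IsAffineHom G.hom := D.reductive.1
  let Ψ : Set D.idx := {i | 0 < ν (D.P.root i)}
  let e : Fin (Fintype.card Ψ) → D.idx := fun i => ((Fintype.equivFin Ψ).symm i).1
  have he : RedSub.Enumerates Ψ e := ⟨fun i j hij => (Fintype.equivFin Ψ).symm.injective (Subtype.ext hij),
    Set.ext fun i => ⟨fun ⟨j, hj⟩ => hj ▸ ((Fintype.equivFin Ψ).symm j).2,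
      fun hi => ⟨Fintype.equivFin Ψ ⟨i, hi⟩, by simp [e]⟩⟩⟩
  have hl := isPosClosed_pos D ν he
  obtain ⟨str, hstr⟩ := hl.exists_grpObj
  letI := str
  haveI := hstr
  set c := RedSub.prodMap (Red.Ga S) _ (fun i => D.u (e i))
  haveI := hl.isClosedImmersion_prodMap
  haveI := hl.mono_prodMap
  haveI : IsMonHom p := inferInstance
  haveI : Mono p := mono_of_closedImmersion p
  haveI : QuasiCompact p.left := inferInstance
  obtain ⟨v, hv⟩ : ∃ v : RedSub.pow (Red.Ga S) (Fintype.card Ψ) ⟶ P, v ≫ p = c := by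
    refine exists_factor_of_pts p c fun R _ f _ B _ _ j => ?_
    obtain ⟨A, _, _, ⟨Md⟩⟩ := exists_model f G
    obtain ⟨x, rfl⟩ := (powPt_bijective _).surjective j
    obtain ⟨y, hy⟩ : InSub p Md ((Md.frame D).prodPt e x) :=
      prodPt_mem (W := subPts p Md) _ (fun i => full_of_mem D p (R' := {i | 0 ≤ ν (D.P.root i)}) hν Md
        (show 0 ≤ ν (D.P.root (e i)) from le_of_lt (he.2.le ⟨i, rfl⟩ : e i ∈ Ψ))) x
    exact ⟨y, by rw [hy, Md.powPt_prodMap]⟩
  haveI : IsMonHom (v ≫ p) := by rw [hv]; exact hstr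
  haveI : IsMonHom v := isMonHom_of_mono p v
  haveI : IsClosedImmersion (v.left ≫ p.left) := by
    rw [← Over.comp_left, hv]; infer_instance
  have hvc : IsClosedImmersion v.left := IsClosedImmersion.of_comp v.left p.left
  have hnorm : AlgGrp.IsNormalHom v := by
    intro X g n
    obtain ⟨n', hn'⟩ := exists_fac_inU D ν he ((g ≫ p) * (n ≫ c) * (g ≫ p)⁻¹) fun R _ f _ B _ _ A _ _ Md j => by
      obtain ⟨z, w, hz, hw, e1⟩ := (inP_of_roots D p tP htP ν (fun a h => (hν a).mp h) hconn Md (j ≫ g)).exists_decomp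
      have e2 : Md.ofPt (j ≫ ((g ≫ p) * (n ≫ c) * (g ≫ p)⁻¹)) =
          Md.ofPt ((j ≫ g) ≫ p) * Md.ofPt ((j ≫ n) ≫ c) * (Md.ofPt ((j ≫ g) ≫ p))⁻¹ :=
        Md.ofPt_eq_iff.mpr (by
          rw [Md.pt_mul, Md.pt_mul, Md.pt_inv, Md.pt_ofPt, Md.pt_ofPt, MonObj.comp_mul, MonObj.comp_mul,
            GrpObj.comp_inv]
          simp only [Category.assoc])
      rw [e2, e1]
      have hn := inU_prodMap D ν he Md (j ≫ n)
      rw [show z * w * Md.ofPt ((j ≫ n) ≫ c) * (z * w)⁻¹ = z * (w * Md.ofPt ((j ≫ n) ≫ c) * w⁻¹) * z⁻¹ by group]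
      exact Coact.InU.conj _ hz (Coact.InU.mul _ (Coact.InU.mul _ hw hn) (Coact.InU.inv _ hw))
    refine ⟨n', (cancel_mono p).mp ?_⟩
    rw [MonObj.mul_comp, MonObj.mul_comp, GrpObj.inv_comp, Category.assoc, Category.assoc, hv, hn']
  obtain ⟨φ, hφ⟩ := hu.2.2.2.2.2.2 _ v hvc hnorm (RootPoly.smooth_pow _)
    (haveI := isAffineHom_pow (S := S) (Fintype.card Ψ); inferInstance)
    fun s => ⟨RootPoly.connected_geomFibre_pow _ s, hl.hasNoSubtorus (Red.geomPt s)⟩
  obtain ⟨x, hx⟩ := exists_fac_inU D ν he (D.u a) fun R _ f _ B _ _ A _ _ Md j => by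
    obtain ⟨x, rfl⟩ := (gaPt_bijective f).surjective j
    rw [Md.ofPt_eq_iff.mpr (show gaPt f x ≫ D.u a = Md.pt ((Md.frame D).rt a x) by rw [Md.pt_rt]; rfl)]
    exact (Md.frame D).inU_rt ν ha x
  exact ⟨x ≫ φ, by rw [Category.assoc, reassoc_of% hφ, hv, hx]⟩

/-- A root group whose opposite also lies in the subgroup lies in its Levi subgroup. -/
theorem exists_levi_root {U : Over S} [GrpObj U] (l : L ⟶ P) [IsMonHom l] (u : U ⟶ P) [IsMonHom u]
    [IsIso ((l ⊗ₘ u) ≫ μ[P])] (hnorm : AlgGrp.IsNormalHom u) [Smooth L.hom] [IsClosedImmersion (l ≫ p).left]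
    (t' : D.T ⟶ L) (ht' : t' ≫ l ≫ p = D.i) {a : D.idx} (va : Red.Ga S ⟶ P) (hva : va ≫ p = D.u a)
    (vb : Red.Ga S ⟶ P) (hvb : vb ≫ p = D.u (negIdx D a)) :
    ∃ w : Red.Ga S ⟶ L, w ≫ l ≫ p = D.u a := by
  classical
  by_contra hno
  haveI := Fintype.ofFinite D.idx
  haveI : IsAffineHom G.hom := D.reductive.1
  obtain ⟨q, hq, hlq, -⟩ := exists_proj l u hnorm
  haveI : Mono p := mono_of_closedImmersion p
  haveI : Mono (l ≫ p) := mono_of_closedImmersion (l ≫ p)
  haveI : QuasiCompact (l ≫ p).left := inferInstance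
  have hqinv : ∀ (X : Over S) (g : X ⟶ P), g⁻¹ ≫ q = (g ≫ q)⁻¹ := fun X g =>
    map_inv (MonoidHom.mk' (fun g : X ⟶ P => g ≫ q) (hq X)) g
  have hq1 : ∀ (X : Over S), (1 : X ⟶ P) ≫ q = 1 := fun X =>
    map_one (MonoidHom.mk' (fun g : X ⟶ P => g ≫ q) (hq X))
  obtain ⟨s⟩ : Nonempty S := inferInstance
  obtain ⟨W, hW, hsW, -⟩ := exists_isAffineOpen_mem_and_subset (X := S) (U := ⊤) (x := s) trivial
  haveI : IsOpenImmersion hW.fromSpec := hW.isOpenImmersion_fromSpec
  obtain ⟨pr, -⟩ : ∃ pr, hW.fromSpec pr = s := hW.range_fromSpec.ge hsW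
  let R : Type u := Γ(S, W)
  let f : Spec (CommRingCat.of R) ⟶ S := hW.fromSpec
  haveI : IsOpenImmersion f := hW.isOpenImmersion_fromSpec
  let Q : PrimeSpectrum R := pr
  let K := AlgebraicClosure Q.asIdeal.ResidueField
  obtain ⟨A, _, _, ⟨Md⟩⟩ := exists_model (R := R) f G
  haveI := Md.smooth D.reductive.2.1
  set F := Md.frame D
  -- the families in the Levi subgroup
  let z : ∀ {B : Type u} [CommRing B] [Algebra R B], (Multiplicative D.M →* B) → (tObj f B ⟶ L) :=
    fun {B} _ _ χ => chPt f χ ≫ D.split.inv.hom.hom ≫ t'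
  have hz : ∀ {B : Type u} [CommRing B] [Algebra R B] (χ : Multiplicative D.M →* B), z χ ≫ l ≫ p = torG D χ := by
    intro B _ _ χ
    simp only [z, torG, Category.assoc, ht']
  let Φ : ∀ (B : Type u) [CommRing B] [Algebra R B], B → Pt R A B :=
    fun B _ _ x => Md.ofPt (gaPt f x ≫ va ≫ q ≫ l ≫ p)
  have hΦ : ∀ (B : Type u) [CommRing B] [Algebra R B] (x : B), Md.pt (Φ B x) = gaPt f x ≫ va ≫ q ≫ l ≫ p :=
    fun B _ _ x => Md.pt_ofPt _
  obtain ⟨lam, hlam, -⟩ := RedRk29.exists_perturb (0 : D.M →+ ℤ) (Set.finite_range F.root)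
  obtain ⟨n, m, eneg, epos, hs⟩ := exists_signEnum F lam fun i => hlam _ ⟨i, rfl⟩ (D.P.ne_zero i)
  have hred : ∀ i (k : ℕ), F.root i = k • F.root a → k = 1 := by
    intro i k hk
    haveI := RedRk29.isReduced D
    have hk' : D.P.root i = (k : ℤ) • D.P.root a := by rw [natCast_zsmul]; exact hk
    have hd : ¬ LinearIndependent ℤ ![D.P.root i, D.P.root a] := fun hli => by
      rw [LinearIndependent.pair_iff] at hli
      exact one_ne_zero (hli 1 (-(k : ℤ)) (by rw [one_smul, hk', neg_smul, add_neg_cancel])).1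
    rcases RootPairing.IsReduced.eq_or_eq_neg i a hd with h' | h'
    · rw [h'] at hk'
      have h0 : ((k : ℤ) - 1) • D.P.root a = 0 := by rw [sub_smul, one_smul, ← hk', sub_self]
      have := (smul_eq_zero.mp h0).resolve_right (D.P.ne_zero a)
      omega
    · rw [h'] at hk'
      have h0 : ((k : ℤ) + 1) • D.P.root a = 0 := by rw [add_smul, one_smul, ← hk', neg_add_cancel]
      have := (smul_eq_zero.mp h0).resolve_right (D.P.ne_zero a)
      omega
  obtain ⟨c, hc⟩ := exists_scalar (K := K) F (a := a) (D.P.ne_zero a) hred hs Φ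
    (fun B B' _ _ _ _ φ x => Md.pt_bijective.injective (by
      rw [Md.pt_map, hΦ, hΦ, ← Category.assoc, gaPt_map]))
    (fun B _ _ χ x => Md.pt_bijective.injective (by
      have e : (z χ ≫ l) * (gaPt f x ≫ va) * (z χ ≫ l)⁻¹ =
          gaPt f (χ (Multiplicative.ofAdd (D.P.root a)) * x) ≫ va := by
        rw [← cancel_mono p, MonObj.mul_comp, MonObj.mul_comp, GrpObj.inv_comp]
        simp only [Category.assoc, hz, hva]
        exact mul_inv_eq_iff_eq_mul.mpr (rtG_conj D a χ x)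
      have e2 := congrArg (fun k : tObj f B ⟶ P => k ≫ q) e
      rw [hq, hq, hqinv] at e2
      simp only [Category.assoc, hlq, Category.comp_id] at e2
      have e3 := congrArg (fun k : tObj f B ⟶ L => k ≫ l ≫ p) e2
      rw [MonObj.mul_comp, MonObj.mul_comp, GrpObj.inv_comp] at e3
      simp only [Category.assoc, hz] at e3
      rw [Md.pt_mul, Md.pt_mul, Md.pt_inv, Md.pt_tor, hΦ, hΦ]
      exact e3))
    (fun B _ _ => Md.pt_bijective.injective (by
      have e : gaPt f (0 : B) ≫ va = 1 := by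
        rw [← cancel_mono p, MonObj.one_comp, Category.assoc, hva]
        haveI : IsMonHom (D.u a) := (D.rootHom a).1
        rw [RedSub30.gaPt_zero, MonObj.one_comp]
      rw [hΦ, Md.pt_one, reassoc_of% e, reassoc_of% (hq1 _), MonObj.one_comp]))
  have hev : ∀ x : K, Φ K x = F.rt a (c * x) := fun x => by
    have h := congrArg (mapPt ((Polynomial.aeval x).restrictScalars R)) hc
    rw [F.mapPt_rt] at h
    have e : mapPt ((Polynomial.aeval x).restrictScalars R) (Φ (Polynomial K) Polynomial.X) = Φ K x :=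
      Md.pt_bijective.injective (by rw [Md.pt_map, hΦ, hΦ, ← Category.assoc, gaPt_map]; simp)
    rw [e] at h
    simpa using h
  by_cases hc0 : c = 0
  · -- the projection kills the root group: contradiction with the dual relation
    have hA : ∀ x : K, (gaPt f x ≫ va) ≫ q = 1 := fun x => by
      rw [← cancel_mono (l ≫ p), MonObj.one_comp]
      have h := congrArg Md.pt (hev x)
      rw [hc0, zero_mul, F.rt_zero, Md.pt_one, hΦ] at h
      simpa only [Category.assoc] using h
    obtain ⟨c₀, hd⟩ := exists_dualAt (f := f) D a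
    let b : K → (tObj f K ⟶ L) := fun y => (gaPt f y ≫ vb) ≫ q
    have key : ∀ (v : Kˣ) (w : K), (v : K) ≠ 1 → w ≠ 0 →
        b w = z (zchar (D.P.coroot' a).toAddMonoidHom v) := by
      intro v w hv hw
      set y := w * (v : K) / ((v : K) - 1)
      have hv1 : (v : K) - 1 ≠ 0 := sub_ne_zero.mpr hv
      have hy : y ≠ 0 := div_ne_zero (mul_ne_zero hw v.ne_zero) hv1
      have hc1 : algebraMap R K (c₀ : R) ≠ 0 := ((c₀.isUnit).map (algebraMap R K)).ne_zero
      set x := ((v : K) - 1) / (algebraMap R K (c₀ : R) * y)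
      have hrel := hd K x y v (by
        show (v : K) = 1 + algebraMap R K (c₀ : R) * (((v : K) - 1) / (algebraMap R K (c₀ : R) * y)) * y
        rw [mul_comm (algebraMap R K (c₀ : R)) (_ / _), mul_assoc, div_mul_cancel₀ _ (mul_ne_zero hc1 hy)]
        ring)
      have e : (gaPt f x ≫ va) * (gaPt f y ≫ vb) = (gaPt f (y * ↑v⁻¹) ≫ vb) *
          (z (zchar (D.P.coroot' a).toAddMonoidHom v) ≫ l) * (gaPt f (x * ↑v⁻¹) ≫ va) := by
        rw [← cancel_mono p]
        simp only [MonObj.mul_comp, Category.assoc, hz, hva, hvb]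
        exact hrel
      have e2 := congrArg (fun k : tObj f K ⟶ P => k ≫ q) e
      simp only [hq, hA, one_mul, mul_one, Category.assoc, hlq, Category.comp_id] at e2
      have e3 : y = y * ↑v⁻¹ + w := by
        show w * (v : K) / ((v : K) - 1) = w * (v : K) / ((v : K) - 1) * ↑v⁻¹ + w
        rw [Units.val_inv_eq_inv_val]
        rw [div_mul_eq_mul_div, mul_assoc w, mul_inv_cancel₀ v.ne_zero, mul_one, div_add' _ _ _ hv1]
        ring
      have e4 : b y = b (y * ↑v⁻¹) * b w := by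
        show (gaPt f y ≫ vb) ≫ q = _
        rw [← hq]
        congr 1
        rw [← cancel_mono p]
        simp only [MonObj.mul_comp, Category.assoc, hvb]
        rw [← show rtG D (negIdx D a) _ = gaPt f y ≫ D.u (negIdx D a) from rfl]
        conv_lhs => rw [e3]
        exact rtG_add D _ _ _
      have e5 : b (y * ↑v⁻¹) * b w = b (y * ↑v⁻¹) * z (zchar (D.P.coroot' a).toAddMonoidHom v) := by
        rw [← e4]
        simpa only [b, Category.assoc] using e2
      exact mul_left_cancel e5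
    haveI : Infinite K := IsAlgClosed.instInfinite
    obtain ⟨v, hv⟩ := Infinite.exists_notMem_finset ({0, 1, -1} : Finset K)
    simp only [Finset.mem_insert, Finset.mem_singleton, not_or] at hv
    obtain ⟨hv0, hv1, hv2⟩ := hv
    have hv3 : 1 + v ≠ 0 := fun h => hv2 (by linear_combination h)
    set Z := z (zchar (D.P.coroot' a).toAddMonoidHom (Units.mk0 v hv0))
    have hb : ∀ w : K, w ≠ 0 → b w = Z := fun w => key (Units.mk0 v hv0) w hv1
    have hadd : b (1 + v) = b 1 * b v := by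
      show (gaPt f (1 + v) ≫ vb) ≫ q = _
      rw [← hq]
      congr 1
      rw [← cancel_mono p]
      simp only [MonObj.mul_comp, Category.assoc, hvb]
      exact rtG_add D _ _ _
    rw [hb _ hv3, hb _ one_ne_zero, hb _ hv0] at hadd
    have hZ : Z = 1 := left_eq_mul.mp hadd
    have h1 : torG (f := f) D (zchar (D.P.coroot' a).toAddMonoidHom (Units.mk0 v hv0)) = torG D 1 := by
      rw [← hz, ← hz, show z (zchar (D.P.coroot' a).toAddMonoidHom (Units.mk0 v hv0)) = 1 from hZ]
      rw [MonObj.one_comp, hz, ← Md.pt_tor D 1, map_one, Md.pt_one]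
    have h2 := DFunLike.congr_fun (torG_injective D h1) (Multiplicative.ofAdd (D.P.root a))
    rw [zchar_apply, MonoidHom.one_apply] at h2
    have h3 : (D.P.coroot' a).toAddMonoidHom (D.P.root a) = 2 := by
      show D.P.coroot' a (D.P.root a) = 2
      rw [D.P.root_coroot'_eq_pairing, D.P.pairing_same]
    rw [h3, zpow_ofNat, Units.val_pow_eq_pow_val, Units.val_mk0] at h2
    exact hv3 (((mul_eq_zero.mp (show (v - 1) * (1 + v) = 0 by linear_combination h2)).resolve_left
      (sub_ne_zero.mpr hv1)))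
  · -- a non-trivial point of the root group lies in the Levi subgroup
    have hin : InSub (l ≫ p) Md (F.rt a (1 : K)) := ⟨gaPt f c⁻¹ ≫ va ≫ q, by
      rw [← mul_inv_cancel₀ hc0, ← hev, hΦ]
      simp only [Category.assoc]⟩
    exact one_ne_zero (RedSub30.eq_zero_of_notMem D (l ≫ p) t' ht'
      (R' := {i | ∃ w : Red.Ga S ⟶ L, w ≫ l ≫ p = D.u i}) (fun _ => Iff.rfl) Md hno hin)

end Groth.Agent.ParLib
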