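import Groth.Agent.RedRk29.Vanish
import Groth.Agent.ComodLib.Chevalley

/-!
# A closed subgroup of points is the stabiliser of a line
-/

set_option autoImplicit false

universe u

open TensorProduct WithConv

namespace Groth.Agent.ParLib

open BigCell29 RedRk29 ComodLib

variable {k : Type u} [Field k] {A : Type u} [CommRing A] [HopfAlgebra k A] [Algebra.FiniteType k A]

/-- Chevalley: a subgroup of points closed for the Zariski topology is the stabiliser of a line. -/
theorem exists_lineStab (H : Subgroup (Pt k A k))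
    (hH : ∀ g : Pt k A k, (∀ a ∈ vanIdeal H, g.ofConv a = 0) → g ∈ H) :
    ∃ (W : Type u) (_ : AddCommGroup W) (_ : Module k W) (_ : Module.Finite k W)
      (π : Pt k A k →* Module.End k W) (v : W),
      IsRegRep π ∧ v ≠ 0 ∧ ∀ g, g ∈ H ↔ ∃ c : k, c ≠ 0 ∧ π g v = c • v := by
  classical
  haveI := isHopfIdeal_vanIdeal H
  let q := Bialgebra.Quotient.mkBialgHom (R := k) (vanIdeal H)
  obtain ⟨d, e, M, hM, hblock, hkill⟩ := exists_block_matrix q Ideal.Quotient.mk_surjective
  let M₁ := powMatrix M d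
  have hM₁ : IsComodMatrix k M₁ := hM.powMatrix d
  let v₁ := minorVec k (Sum.inl : Fin d → Fin d ⊕ Fin e)
  have hv₁ : v₁ Sum.inl = 1 := minorVec_self Sum.inl_injective
  obtain ⟨χ, -, hχ⟩ := orbit_block hM q hblock
  letI : HopfRep.Comod k A ((Fin d → Fin d ⊕ Fin e) → k) := ofMatrix M₁ hM₁
  let π := AlgGrpQ.rho k A ((Fin d → Fin d ⊕ Fin e) → k)
  have hπv : ∀ (g : Pt k A k) x, π g v₁ x = g.ofConv (orbit k M₁ v₁ x) := by
    intro g x
    show ComodLib.actF g.ofConv.toLinearMap v₁ x = _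
    rw [actF_apply]
    show ComodLib.slice _ ((ofMatrix M₁ hM₁).coact v₁) x = _
    rw [ofMatrix_coact, map_sum, Finset.sum_apply]
    simp [Pi.single_apply]
  refine ⟨_, inferInstance, inferInstance, inferInstance, π, v₁, isRegRep_rho,
    fun h => one_ne_zero (hv₁.symm.trans (congrFun h _)), fun g => ⟨fun hg => ?_, fun ⟨c, hc, hgv⟩ => ?_⟩⟩
  · refine ⟨qPt H ⟨g, hg⟩ χ, fun h0 => ?_, funext fun x => ?_⟩
    · have h1 : π g v₁ = 0 := funext fun x => by
        rw [hπv, ← qPt_mk H ⟨g, hg⟩]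
        show qPt H ⟨g, hg⟩ (q (orbit k M₁ v₁ x)) = _
        rw [hχ, map_smul, h0, smul_zero]; rfl
      have h2 := congrArg (π g⁻¹) h1
      rw [map_zero, ← Module.End.mul_apply, ← map_mul, inv_mul_cancel, map_one, Module.End.one_apply] at h2
      exact one_ne_zero (hv₁.symm.trans (congrFun h2 _))
    · rw [hπv, ← qPt_mk H ⟨g, hg⟩, Pi.smul_apply, smul_eq_mul]
      show qPt H ⟨g, hg⟩ (q (orbit k M₁ v₁ x)) = _
      rw [hχ, map_smul, smul_eq_mul, mul_comm]
  · refine hH g fun a ha => hkill k g.ofConv (fun r m => ?_) a (by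
      show q a = 0
      exact Ideal.Quotient.eq_zero_iff_mem.mpr ha)
    refine eq_zero_of_minors (k := k) ((Matrix.of M).map g.ofConv) c (isUnit_iff_ne_zero.mpr hc) (fun i => ?_) r m
    rw [← map_orbit_minorVec M g.ofConv i, ← hπv, hgv, Pi.smul_apply, smul_eq_mul, smul_eq_mul, mul_comm]

end Groth.Agent.ParLib
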