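import Groth.Agent.ParLib.BorelPts
import Groth.Agent.ParLib.GrpPts
import Groth.Agent.AGFRoot.BorelConj
import Groth.Agent.GrpSchLib.IdentityComp
import Mathlib.Algebra.AffineMonoid.UniqueSums

/-!
# A Borel subgroup containing the torus inside a parabolic subgroup over an algebraically closed field
-/

set_option autoImplicit false
set_option backward.isDefEq.respectTransparency false
set_option backward.isDefEq.respectTransparency.types false

universe u

open CategoryTheory CategoryTheory.Limits MonoidalCategory CartesianMonoidalCategory MonObj AlgebraicGeometry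
open TensorProduct WithConv
open scoped AddMonoidAlgebra

namespace Groth.Agent.ParLib

open BigCell29 RedRk29 GrpSchLib.AffineHopf

section General

variable {k : Type u} [Field k]

/-- A connected pointed scheme maps into an open subscheme carrying the component of the point. -/
theorem exists_factor_component {X P₀ P : Over (Spec (CommRingCat.of k))} [ConnectedSpace X.left]
    (incl : P₀ ⟶ P) [IsOpenImmersion incl.left] {x₀ : P.left}
    (hr : Set.range incl.left = connectedComponent x₀) (b : X ⟶ P) (hb : ∃ z, b.left z = x₀) :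
    ∃ f : X ⟶ P₀, f ≫ incl = b := by
  have hsub : Set.range b.left ⊆ Set.range incl.left := by
    rw [hr]
    exact (isPreconnected_range b.left.continuous).subset_connectedComponent hb
  refine ⟨Over.homMk (IsOpenImmersion.lift incl.left b.left hsub) ?_, Over.OverMorphism.ext ?_⟩
  · rw [← Over.w incl, IsOpenImmersion.lift_fac_assoc, Over.w b]
  · exact IsOpenImmersion.lift_fac _ _ _

theorem isMonHom_of_comp_mono {X Y Z : Over (Spec (CommRingCat.of k))} [GrpObj X] [GrpObj Y] [GrpObj Z]
    (f : X ⟶ Y) (g : Y ⟶ Z) [IsMonHom g] [Mono g] [IsMonHom (f ≫ g)] : IsMonHom f := by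
  constructor
  · rw [← cancel_mono g, Category.assoc, IsMonHom.one_hom (f ≫ g), IsMonHom.one_hom g]
  · rw [← cancel_mono g, Category.assoc, IsMonHom.mul_hom (f ≫ g), Category.assoc, IsMonHom.mul_hom g,
      ← Category.assoc, MonoidalCategory.tensorHom_comp_tensorHom]

/-- The image of the unit section of a group homomorphism. -/
theorem apply_unit {X P : Over (Spec (CommRingCat.of k))} [GrpObj X] [GrpObj P] (b : X ⟶ P) [IsMonHom b] :
    ∃ z, b.left z = η[P].left (IsLocalRing.closedPoint k) :=
  ⟨η[X].left (IsLocalRing.closedPoint k), by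
    rw [← Scheme.Hom.comp_apply, ← Over.comp_left, IsMonHom.one_hom]⟩

/-- A Borel subgroup inside a closed subgroup is a Borel subgroup of it. -/
theorem isBorelOver_restrict {B P G : Over (Spec (CommRingCat.of k))} [GrpObj B] [GrpObj P] [GrpObj G]
    (b : B ⟶ P) (p : P ⟶ G) [IsMonHom p] [IsClosedImmersion p.left] (hb : Red.IsBorelOver k (b ≫ p)) :
    Red.IsBorelOver k b := by
  obtain ⟨hm, hc, hsm, hcn, hs, hmax⟩ := hb
  have := hm
  have : Mono p.left := inferInstance
  have : Mono p := Over.mono_of_mono_left p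
  have : IsClosedImmersion (b.left ≫ p.left) := by rw [← Over.comp_left]; exact hc
  refine ⟨isMonHom_of_comp_mono b p, IsClosedImmersion.of_comp _ p.left, hsm, hcn, hs,
    fun B' _ i' _ f hc' hsm' hcn' hs' hf => ?_⟩
  have := hc'
  have : IsClosedImmersion (i' ≫ p).left := by rw [Over.comp_left]; infer_instance
  exact hmax B' (i' ≫ p) f inferInstance hsm' hcn' hs' (by rw [← Category.assoc, hf])

/-- Borel subgroups are carried by isomorphisms of groups. -/
theorem isBorelOver_map {B G G' : Over (Spec (CommRingCat.of k))} [GrpObj B] [GrpObj G] [GrpObj G']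
    {b : B ⟶ G} (e : G ⟶ G') [IsMonHom e] [IsIso e] (hb : Red.IsBorelOver k b) :
    Red.IsBorelOver k (b ≫ e) := by
  obtain ⟨hm, hc, hsm, hcn, hs, hmax⟩ := hb
  have := hm
  have := hc
  have : IsIso e.left := inferInstanceAs (IsIso ((Over.forget _).map e))
  have : IsIso (inv e).left := inferInstanceAs (IsIso ((Over.forget _).map (inv e)))
  have : IsMonHom (inv e ≫ e) := by rw [IsIso.inv_hom_id]; infer_instance
  have : IsMonHom (inv e) := isMonHom_of_comp_mono (inv e) e
  refine ⟨inferInstance, by rw [Over.comp_left]; infer_instance, hsm, hcn, hs,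
    fun B' _ i' _ f hc' hsm' hcn' hs' hf => ?_⟩
  have := hc'
  have : IsClosedImmersion (i' ≫ inv e).left := by rw [Over.comp_left]; infer_instance
  exact hmax B' (i' ≫ inv e) f inferInstance hsm' hcn' hs' (by
    rw [← Category.assoc, hf, Category.assoc, IsIso.hom_inv_id, Category.comp_id])

/-- The points of a closed subgroup are closed for the Zariski topology. -/
theorem ptsOf_closed {A : Type u} [CommRing A] [HopfAlgebra k A] {H : Over (Spec (CommRingCat.of k))} [GrpObj H]
    (h : H ⟶ sp k A) [IsMonHom h] [IsClosedImmersion h.left] (g : Pt k A k)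
    (hg : ∀ a ∈ vanIdeal (ptsOf h), g.ofConv a = 0) : g ∈ ptsOf h := by
  have : IsAffine (sp k A).left := isAffine_Spec _
  have hAff : IsAffine H.left := isAffine_of_isAffineHom h.left
  obtain ⟨B, _, _, ⟨t⟩⟩ := exists_hopf H
  let e : sp k B ≅ H := (Grp.forget _).mapIso t
  obtain ⟨φ, hφ⟩ := exists_eq_spMap (e.hom ≫ h)
  have he : IsIso e.hom.left := inferInstanceAs (IsIso ((Over.forget _).map e.hom))
  have : IsClosedImmersion (spMap φ).left := by rw [← hφ, Over.comp_left]; infer_instance
  have hsurj : Function.Surjective φ := by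
    have h2 := (@IsClosedImmersion.isAffine_surjective_of_isAffine _ _ (isAffine_Spec _) (spMap φ).left this).2
    intro b
    obtain ⟨a, ha⟩ := h2 ((Scheme.ΓSpecIso (CommRingCat.of B)).inv b)
    refine ⟨(Scheme.ΓSpecIso (CommRingCat.of A)).hom a, ?_⟩
    have h3 : φ.toRingHom ((Scheme.ΓSpecIso (CommRingCat.of A)).hom a) =
        (Scheme.ΓSpecIso (CommRingCat.of B)).hom ((Spec.map (CommRingCat.ofHom φ.toRingHom)).appTop a) :=
      (ConcreteCategory.congr_hom (Scheme.ΓSpecIso_naturality (CommRingCat.ofHom φ.toRingHom)) a).symm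
    refine h3.trans ?_
    erw [ha]
    exact (Scheme.ΓSpecIso (CommRingCat.of B)).commRingCatIsoToRingEquiv.apply_symm_apply b
  have hker : ∀ a, φ a = 0 → g.ofConv a = 0 := fun a ha => hg a ((mem_vanIdeal _).mpr fun g' hg' => by
    obtain ⟨x, hx⟩ := hg'
    obtain ⟨ψ, hψ⟩ := exists_eq_spMap (x ≫ e.inv)
    have : g'.ofConv = ψ.comp φ := spMap_injective (by rw [← spMap_comp, ← hψ, ← hφ, ← hx]; simp)
    rw [this, AlgHom.comp_apply, ha, map_zero])
  exact ⟨spMap (AlgHom.liftOfSurjective φ hsurj g.ofConv fun a ha => hker a ha) ≫ e.hom, by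
    rw [Category.assoc, hφ, spMap_comp, AlgHom.liftOfSurjective_comp]⟩

end General

section Torus

variable {k : Type u} [Field k] {A : Type u} [CommRing A] [HopfAlgebra k A] {M : Type} [AddCommGroup M]
  (T : SplitTorus k A M)

omit [Field k] [CommRing A] in
theorem isAddTorsionFree_of_free [Module.Free ℤ M] : IsAddTorsionFree M :=
  IsAddTorsionFree.of_isTorsionFree ℤ M

theorem isDomain_laurent [IsAddTorsionFree M] [AddMonoid.FG M] : IsDomain k[M] := by
  infer_instance

/-- The comorphism of a split torus as a bialgebra map. -/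
noncomputable def torHom : A →ₐc[k] k[M] :=
  BialgHom.ofAlgHom T.π
    (AlgHom.ext fun a => by
      have h : (T.tor (1 : Multiplicative M →* k)).ofConv a = (1 : Pt k A k).ofConv a := by rw [map_one]
      refine Eq.trans ?_ (h.trans ?_)
      · show Coalgebra.counit (R := k) (T.π a) = AddMonoidAlgebra.lift k k M 1 (T.π a)
        induction T.π a using AddMonoidAlgebra.induction_linear with
        | zero => simp
        | add x y hx hy => simp [hx, hy]
        | single m r => simp [AddMonoidAlgebra.lift_single]
      · simp [AlgHom.convOne_def])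
    (AlgHom.ext fun a => by
      let l : k[M] →ₐ[k] k[M] ⊗[k] k[M] := Algebra.TensorProduct.includeLeft
      let r : k[M] →ₐ[k] k[M] ⊗[k] k[M] := Algebra.TensorProduct.includeRight
      have h := DFunLike.congr_fun (congrArg WithConv.ofConv
        (T.tor_mul (k[M] ⊗[k] k[M]) (l.toRingHom.toMonoidHom.comp (AddMonoidAlgebra.of k M))
          (r.toRingHom.toMonoidHom.comp (AddMonoidAlgebra.of k M)))) a
      have el : ∀ f : k[M] →ₐ[k] k[M] ⊗[k] k[M], AddMonoidAlgebra.lift k (k[M] ⊗[k] k[M]) M (f.toRingHom.toMonoidHom.comp (AddMonoidAlgebra.of k M)) = f :=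
        fun f => AddMonoidAlgebra.algHom_ext (fun m => by simp) (by ext)
      have em : AddMonoidAlgebra.lift k (k[M] ⊗[k] k[M]) M ((l.toRingHom.toMonoidHom.comp (AddMonoidAlgebra.of k M)) *
          (r.toRingHom.toMonoidHom.comp (AddMonoidAlgebra.of k M))) = Bialgebra.comulAlgHom k k[M] :=
        AddMonoidAlgebra.algHom_ext (fun m => by simp [l, r]) (by ext)
      simp only [torPt, WithConv.ofConv_toConv, em, el, AlgHom.comp_apply] at h
      refine Eq.trans ?_ h.symm
      rw [AlgHom.convMul_apply]
      simp only [AlgHom.comp_apply, WithConv.ofConv_toConv, Bialgebra.comulAlgHom_apply]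
      induction Coalgebra.comul (R := k) a using TensorProduct.induction_on with
      | zero => simp
      | tmul x y => simp [l, r]
      | add x y hx hy => simp only [map_add, hx, hy])

theorem torHom_coe : (torHom T : A →ₐ[k] k[M]) = T.π := rfl

/-- A torus point factors through the torus. -/
theorem spMap_tor (χ : Multiplicative M →* k) :
    spMap (AddMonoidAlgebra.lift k k M χ) ≫ spMap T.π = spMap (T.tor χ).ofConv := by
  rw [spMap_comp]; rfl

theorem isSolvable_torusPts :
    Group.IsSolvable (𝟙_ (Over (Spec (CommRingCat.of k))) ⟶ sp k k[M]) := by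
  refine Group.isSolvable_of_comm fun x y => ?_
  obtain ⟨f, hf⟩ := exists_eq_spMap (AGFRoot.unitSp.inv ≫ x)
  obtain ⟨g, hg⟩ := exists_eq_spMap (AGFRoot.unitSp.inv ≫ y)
  have hc : spMap f * spMap g = spMap g * spMap f := by
    rw [spMap_mul, spMap_mul]
    refine congrArg spMap (AddMonoidAlgebra.algHom_ext (fun m => ?_) (by ext))
    show (toConv f * toConv g) (AddMonoidAlgebra.single m 1) = (toConv g * toConv f) (AddMonoidAlgebra.single m 1)
    rw [AlgHom.convMul_apply, AlgHom.convMul_apply]
    simp [mul_comm]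
  apply (cancel_epi AGFRoot.unitSp.inv).mp
  rw [MonObj.comp_mul, MonObj.comp_mul, hf, hg, hc]

end Torus

section Main

variable {k : Type u} [Field k] [IsAlgClosed k] {A : Type u} [CommRing A] [HopfAlgebra k A] [Algebra.Smooth k A]
  [IsDomain A] {M : Type} [AddCommGroup M] [Module.Free ℤ M] [Module.Finite ℤ M] (T : SplitTorus k A M)

/-- Inside a parabolic subgroup through the torus there is a Borel subgroup through the torus. -/
theorem exists_borel_torus {P B : Over (Spec (CommRingCat.of k))} [GrpObj P] [GrpObj B] (p : P ⟶ sp k A) [IsMonHom p]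
    [IsClosedImmersion p.left] [Smooth P.hom] (b : B ⟶ P) (hb : Red.IsBorelOver k (b ≫ p))
    (t : sp k k[M] ⟶ P) (ht : t ≫ p = spMap T.π) :
    ∃ b' : B ⟶ P, Red.IsBorelOver k (b' ≫ p) ∧ ∃ f : sp k k[M] ⟶ B, f ≫ b' ≫ p = spMap T.π := by
  have hAs : Smooth (sp k A).hom := (HasRingHomProperty.Spec_iff (P := @Smooth)).mpr
    (RingHom.smooth_algebraMap.mpr ‹_›)
  have : IsAffine (sp k A).left := isAffine_Spec _
  have : LocallyOfFiniteType P.hom := inferInstance
  have : IsAffine P.left := isAffine_of_isAffineHom p.left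
  have : Mono p.left := inferInstance
  have : Mono p := Over.mono_of_mono_left p
  obtain ⟨P₀, _, incl, _, _, hfl, hr, -, -⟩ := GrpSchLib.exists_identityComponent (G := P)
  have := hfl
  have : IsLocallyNoetherian P.left := LocallyOfFiniteType.isLocallyNoetherian P.hom
  have : LocallyOfFinitePresentation incl.left := inferInstance
  have : IsOpenImmersion incl.left := IsOpenImmersion.of_flat_of_mono incl.left
  have : Mono incl := Over.mono_of_mono_left incl
  have hP₀sm : Smooth P₀.hom := by rw [← Over.w incl]; infer_instance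
  have hP₀c : ConnectedSpace P₀.left := by
    have h1 : _root_.IsConnected (Set.range incl.left) := hr ▸ isConnected_connectedComponent
    rw [connectedSpace_iff_univ]
    refine ⟨?_, ?_⟩
    · obtain ⟨_, z, -⟩ := h1.nonempty
      exact ⟨z, trivial⟩
    · exact (incl.left.isClosedEmbedding.isInducing.isPreconnected_image).mp (Set.image_univ ▸ h1.isPreconnected)
  have : IsAffine P₀.left := isAffine_of_isAffineHom incl.left
  have : LocallyOfFiniteType P₀.hom := inferInstance
  -- the Borel subgroup lies in the identity component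
  have hBc : ConnectedSpace B.left := hb.2.2.2.1
  have hb' := isBorelOver_restrict b p hb
  have := hb'.1
  obtain ⟨b₀, hb₀⟩ := exists_factor_component incl hr b (apply_unit b)
  have hbB : Red.IsBorelOver k b₀ := isBorelOver_restrict b₀ incl (hb₀ ▸ hb')
  -- the torus lies in the identity component
  have : AddMonoid.FG M := AddGroup.fg_iff_addMonoid_fg.mp (Module.Finite.iff_addGroup_fg.mp inferInstance)
  have hft : LocallyOfFiniteType (sp k k[M]).hom := (HasRingHomProperty.Spec_iff (P := @LocallyOfFiniteType)).mpr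
    (RingHom.finiteType_algebraMap.mpr inferInstance)
  have : IsAddTorsionFree M := isAddTorsionFree_of_free
  have : IsDomain k[M] := isDomain_laurent
  have : IsIntegral (sp k k[M]).left := (affine_isIntegral_iff (CommRingCat.of k[M])).mpr inferInstance
  have : IsAffine (sp k k[M]).left := isAffine_Spec _
  have : Smooth (sp k k[M]).hom := GrpSchLib.smooth_of_isReduced_of_isAlgClosed _
  have : IsMonHom (spMap T.π) := (torHom_coe T) ▸ isMonHom_spMap (torHom T)
  have : IsMonHom (t ≫ p) := ht ▸ inferInstance
  have : IsMonHom t := isMonHom_of_comp_mono t p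
  obtain ⟨t₀, ht₀⟩ := exists_factor_component incl hr t (apply_unit t)
  have : IsMonHom (t₀ ≫ incl) := ht₀ ▸ inferInstance
  have : IsMonHom t₀ := isMonHom_of_comp_mono t₀ incl
  have : Group.IsSolvable (𝟙_ (Over (Spec (CommRingCat.of k))) ⟶ sp k k[M]) := isSolvable_torusPts
  -- conjugate the torus into it
  have := hbB.1
  have := hbB.2.1
  have := hbB.2.2.1
  obtain ⟨g, f, -, hf⟩ := exists_conj_factor b₀ (fun X a o hX => AGFRoot.isProper_of_isBorelOver hbB hX) t₀
  refine ⟨AGF.conjBy g b₀ ≫ incl, ?_, f, ?_⟩
  · have e : (AGF.conjBy g b₀ ≫ incl) ≫ p = AGF.conjBy (g ≫ incl ≫ p) (b ≫ p) := by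
      simp only [AGF.conjBy, MonObj.mul_comp, GrpObj.inv_comp, Category.assoc, ← hb₀]
    exact e ▸ AGFRoot.isBorelOver_conjBy hb _
  · rw [← ht, ← ht₀, ← hf]
    simp only [Category.assoc]

end Main

end Groth.Agent.ParLib
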