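import Groth.Agent.ParLib.ParRoots
import Groth.Agent.ParLib.ParGeom
import Groth.Agent.ParLib.ConeClosed

/-!
# A functional and a weight attached to a parabolic subgroup through the torus
-/

set_option autoImplicit false
set_option backward.isDefEq.respectTransparency false
set_option backward.isDefEq.respectTransparency.types false

universe u

open CategoryTheory CategoryTheory.Limits MonoidalCategory CartesianMonoidalCategory AlgebraicGeometry
open TensorProduct WithConv
open scoped AddMonoidAlgebra MonObj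

namespace Groth.Agent.ParLib

open BigCell29 RedRk29 GrpSchLib.AffineHopf

variable {k : Type u} [Field k] [IsAlgClosed k] {A : Type u} [CommRing A] [HopfAlgebra k A] [Algebra.Smooth k A]
  [IsDomain A] {M κ : Type} [AddCommGroup M] [Module.Free ℤ M] [Module.Finite ℤ M] [Fintype κ]
  (F : Frame k A M κ)

omit [IsAlgClosed k] [Algebra.Smooth k A] [IsDomain A] [Module.Free ℤ M] [Module.Finite ℤ M] [Fintype κ] in
theorem tor_mem_ptsOf {H : Over (Spec (CommRingCat.of k))} [GrpObj H] (h : H ⟶ sp k A) [IsMonHom h]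
    (t : sp k k[M] ⟶ H) (ht : t ≫ h = spMap F.T.π) (χ : Multiplicative M →* k) : F.T.tor χ ∈ ptsOf h :=
  ⟨spMap (AddMonoidAlgebra.lift k k M χ) ≫ t, by rw [Category.assoc, ht, spMap_tor]⟩

/-- The positive roots of a Borel subgroup through the torus inside a parabolic subgroup. -/
theorem exists_pos_functional {P B : Over (Spec (CommRingCat.of k))} [GrpObj P] [GrpObj B] (p : P ⟶ sp k A)
    [IsMonHom p] [IsClosedImmersion p.left] [Smooth P.hom] (b : B ⟶ P) (hb : Red.IsBorelOver k (b ≫ p))
    (t : sp k k[M] ⟶ P) (ht : t ≫ p = spMap F.T.π) (hne : ∀ i, F.root i ≠ 0) :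
    ∃ lam : M →+ ℤ, (∀ i, lam (F.root i) ≠ 0) ∧ ∀ i, 0 < lam (F.root i) → ∀ y, F.rt i y ∈ ptsOf p := by
  classical
  have : Algebra.FinitePresentation k A := Algebra.Smooth.finitePresentation
  have : Algebra.FiniteType k A := Algebra.FiniteType.of_finitePresentation
  obtain ⟨b', hb', f, hf⟩ := exists_borel_torus F.T p b hb t ht
  obtain ⟨hm, hc, hsm, hcn, hs, hmax⟩ := hb'
  generalize hh : b' ≫ p = h at hm hc hmax hf
  have := hm
  have := hc
  have := hcn
  have := hsm
  haveI : IsPreimmersion h.left := (@IsImmersion.instOfIsClosedImmersion _ _ h.left hc).toIsPreimmersion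
  haveI : Mono h.left := IsPreimmersion.instMonoScheme h.left
  haveI : Mono h := Over.mono_of_mono_left h
  obtain ⟨hclosed, hprime⟩ := exists_coordinates h hsm hcn
  haveI := isSolvable_ptsOf h hs
  obtain ⟨V, _, _, _, ρ, fl, n, hρ, hgen, hmono, hf0, hfn, hfr, hfl⟩ :=
    exists_flag_of_solvable (ptsOf h) hprime hclosed
  obtain ⟨W, _, _, _, π, v, hπ, hv, hst⟩ := exists_lineStab (ptsOf h) hclosed
  haveI : Smooth (sp k A).hom := (HasRingHomProperty.Spec_iff (P := @Smooth)).mpr
    (RingHom.smooth_algebraMap.mpr ‹_›)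
  haveI : IsAffine (sp k A).left := isAffine_Spec _
  haveI : IsIntegral (sp k A).left := (affine_isIntegral_iff (CommRingCat.of A)).mpr ‹_›
  haveI : LocallyOfFiniteType (sp k A).hom := inferInstance
  haveI : LocallyOfFiniteType B.hom := inferInstance
  haveI : IsAffine B.left := isAffine_of_isAffineHom h.left
  haveI : QuasiCompact B.hom := inferInstance
  have hquot : ∃ (X : Over (Spec (CommRingCat.of k))) (a : AlgGrp.Action (sp k A) X)
      (o : 𝟙_ (Over (Spec (CommRingCat.of k))) ⟶ X), AGF.IsQuotient h X a o := by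
    obtain ⟨X, a, o, h1, -, h2, h3, h4⟩ := GrpSchLib.HomogeneousQuot.exists_quot (sp k A) B h
    exact ⟨X, a, o, h1, h2, h3, h4⟩
  have hcl := isClosedOrbit_of_proper h
    (fun X a o hX => AGFRoot.isProper_of_isBorelOver ⟨hm, hc, hsm, hcn, hs, hmax⟩ hX) hquot π hπ hv
    (fun g x hx => (hst g).mp ⟨x, hx⟩)
  -- every line of the orbit has triangular stabiliser
  have htri : ∀ q ∈ Cl (fun _ : Unit => π) (fun _ : Unit => v), Nondeg q →
      HasTri (fun _ : Unit => π) ρ q := by
    intro q hq hqn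
    obtain ⟨g, c, hgc⟩ := hcl.2 q hq hqn
    refine ⟨n, fun i => (fl i).map (ρ g), fun i j hij => Submodule.map_mono (hmono hij), by simp [hf0], ?_, ?_, ?_⟩
    · show (fl n).map (ρ g) = ⊤
      rw [hfn, Submodule.map_top]
      refine LinearMap.range_eq_top.mpr fun x => ⟨ρ g⁻¹ x, ?_⟩
      rw [← Module.End.mul_apply, ← map_mul, mul_inv_cancel, map_one, Module.End.one_apply]
    · intro i hi
      have hinj : Function.Injective (ρ g) := fun x y e => by
        have := congrArg (ρ g⁻¹) e
        simpa only [← Module.End.mul_apply, ← map_mul, inv_mul_cancel, map_one, Module.End.one_apply] using this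
      exact (Submodule.equivMapOfInjective _ hinj _).finrank_eq.symm.trans (hfr i hi)
    · intro s hs'
      obtain ⟨d, hd, hsq⟩ := hs' ()
      have hc0 : c () ≠ 0 := fun h0 => hqn () (by rw [hgc (), h0, zero_smul])
      have hmem : g⁻¹ * s * g ∈ ptsOf h := by
        refine (hst _).mpr ⟨d, hd, ?_⟩
        rw [hgc (), map_smul, smul_comm d (c ())] at hsq
        have h2 := smul_right_injective W hc0 hsq
        rw [map_mul, map_mul, Module.End.mul_apply, Module.End.mul_apply, h2, map_smul,
          ← Module.End.mul_apply, ← map_mul, inv_mul_cancel, map_one, Module.End.one_apply]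
      intro i w hw
      obtain ⟨z, hz, rfl⟩ := hw
      refine ⟨ρ (g⁻¹ * s * g) z, hfl _ hmem i z hz, ?_⟩
      rw [← Module.End.mul_apply, ← map_mul, ← Module.End.mul_apply, ← map_mul]
      congr 2
      group
  obtain ⟨m, hm⟩ := exists_weight F hπ hv fun χ => by
    obtain ⟨c, -, hc⟩ := (hst _).mp (tor_mem_ptsOf F h f hf χ)
    exact ⟨c, hc⟩
  obtain ⟨lam, hlam, hext⟩ := exists_ext_of_eig F (fun _ : Unit => π) hρ hgen (fun _ => hπ) hne hcl htri
    (y := fun _ => v) (my := fun _ => m) (orb_subset_cl _ _ ⟨1, 1, fun j => by simp⟩)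
    ⟨fun _ => hv, fun _ => hm⟩
  refine ⟨lam, hlam.1, fun i hi y => ?_⟩
  have h1 : F.rt i y ∈ ptsOf h :=
    (hst _).mpr ⟨1, one_ne_zero, by rw [hext.2.2 _ (rt_mem_posRt F lam hi y) (), one_smul]⟩
  obtain ⟨x, hx⟩ := h1
  exact ⟨x ≫ b', by rw [Category.assoc, hh]; exact hx⟩

/-- A weight pairing nonnegatively with the coroots of the roots of a closed subgroup through the torus. -/
theorem exists_weight_of_closed {P : Over (Spec (CommRingCat.of k))} [GrpObj P] (p : P ⟶ sp k A) [IsMonHom p]
    [IsClosedImmersion p.left] (t : sp k k[M] ⟶ P) (ht : t ≫ p = spMap F.T.π) :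
    ∃ m : M, ∀ q : OppPair F, (∀ y, F.rt q.a y ∈ ptsOf p) →
      0 ≤ q.cor m ∧ (q.cor m = 0 → ∀ y, F.rt q.a' y ∈ ptsOf p) := by
  have : Algebra.FinitePresentation k A := Algebra.Smooth.finitePresentation
  have : Algebra.FiniteType k A := Algebra.FiniteType.of_finitePresentation
  obtain ⟨W, _, _, _, π, v, hπ, hv, hst⟩ := exists_lineStab (ptsOf p) (ptsOf_closed p)
  obtain ⟨m, hm⟩ := exists_weight F hπ hv fun χ => by
    obtain ⟨c, -, hc⟩ := (hst _).mp (tor_mem_ptsOf F p t ht χ)
    exact ⟨c, hc⟩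
  refine ⟨m, fun q hq => ?_⟩
  have hfix := fix_of_stab F hπ hv (i := q.a) fun y => (hst _).mp (hq y)
  obtain ⟨h0, h1⟩ := OppPair.main F q hπ hv hm hfix
  exact ⟨h0, fun e y => (hst _).mpr ⟨1, one_ne_zero, by rw [h1 e y, one_smul]⟩⟩

end Groth.Agent.ParLib
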