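import Groth.Agent.ParLib.ParCover
import Groth.Agent.RedRk29.RankOneGlue
import Groth.Agent.RedRk29.Geom
import Groth.Agent.RedSub30.TypeRMain
import Groth.Agent.Obs28.Unip.Main

/-!
# The roots of a parabolic subgroup containing the torus
-/

set_option autoImplicit false
set_option backward.isDefEq.respectTransparency false
set_option backward.isDefEq.respectTransparency.types false

universe u

open CategoryTheory CategoryTheory.Limits MonoidalCategory CartesianMonoidalCategory AlgebraicGeometry
open TensorProduct WithConv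
open scoped AddMonoidAlgebra MonObj

namespace Groth.Agent.ParLib

open BigCell29 RedRk29 GrpSchLib.AffineHopf DSPtsLib

section Bridge

variable {S : Scheme.{u}} {R : Type u} [CommRing R] {f : Spec (CommRingCat.of R) ⟶ S} {G P : Over S} [GrpObj G]
  (p : P ⟶ G) {A : Type u} [CommRing A] [HopfAlgebra R A] (Md : Model f G A)

/-- The points of a subgroup in a model are those of the subgroup scheme. -/
theorem exists_comp_eq_iff {B : Type u} [CommRing B] [Algebra R B] (g : Pt R A B) :
    (∃ x : sp R B ⟶ Red.bc f P, x ≫ (Over.pullback f).map p ≫ Md.inv = spMap g.ofConv) ↔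
      ∃ y : tObj f B ⟶ P, y ≫ p = Md.pt g := by
  constructor
  · rintro ⟨x, hx⟩
    refine ⟨theta f x, (theta_map f x p).symm.trans ((congrArg (theta f) ?_).trans (Md.pt_eq g).symm)⟩
    rw [← hx, Category.assoc, Category.assoc, Md.inv_hom, Category.comp_id]
  · rintro ⟨y, hy⟩
    obtain ⟨x, hx⟩ := (theta_bijective (Y := sp R B) (H := P) f).surjective y
    replace hx : theta f x = y := hx
    refine ⟨x, ?_⟩
    have h1 : x ≫ (Over.pullback f).map p = spMap g.ofConv ≫ Md.hom := by
      refine (theta_bijective (Y := sp R B) (H := G) f).injective ?_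
      show theta f _ = theta f _
      rw [theta_map, hx, hy]
      rfl
    rw [reassoc_of% h1, Md.hom_inv, Category.comp_id]

end Bridge

variable {S : Scheme.{u}} [ConnectedSpace S] {G P : Over S} [GrpObj G] [GrpObj P] (D : Red.SplitRed G)
  {R' : Set D.idx} (p : P ⟶ G)

/-- The functional and the weight of the roots of a parabolic subgroup containing the torus. -/
theorem exists_lam_weight (hP : Red.IsParabolic p) (tP : D.T ⟶ P) (htP : tP ≫ p = D.i)
    (hR' : ∀ a : D.idx, (∃ v : Red.Ga S ⟶ P, v ≫ p = D.u a) ↔ a ∈ R') :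
    (∃ lam : D.M →+ ℤ, (∀ i, lam (D.P.root i) ≠ 0) ∧ ∀ i, 0 < lam (D.P.root i) → i ∈ R') ∧
      ∃ m : D.M, ∀ i ∈ R', 0 ≤ D.P.coroot' i m ∧ (D.P.coroot' i m = 0 → negIdx D i ∈ R') := by
  classical
  obtain ⟨hpm, hpc, hps, hpar⟩ := hP
  obtain ⟨s⟩ : Nonempty S := inferInstance
  obtain ⟨haff, hsm, hfib⟩ := D.reductive
  obtain ⟨hX1, hX2, hX3, hX4⟩ := hfib s
  let K := AlgebraicClosure (S.residueField s)
  let f := Red.geomPt s
  haveI := haff
  obtain ⟨A, _, _, ⟨Md⟩⟩ := exists_model (R := K) f G
  haveI : Algebra.Smooth K A := Md.smooth hsm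
  haveI : IsDomain A := by
    haveI := hX1
    haveI := hX2
    haveI := hX3
    haveI := Obs28.Unip.isIntegral_grp (G := Red.geomFibre s G)
    have hIso : IsIso Md.hom.left := inferInstance
    haveI : Nonempty (Spec (CommRingCat.of A)) :=
      ⟨(inv (Md.hom.left : Spec (CommRingCat.of A) ⟶ (Red.geomFibre s G).left)).base
        (Classical.choice inferInstance)⟩
    exact (affine_isIntegral_iff (CommRingCat.of A)).mp
      (@isIntegral_of_isOpenImmersion (Spec (CommRingCat.of A)) (Red.geomFibre s G).left Md.hom.left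
        (@IsOpenImmersion.of_isIso _ _ Md.hom.left hIso) inferInstance inferInstance)
  haveI : Algebra.FinitePresentation K A := Algebra.Smooth.finitePresentation
  haveI : Algebra.FiniteType K A := Algebra.FiniteType.of_finitePresentation
  have hdim : ringKrullDim A = ((Module.finrank ℤ D.M + Fintype.card D.idx : ℕ) : WithBot ℕ∞) := by
    rw [← D.dim_fibre s, ← PrimeSpectrum.topologicalKrullDim_eq_ringKrullDim]
    exact (Scheme.homeoOfIso (asIso
      (Md.hom.left : Spec (CommRingCat.of A) ⟶ (Red.geomFibre s G).left))).isHomeomorph.topologicalKrullDim_eq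
  let F : Frame K A D.M D.idx :=
    { Md.preFrame D with
      cot := fun x h0 hT hu => PreFrame.cot_of_dim (Md.preFrame D) (fun i => D.P.ne_zero i)
        (fun q hq => ⟨K, inferInstance, inferInstance,
          (show RingHom.ker (algebraMap K K) = q by
            rw [(Ideal.eq_bot_or_top q).resolve_right hq.ne_top]
            exact (RingHom.ker_eq_bot_iff_eq_zero _).mpr fun _ h => h),
          ((ringKrullDim_eq_of_ringEquiv (Algebra.TensorProduct.lid K A).toRingEquiv).trans hdim).le⟩)
        x h0 hT hu }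
  -- an affine piece of the base around the point
  obtain ⟨U, hU, hsU, -⟩ := exists_isAffineOpen_mem_and_subset (X := S) (U := ⊤) (x := s) trivial
  haveI : IsOpenImmersion hU.fromSpec := hU.isOpenImmersion_fromSpec
  have hrange : Set.range (Red.geomPt s).base ⊆ Set.range hU.fromSpec.base := by
    rintro _ ⟨x, rfl⟩
    rw [hU.range_fromSpec]
    rwa [show (Red.geomPt s).base x = s from Scheme.fromSpecResidueField_apply s _]
  obtain ⟨α, hα⟩ := Spec.map_surjective (IsOpenImmersion.lift hU.fromSpec (Red.geomPt s) hrange)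
  have hαf : Spec.map α ≫ hU.fromSpec = Red.geomPt s := by rw [hα]; exact IsOpenImmersion.lift_fac _ _ _
  -- the subgroup in the model
  obtain ⟨hm', hc', hs', B, _, b, hb⟩ := hpar s
  haveI := hm'
  haveI := hc'
  haveI : IsMonHom Md.inv := Md.e.inv.hom.isMonHom_hom
  haveI : IsIso Md.inv := ⟨Md.hom, Md.inv_hom, Md.hom_inv⟩
  haveI : IsIso Md.inv.left := inferInstanceAs (IsIso ((Over.forget _).map Md.inv))
  let h : Red.bc f P ⟶ sp K A := (Over.pullback f).map p ≫ Md.inv
  haveI : IsMonHom h := inferInstanceAs (IsMonHom ((Over.pullback f).map p ≫ Md.inv))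
  haveI : IsClosedImmersion h.left := by
    show IsClosedImmersion ((Over.pullback f).map p ≫ Md.inv).left
    rw [Over.comp_left]; infer_instance
  have hin : ∀ g : Pt K A K, g ∈ ptsOf h ↔ ∃ y : tObj f K ⟶ P, y ≫ p = Md.pt g := fun g =>
    exists_comp_eq_iff p Md g
  have hrt : ∀ i (y : K), Md.pt (F.rt i y) = rtG D i y := fun i y => Md.pt_linePt D i y
  have hfull : ∀ i ∈ R', ∀ y, F.rt i y ∈ ptsOf h := fun i hi y => by
    obtain ⟨v, hv⟩ := (hR' i).mpr hi
    exact (hin _).mpr ⟨gaPt f y ≫ v, by rw [Category.assoc, hv, hrt]; rfl⟩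
  have hnone : ∀ i, F.rt i (1 : K) ∈ ptsOf h → i ∈ R' := by
    intro i hi
    by_contra hiR
    obtain ⟨y, hy⟩ := (hin _).mp hi
    haveI := hpm
    haveI := hpc
    haveI := hps
    obtain ⟨A₀, _, _, ⟨Md₀⟩⟩ := exists_model (R := Γ(S, U)) hU.fromSpec G
    letI : Algebra Γ(S, U) K := α.hom.toAlgebra
    have e : Spec.map (CommRingCat.ofHom (algebraMap Γ(S, U) K)) ≫ hU.fromSpec =
        Spec.map (CommRingCat.ofHom (algebraMap K K)) ≫ f := by
      rw [Algebra.algebraMap_self, CommRingCat.ofHom_id, Spec.map_id, Category.id_comp]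
      exact hαf
    refine one_ne_zero (α := K) (RedSub30.eq_zero_of_notMem D p tP htP hR' Md₀ hiR
      ⟨tCongr e ≫ y, ?_⟩)
    rw [Category.assoc, hy, hrt, tCongr_rtG, Md₀.pt_rt]
  obtain ⟨t, ht⟩ : ∃ t : sp K K[D.M] ⟶ Red.bc f P, t ≫ h = spMap F.T.π := by
    have e : (F.T.tor (univChar K D.M)).ofConv = F.T.π := by
      show (AddMonoidAlgebra.lift K K[D.M] D.M (univChar K D.M)).comp F.T.π = F.T.π
      rw [show AddMonoidAlgebra.lift K K[D.M] D.M (univChar K D.M) = AlgHom.id K K[D.M] from
        AddMonoidAlgebra.algHom_ext (fun m => by simp) (by ext), AlgHom.id_comp]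
    rw [← e]
    refine (exists_comp_eq_iff p Md _).mpr ⟨chPt f (univChar K D.M) ≫ D.split.inv.hom.hom ≫ tP, ?_⟩
    rw [Category.assoc, Category.assoc, htP, pt_torF D Md (F := F) rfl]
    rfl
  refine ⟨?_, ?_⟩
  · haveI := hs'
    have hb' := isBorelOver_map (b := b ≫ (Over.pullback f).map p) Md.inv hb
    obtain ⟨lam, hl, hpos⟩ := exists_pos_functional F h b (by rwa [Category.assoc] at hb') t ht
      (fun i => D.P.ne_zero i)
    exact ⟨lam, hl, fun i hi => hnone i (hpos i hi 1)⟩
  · obtain ⟨m, hm⟩ := exists_weight_of_closed F h t ht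
    refine ⟨m, fun i hi => ?_⟩
    obtain ⟨c, hc⟩ := exists_dualAt (f := hU.fromSpec) D i
    have hc2 : DualAt D i f (α.hom (c : Γ(S, U))) := DualAt.map D i hc α.hom hαf
    let q : OppPair F :=
      { a := i
        a' := negIdx D i
        cor := (D.P.coroot' i).toAddMonoidHom
        c := α.hom (c : Γ(S, U))
        c_ne := (c.isUnit.map α.hom).ne_zero
        rel := fun x y v hv => Md.pt_bijective.injective (by
          rw [Md.pt_mul, Md.pt_mul, Md.pt_mul, hrt, hrt, hrt, hrt, pt_torF D Md (F := F) rfl]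
          exact hc2 K x y v (by rw [Algebra.algebraMap_self, RingHom.id_apply]; exact hv)) }
    obtain ⟨h0, h1⟩ := hm q (hfull i hi)
    exact ⟨h0, fun e => hnone _ (h1 e 1)⟩

end Groth.Agent.ParLib
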