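import Groth.Agent.ParLib.LineStab
import Groth.Agent.RedRk29.RankOneRing
import Groth.Agent.RedRk29.Conj

/-!
# The roots of a subgroup of points containing the torus, from a line it stabilises
-/

set_option autoImplicit false

universe u

open TensorProduct WithConv Polynomial

namespace Groth.Agent.ParLib

open BigCell29 RedRk29

variable {M ι : Type} [AddCommGroup M] [Module.Free ℤ M] [Module.Finite ℤ M] [Fintype ι]
variable {k : Type u} [Field k] [IsAlgClosed k] {A : Type u} [CommRing A] [HopfAlgebra k A]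
variable (F : Frame k A M ι)

omit [Fintype ι] in
/-- The polynomial identity behind rank one: degrees are bounded by the weight. -/
theorem natDegree_le_of_laurent {q P : k[X]} {y : k} (hy : y ≠ 0) {n : ℤ}
    (h : ∀ w : k, w ≠ 0 → P.eval w = w ^ n * q.eval (y / w)) (hq : q ≠ 0) : (q.natDegree : ℤ) ≤ n := by
  by_contra hlt
  push Not at hlt
  set d := q.natDegree
  obtain ⟨D, hD⟩ : ∃ D : ℕ, (D : ℤ) = (d : ℤ) - n := ⟨((d : ℤ) - n).toNat, Int.toNat_of_nonneg (by omega)⟩
  let Q : k[X] := ∑ j ∈ Finset.range (d + 1), C (q.coeff j * y ^ j) * X ^ (d - j)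
  have hPQ : ∀ w : k, w ≠ 0 → (P * X ^ D).eval w = Q.eval w := by
    intro w hw
    rw [eval_mul, eval_pow, eval_X, h w hw, eval_eq_sum_range, eval_finsetSum, Finset.mul_sum, Finset.sum_mul]
    refine Finset.sum_congr rfl fun j hj => ?_
    rw [Finset.mem_range] at hj
    rw [eval_mul, eval_C, eval_pow, eval_X, div_pow]
    have e : w ^ n * w ^ D = w ^ (d - j) * w ^ j := by
      rw [← zpow_natCast w D, ← zpow_add₀ hw, hD, ← pow_add, Nat.sub_add_cancel (by omega), ← zpow_natCast]
      congr 1; ring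
    field_simp
    linear_combination (q.coeff j) * e
  have heq : P * X ^ D = Q := by
    refine eq_of_infinite_eval_eq _ _ ?_
    have : Infinite k := IsAlgClosed.instInfinite
    refine Set.Infinite.mono (fun w hw => hPQ w hw) ((Set.finite_singleton (0 : k)).infinite_compl)
  have h0 := congrArg (eval 0) heq
  rw [eval_mul, eval_pow, eval_X, zero_pow (by omega), mul_zero, eval_finsetSum] at h0
  rw [Finset.sum_eq_single d] at h0
  · simp only [eval_mul, eval_C, eval_pow, eval_X, Nat.sub_self, pow_zero, mul_one] at h0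
    rcases mul_eq_zero.mp h0.symm with h1 | h1
    · exact hq (leadingCoeff_eq_zero.mp h1)
    · exact hy (eq_zero_of_pow_eq_zero h1)
  · intro j hj hjd
    rw [Finset.mem_range] at hj
    simp [zero_pow (show d - j ≠ 0 by omega)]
  · intro hd
    exact absurd (Finset.self_mem_range_succ d) hd

omit [IsAlgClosed k] [Module.Free ℤ M] [Module.Finite ℤ M] [Fintype ι] in
theorem exists_coord_poly {W : Type u} [AddCommGroup W] [Module k W] {π : Pt k A k →* Module.End k W}
    (hπ : IsRegRep π) (i : ι) (v : W) (φ : W →ₗ[k] k) :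
    ∃ q : k[X], ∀ y, φ (π (F.rt i y) v) = q.eval y := by
  obtain ⟨a, ha⟩ := hπ.exists_coef v φ
  exact ⟨F.φ i a, fun y => by rw [ha]; simp [PreFrame.rt, linePt_apply, coe_aeval_eq_eval]⟩

omit [Fintype ι] [Module.Free ℤ M] [Module.Finite ℤ M] in
/-- A root group preserving a line fixes it. -/
theorem fix_of_stab {W : Type u} [AddCommGroup W] [Module k W] {π : Pt k A k →* Module.End k W}
    (hπ : IsRegRep π) {i : ι} {v : W} (hv : v ≠ 0) (h : ∀ y, ∃ c : k, c ≠ 0 ∧ π (F.rt i y) v = c • v) (y : k) :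
    π (F.rt i y) v = v := by
  obtain ⟨φ, hφ⟩ : ∃ φ : W →ₗ[k] k, φ v = 1 := by
    obtain ⟨φ, hφ⟩ : ∃ φ : Module.Dual k W, φ v ≠ 0 := by
      by_contra hall
      push Not at hall
      exact hv ((Module.forall_dual_apply_eq_zero_iff k v).mp hall)
    exact ⟨(φ v)⁻¹ • φ, by simp [hφ]⟩
  obtain ⟨q, hq⟩ := exists_coord_poly F hπ i v φ
  have hc : ∀ z, π (F.rt i z) v = q.eval z • v := fun z => by
    obtain ⟨c, -, e⟩ := h z
    rw [← hq, e, map_smul, hφ, smul_eq_mul, mul_one]
  have hne : ∀ z, q.eval z ≠ 0 := fun z h0 => by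
    obtain ⟨c, hc0, e⟩ := h z
    rw [hc, h0, zero_smul] at e
    exact hc0 ((smul_eq_zero.mp e.symm).resolve_right hv)
  have hdeg : q.degree = 0 := by
    by_contra hd
    obtain ⟨z, hz⟩ := IsAlgClosed.exists_root q hd
    exact hne z hz
  have h0 : q.eval 0 = 1 := by
    rw [← hq, F.rt_zero, map_one, Module.End.one_apply, hφ]
  rw [hc, eq_C_of_degree_eq_zero hdeg, eval_C]
  rw [eq_C_of_degree_eq_zero hdeg, eval_C] at h0
  rw [h0, one_smul]

/-- A pair of opposite roots with coroot and a nonzero scalar. -/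
structure OppPair where
  /-- the root -/
  a : ι
  /-- its opposite -/
  a' : ι
  /-- the coroot -/
  cor : M →+ ℤ
  /-- the scalar -/
  c : k
  c_ne : c ≠ 0
  rel : ∀ (x y : k) (v : kˣ), (v : k) = 1 + c * x * y →
    F.rt a x * F.rt a' y = F.rt a' (y * ↑v⁻¹) * F.T.tor (zchar cor v) * F.rt a (x * ↑v⁻¹)

omit [Fintype ι] in
/-- The weight of a fixed line pairs nonnegatively with the coroot, and vanishes exactly when
the opposite root group fixes it too. -/
theorem OppPair.main (p : OppPair F) {W : Type u} [AddCommGroup W] [Module k W] [Module.Finite k W]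
    {π : Pt k A k →* Module.End k W} (hπ : IsRegRep π) {v : W} (hv : v ≠ 0) {m : M} (hm : v ∈ Wt F π m)
    (hfix : ∀ y, π (F.rt p.a y) v = v) :
    0 ≤ p.cor m ∧ (p.cor m = 0 → ∀ y, π (F.rt p.a' y) v = v) := by
  have hcor : ∀ w : kˣ, π (F.T.tor (zchar p.cor w)) v = ((w : k) ^ p.cor m) • v := fun w => by
    rw [hm, zchar_apply, Units.val_zpow_eq_zpow_val]
  have key : ∀ φ : W →ₗ[k] k, ∀ q : k[X], (∀ y, φ (π (F.rt p.a' y) v) = q.eval y) → q ≠ 0 →
      (q.natDegree : ℤ) ≤ p.cor m := by
    intro φ q hq hq0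
    obtain ⟨P₀, hP₀⟩ := exists_coord_poly F hπ p.a (π (F.rt p.a' 1) v) φ
    refine natDegree_le_of_laurent (P := P₀.comp ((X - C 1) * C (p.c * 1)⁻¹)) (y := (1 : k)) one_ne_zero
      (fun w hw => ?_) hq0
    set x := (w - 1) * (p.c * 1)⁻¹
    have hx : (Units.mk0 w hw : k) = 1 + p.c * x * 1 := by
      have := p.c_ne
      simp only [Units.val_mk0, x]
      field_simp
      ring
    have e := congrArg (fun g => φ (π g v)) (p.rel x 1 (Units.mk0 w hw) hx)
    simp only [map_mul, Module.End.mul_apply] at e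
    rw [hfix, hcor, map_smul, map_smul, hP₀] at e
    rw [hq] at e
    simpa [x, eval_comp, div_eq_mul_inv, one_mul, smul_eq_mul] using e
  have h0 : ∀ φ : W →ₗ[k] k, φ v ≠ 0 → ∀ q : k[X], (∀ y, φ (π (F.rt p.a' y) v) = q.eval y) → q ≠ 0 :=
    fun φ hφ q hq e => hφ (by
      have := hq 0
      rwa [F.rt_zero, map_one, Module.End.one_apply, e, eval_zero] at this)
  constructor
  · obtain ⟨φ, hφ⟩ : ∃ φ : Module.Dual k W, φ v ≠ 0 := by
      by_contra hall
      push Not at hall
      exact hv ((Module.forall_dual_apply_eq_zero_iff k v).mp hall)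
    obtain ⟨q, hq⟩ := exists_coord_poly F hπ p.a' v φ
    have := key φ q hq (h0 φ hφ q hq)
    omega
  · intro hn y
    refine sub_eq_zero.mp ((Module.forall_dual_apply_eq_zero_iff k _).mp fun φ => ?_)
    obtain ⟨q, hq⟩ := exists_coord_poly F hπ p.a' v φ
    by_cases hq0 : q = 0
    · have := hq 0
      rw [F.rt_zero, map_one, Module.End.one_apply] at this
      rw [map_sub, hq, this, hq0, eval_zero, eval_zero, sub_zero]
    · have hle := key φ q hq hq0
      rw [hn] at hle
      have hd : q.natDegree = 0 := by omega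
      have := hq 0
      rw [F.rt_zero, map_one, Module.End.one_apply] at this
      rw [map_sub, hq, this, eq_C_of_natDegree_eq_zero hd, eval_C, eval_C, sub_self]

omit [Fintype ι] in
/-- A torus-stable line has a weight. -/
theorem exists_weight {W : Type u} [AddCommGroup W] [Module k W] [Module.Finite k W]
    {π : Pt k A k →* Module.End k W} (hπ : IsRegRep π) {v : W} (hv : v ≠ 0)
    (h : ∀ χ : Multiplicative M →* k, ∃ c : k, π (F.T.tor χ) v = c • v) : ∃ m : M, v ∈ Wt F π m := by
  classical
  have hS : (wt F hπ v).support.Nonempty := by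
    rw [Finsupp.support_nonempty_iff]
    intro e
    exact hv (by rw [← sum_wt F hπ v, e, Finsupp.sum_zero_index])
  obtain ⟨m, hm⟩ := hS
  have heq : ∀ n, wt F hπ v n ≠ 0 → n = m := by
    intro n hn
    refine eval_injective (k := k) (MonoidHom.ext fun χ => ?_)
    show χ (Multiplicative.ofAdd n) = χ (Multiplicative.ofAdd m)
    obtain ⟨c, hc⟩ := h χ
    have hl : ∀ l, χ (Multiplicative.ofAdd l) • wt F hπ v l = c • wt F hπ v l := by
      intro l
      have e := congrArg (comp F hπ l) hc
      rw [map_smul] at e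
      have e2 : comp F hπ l (π (F.T.tor χ) v) = χ (Multiplicative.ofAdd l) • wt F hπ v l := by
        rw [tor_eq_sum_wt F hπ v χ, Finsupp.sum, map_sum]
        rw [Finset.sum_eq_single l]
        · rw [map_smul, comp_of_mem F hπ (wt_mem F hπ v l), if_pos rfl]
        · intro l' _ hne
          rw [map_smul, comp_of_mem F hπ (wt_mem F hπ v l'), if_neg hne, smul_zero]
        · intro hnot
          rw [Finsupp.notMem_support_iff.mp hnot, smul_zero, map_zero]
      rw [← e2]
      exact e
    rw [smul_left_injective k hn (hl n), smul_left_injective k (Finsupp.mem_support_iff.mp hm) (hl m)]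
  refine ⟨m, ?_⟩
  rw [← sum_wt F hπ v, Finsupp.sum]
  exact Submodule.sum_mem _ fun l hl => heq l (Finsupp.mem_support_iff.mp hl) ▸ wt_mem F hπ v l

end Groth.Agent.ParLib
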