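import Groth.Prelude.Def_RedSub
import Groth.Agent.FpqcDescLib.Group

/-!
# The map of quotients `G/H ⟶ G/H'` becomes `G × H'/H ⟶ G` over `G`
-/

universe u
set_option maxHeartbeats 1000000
set_option linter.style.haveILetI false
set_option autoImplicit false
open AlgebraicGeometry CategoryTheory CategoryTheory.Limits MonoidalCategory CartesianMonoidalCategory MonObj

namespace Groth.Agent.ParLib

open FpqcDescLib

variable {S : Scheme.{u}} {G H H' : Over S} [GrpObj G] [GrpObj H] [GrpObj H']

theorem covers_of_isQuotient {iH : H ⟶ G} {Q : Over S} {q : G ⟶ Q} (h : RedSub.IsQuotient iH q) :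
    Covers q.left := by
  obtain ⟨h1, h2, h3, -⟩ := h
  exact covers_of_isCovering (isCovering_of_lfp q.left)

/-- Two descents of the same map with the same fibres are isomorphic. -/
theorem exists_iso_of_covers {P A B : Over S} {p : P ⟶ A} {p' : P ⟶ B} (h : Covers p.left) (h' : Covers p'.left)
    (he : ∀ (T : Over S) (a b : T ⟶ P), a ≫ p = b ≫ p ↔ a ≫ p' = b ≫ p') :
    ∃ c : A ≅ B, p ≫ c.hom = p' := by
  obtain ⟨g, hg, -⟩ := h.over_desc p' fun T a b => (he T a b).1
  obtain ⟨g', hg', -⟩ := h'.over_desc p fun T a b => (he T a b).2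
  have := h.over_epi
  have := h'.over_epi
  refine ⟨⟨g, g', ?_, ?_⟩, hg⟩
  · rw [← cancel_epi p, reassoc_of% hg, hg', Category.comp_id]
  · rw [← cancel_epi p', reassoc_of% hg', hg, Category.comp_id]

theorem exists_isPullback_fst (iH : H ⟶ G) (iH' : H' ⟶ G) [IsMonHom iH'] [Mono iH'] (e : H ⟶ H')
    (he : e ≫ iH' = iH) {X X' Y : Over S} (q : G ⟶ X) (hq : RedSub.IsQuotient iH q) (q' : G ⟶ X')
    (hq' : RedSub.IsQuotient iH' q') (f : X ⟶ X') (hf : q ≫ f = q') (r : H' ⟶ Y) (hr : RedSub.IsQuotient e r) :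
    ∃ Φ : G ⊗ Y ⟶ X, IsPullback (fst G Y) Φ q' f := by
  let a : G ⊗ H' ⟶ G := (G ◁ iH') ≫ μ[G]
  have ha : fst G H' ≫ q' = (a ≫ q) ≫ f := by
    rw [Category.assoc, hf]
    exact hq'.2.2.2.w
  let π : G ⊗ H' ⟶ pullback q' f := pullback.lift (fst G H') (a ≫ q) ha
  have hπ1 : π ≫ pullback.fst q' f = fst G H' := pullback.lift_fst _ _ _
  have hπ2 : π ≫ pullback.snd q' f = a ≫ q := pullback.lift_snd _ _ _
  have hsq : IsPullback π a (pullback.snd q' f) q := by
    have h1 : IsPullback a (π ≫ pullback.fst q' f) (q ≫ f) q' := by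
      rw [pullback.lift_fst, hf]
      exact hq'.2.2.2.flip
    exact (IsPullback.of_bot h1 (pullback.lift_snd _ _ _).symm
      (IsPullback.of_hasPullback q' f).flip).flip
  have hπ : Covers π.left := (covers_of_isQuotient hq).over_pullback _ _ _ hsq
  have hr' : Covers (G ◁ r).left := covers_whiskerLeft (covers_of_isQuotient hr) G
  have cq := isCosetMap_of_isPullback hq.2.2.2
  have cr := isCosetMap_of_isPullback hr.2.2.2
  have key : ∀ (T : Over S) (x y : T ⟶ G ⊗ H'), x ≫ (G ◁ r) = y ≫ (G ◁ r) ↔ x ≫ π = y ≫ π := by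
    intro T x y
    have hL : x ≫ (G ◁ r) = y ≫ (G ◁ r) ↔ x ≫ fst G H' = y ≫ fst G H' ∧
        (x ≫ snd G H') ≫ r = (y ≫ snd G H') ≫ r := by
      constructor
      · intro h
        exact ⟨by simpa using congrArg (· ≫ fst G Y) h, by simpa using congrArg (· ≫ snd G Y) h⟩
      · rintro ⟨h1, h2⟩
        apply CartesianMonoidalCategory.hom_ext
        · simpa using h1
        · simpa using h2
    have hR : x ≫ π = y ≫ π ↔ x ≫ fst G H' = y ≫ fst G H' ∧ (x ≫ a) ≫ q = (y ≫ a) ≫ q := by
      constructor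
      · intro h
        exact ⟨by simpa only [Category.assoc, hπ1] using congrArg (· ≫ pullback.fst q' f) h,
          by simpa only [Category.assoc, hπ2] using congrArg (· ≫ pullback.snd q' f) h⟩
      · rintro ⟨h1, h2⟩
        apply pullback.hom_ext
        · simpa only [Category.assoc, hπ1] using h1
        · simpa only [Category.assoc, hπ2] using h2
    have hA : ∀ z : T ⟶ G ⊗ H', z ≫ a = (z ≫ fst G H') * ((z ≫ snd G H') ≫ iH') := by
      intro z
      rw [Hom.mul_def, ← Category.assoc]
      congr 1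
      apply CartesianMonoidalCategory.hom_ext <;> simp
    rw [hL, hR, hA, hA]
    refine and_congr_right fun h1 => ?_
    rw [cr T, cq T, h1]
    refine exists_congr fun h => ?_
    constructor
    · intro h2
      rw [h2, MonObj.mul_comp, Category.assoc h e iH', he, _root_.mul_assoc]
    · intro h2
      rw [_root_.mul_assoc] at h2
      have h3 := mul_left_cancel h2
      rw [← he, ← Category.assoc, ← MonObj.mul_comp, cancel_mono] at h3
      exact h3
  obtain ⟨c, hc⟩ := exists_iso_of_covers hr' hπ key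
  refine ⟨c.hom ≫ pullback.snd q' f, IsPullback.of_iso (IsPullback.of_hasPullback q' f) c.symm
    (Iso.refl _) (Iso.refl _) (Iso.refl _) ?_ ?_ (by simp) (by simp)⟩
  · have := hr'.over_epi
    have h : c.hom ≫ pullback.fst q' f = fst G Y := by
      rw [← cancel_epi (G ◁ r), reassoc_of% hc, hπ1, whiskerLeft_fst]
    rw [← h]
    simp
  · simp

end Groth.Agent.ParLib
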