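import Groth.Prelude.Def_AGF
import Groth.Agent.RedRk29.Geom
import Mathlib.LinearAlgebra.RootSystem.Finite.Lemmas
import Mathlib.LinearAlgebra.RootSystem.Finite.CanonicalBilinear

/-!
# Exponents of an isogeny of root data on long roots
-/

set_option autoImplicit false

universe u v

namespace Groth.Agent.ParLib

variable {ι : Type u} [Fintype ι] {ι' : Type v} {M M' : Type} [AddCommGroup M] [AddCommGroup M']
  {P : RootPairing ι ℤ M (Module.Dual ℤ M)} {P' : RootPairing ι' ℤ M' (Module.Dual ℤ M')}

/-- One reflection takes a root to another. -/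
def ReflStep (P : RootPairing ι ℤ M (Module.Dual ℤ M)) (i j : ι) : Prop := ∃ b, j = P.reflectionPerm b i

/-- The squared length of a root for the canonical form. -/
noncomputable def sqLen (P : RootPairing ι ℤ M (Module.Dual ℤ M)) (i : ι) : ℤ :=
  P.RootForm (P.root i) (P.root i)

theorem sqLen_pos (i : ι) : 0 < sqLen P i := by
  rw [sqLen, RootPairing.rootForm_root_self]
  exact Finset.sum_pos' (fun j _ => mul_self_nonneg _) ⟨i, Finset.mem_univ i, by rw [P.pairing_same]; norm_num⟩

theorem sqLen_swap (i j : ι) : P.pairing i j * sqLen P j = P.pairing j i * sqLen P i := by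
  have key : ∀ i j, 2 * P.RootForm (P.root i) (P.root j) = P.pairing i j * sqLen P j := fun i j => by
    have h := P.rootForm_reflection_reflection_apply j (P.root i) (P.root j)
    rw [RootPairing.reflection_apply_self, RootPairing.reflection_apply_root] at h
    simp only [map_sub, map_neg, LinearMap.sub_apply, LinearMap.neg_apply, map_smul, LinearMap.smul_apply,
      smul_eq_mul] at h
    rw [sqLen]
    linarith
  rw [← key, ← key]
  simp only [RootPairing.rootForm_apply_apply]
  exact congrArg _ (Finset.sum_congr rfl fun l _ => mul_comm _ _)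

theorem sqLen_eq_of_reach {a d : ι} (h : Relation.ReflTransGen (ReflStep P) a d) : sqLen P d = sqLen P a := by
  induction h with
  | refl => rfl
  | tail _ hbc ih =>
    obtain ⟨b, rfl⟩ := hbc
    rw [← ih, sqLen, sqLen, RootPairing.root_reflectionPerm, RootPairing.rootForm_reflection_reflection_apply]

variable [Module.IsTorsionFree ℤ M] [P.IsReduced]

theorem pos_smul_root_eq {i j : ι} {m n : ℤ} (hm : 0 < m) (hn : 0 < n) (h : m • P.root i = n • P.root j) :
    i = j ∧ m = n := by
  have hdep : ¬ LinearIndependent ℤ ![P.root i, P.root j] := fun hL => by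
    have := (LinearIndependent.pair_iff.mp hL m (-n) (by rw [h, neg_smul, add_neg_cancel])).1
    omega
  rcases RootPairing.IsReduced.eq_or_eq_neg i j hdep with he | he
  · have hij := P.root.injective he
    subst hij
    exact ⟨rfl, smul_left_injective ℤ (P.ne_zero i) h⟩
  · rw [he, smul_neg, ← neg_smul] at h
    have := smul_left_injective ℤ (P.ne_zero j) h
    omega

variable {p : ℕ} [Fact p.Prime] (ρ : AGF.RootIsog P P' p)

omit [Module.IsTorsionFree ℤ M] [P.IsReduced] in
theorem exponent_pos (a : ι) : 0 < ρ.q a := by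
  obtain ⟨m, hm⟩ := ρ.q_pow a
  rw [hm]
  exact pow_pos (Fact.out (p := p.Prime)).pos m

omit [Module.IsTorsionFree ℤ M] [P.IsReduced] in
theorem exponent_pairing (hP : P.toLinearMap = Module.Dual.eval ℤ M) (hP' : P'.toLinearMap = Module.Dual.eval ℤ M')
    (a b : ι) : (ρ.q b : ℤ) * P'.pairing (ρ.e a) (ρ.e b) = (ρ.q a : ℤ) * P.pairing a b := by
  have h := LinearMap.congr_fun (ρ.coroot b) (P'.root (ρ.e a))
  rw [LinearMap.comp_apply, ρ.root, map_smul, LinearMap.smul_apply, smul_eq_mul, smul_eq_mul] at h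
  rw [← P'.root_coroot_eq_pairing, ← P.root_coroot_eq_pairing, hP, hP']
  exact h.symm

theorem exponent_reflect (hP : P.toLinearMap = Module.Dual.eval ℤ M)
    (hP' : P'.toLinearMap = Module.Dual.eval ℤ M') (a b : ι) : ρ.q (P.reflectionPerm b a) = ρ.q a := by
  obtain ⟨c, hc⟩ := ρ.e.surjective (P'.reflectionPerm (ρ.e b) (ρ.e a))
  have h : (ρ.q c : ℤ) • P.root c = (ρ.q a : ℤ) • P.root (P.reflectionPerm b a) := by
    rw [← ρ.root c, hc, RootPairing.root_reflectionPerm, RootPairing.reflection_apply_root, map_sub, map_smul,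
      ρ.root, ρ.root, RootPairing.root_reflectionPerm, RootPairing.reflection_apply_root, smul_sub, smul_smul,
      smul_smul, mul_comm _ (ρ.q b : ℤ), exponent_pairing ρ hP hP']
  obtain ⟨h1, h2⟩ := pos_smul_root_eq (by exact_mod_cast exponent_pos ρ c) (by exact_mod_cast exponent_pos ρ a) h
  rw [← h1]
  exact_mod_cast h2

theorem exponent_eq_of_reach (hP : P.toLinearMap = Module.Dual.eval ℤ M)
    (hP' : P'.toLinearMap = Module.Dual.eval ℤ M') {a d : ι} (h : Relation.ReflTransGen (ReflStep P) a d) :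
    ρ.q d = ρ.q a := by
  induction h with
  | refl => rfl
  | tail _ hbc ih =>
    obtain ⟨b, rfl⟩ := hbc
    rw [exponent_reflect ρ hP hP', ih]

omit [Module.IsTorsionFree ℤ M] in
theorem natAbs_pairing_cases [CharZero ℤ] [P.IsCrystallographic] {i j : ι} (hne : P.root i ≠ P.root j)
    (hne' : P.root i ≠ -P.root j) (h0 : P.pairing i j ≠ 0) :
    (P.pairing i j).natAbs ≤ 3 ∧ ((P.pairing i j).natAbs = 1 ∨ (P.pairing j i).natAbs = 1) := by
  have h := P.pairingIn_pairingIn_mem_set_of_isCrystal_of_isRed' i j hne hne'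
  have e : ∀ i j, P.pairingIn ℤ i j = P.pairing i j := fun i j => by
    have h := P.algebraMap_pairingIn ℤ i j
    simpa using h
  rw [e, e] at h
  simp only [Set.mem_insert_iff, Set.mem_singleton_iff, Prod.mk.injEq] at h
  rcases h with h | h | h | h | h | h | h | h | h | h | h <;> obtain ⟨h1, h2⟩ := h <;> simp_all

/-- An exponent one somewhere forces exponent one on the long roots. -/
theorem exponent_eq_one_of_long [P.IsCrystallographic] (hP : P.toLinearMap = Module.Dual.eval ℤ M)
    (hP' : P'.toLinearMap = Module.Dual.eval ℤ M')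
    (hirr : ∀ a c : ι, ∃ d, Relation.ReflTransGen (ReflStep P) a d ∧ P.pairing c d ≠ 0)
    (h1 : ∃ c, ρ.q c = 1) (a : ι) (hlong : ∃ b, P.pairing a b = -(p : ℤ) ∧ P.pairing b a = -1) : ρ.q a = 1 := by
  obtain ⟨c, hc⟩ := h1
  obtain ⟨b, hab, hba⟩ := hlong
  obtain ⟨d, had, hcd⟩ := hirr a c
  obtain ⟨e, hbe, hce⟩ := hirr b c
  have hqd := exponent_eq_of_reach ρ hP hP' had
  have hLb := sqLen_swap (P := P) a b
  rw [hab, hba] at hLb
  have hp : (2 : ℤ) ≤ p := by exact_mod_cast (Fact.out (p := p.Prime)).two_le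
  have neg_eq : ∀ {i j : ι}, P.root i = -P.root j → i = P.reflectionPerm j j := fun h => P.root.injective (by
    rw [h, RootPairing.root_reflectionPerm, RootPairing.reflection_apply_self])
  by_cases h2 : P.root c = P.root d ∨ P.root c = -P.root d
  · rw [← hqd]
    rcases h2 with h | h
    · rw [← P.root.injective h, hc]
    · rw [neg_eq h, exponent_reflect ρ hP hP'] at hc
      exact hc
  obtain ⟨-, hcd1⟩ := natAbs_pairing_cases (fun h => h2 (Or.inl h)) (fun h => h2 (Or.inr h)) hcd
  rcases hcd1 with hk | hk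
  · have h3 := congrArg Int.natAbs (exponent_pairing ρ hP hP' c d)
    rw [Int.natAbs_mul, Int.natAbs_mul, Int.natAbs_natCast, Int.natAbs_natCast, hk, hqd, hc, mul_one] at h3
    exact Nat.eq_one_of_mul_eq_one_right h3
  by_cases hk' : (P.pairing c d).natAbs = 1
  · have h3 := congrArg Int.natAbs (exponent_pairing ρ hP hP' c d)
    rw [Int.natAbs_mul, Int.natAbs_mul, Int.natAbs_natCast, Int.natAbs_natCast, hk', hqd, hc, mul_one] at h3
    exact Nat.eq_one_of_mul_eq_one_right h3
  exfalso
  have hne : (P.pairing c d).natAbs ≠ 0 := by simpa using hcd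
  have hk2 : 2 ≤ (P.pairing c d).natAbs := by omega
  -- `c` would be longer than the long root
  have hLcd := congrArg Int.natAbs (sqLen_swap (P := P) c d)
  rw [Int.natAbs_mul, Int.natAbs_mul, hk, one_mul] at hLcd
  have hLe := sqLen_eq_of_reach hbe
  have hLd := sqLen_eq_of_reach had
  have hpos := sqLen_pos (P := P)
  have hc_big : 4 * sqLen P e ≤ sqLen P c := by
    have h4 : (sqLen P d).natAbs = (p : ℤ) * sqLen P e := by
      rw [Int.natAbs_of_nonneg (hpos d).le, hLd, hLe]
      linarith
    have h5 : ((P.pairing c d).natAbs : ℤ) * (sqLen P d).natAbs = sqLen P c := by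
      rw [← Int.natAbs_of_nonneg (hpos c).le]; exact_mod_cast hLcd
    rw [← h5, h4]
    nlinarith [hpos e, (show (2 : ℤ) ≤ ((P.pairing c d).natAbs : ℤ) by exact_mod_cast hk2)]
  by_cases h6 : P.root c = P.root e ∨ P.root c = -P.root e
  · have : sqLen P c = sqLen P e := by
      rcases h6 with h | h <;> simp [sqLen, h]
    linarith [hpos e]
  obtain ⟨hce1, -⟩ := natAbs_pairing_cases (fun h => h6 (Or.inl h)) (fun h => h6 (Or.inr h)) hce
  have hLce := sqLen_swap (P := P) c e
  have hne2 : P.pairing e c ≠ 0 := fun h0 => hce (P.pairing_eq_zero_iff.mp h0)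
  have h7 : |P.pairing c e| * sqLen P e = |P.pairing e c| * sqLen P c := by
    rw [← abs_of_pos (hpos e), ← abs_of_pos (hpos c), ← abs_mul, ← abs_mul, hLce]
  have h8 : |P.pairing c e| ≤ 3 := by rw [Int.abs_eq_natAbs]; exact_mod_cast hce1
  have h9 : 1 ≤ |P.pairing e c| := Int.one_le_abs hne2
  nlinarith [hpos e, hpos c]

end Groth.Agent.ParLib
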