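import Groth.Agent.ParLib.RootIsogQ
import Groth.Agent.ParLib.ParGeom
import Groth.Agent.ParLib.GrpPts
import Groth.Agent.RedRk29.RankOneGeom
import Groth.Agent.Rank2Red38.Commute
import Groth.Agent.Rank2Red38.NormalForm
import Groth.Agent.GrpSchLib.SepPoints
import Groth.Agent.GrpSchLib.DensePoints
import Groth.Agent.GrpSchLib.RankOneNonComm
import Groth.Agent.Obs28.Unip.Main

/-!
# The root system of a simple group is irreducible
-/

set_option autoImplicit false
set_option backward.isDefEq.respectTransparency false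
set_option backward.isDefEq.respectTransparency.types false

universe u

open CategoryTheory CategoryTheory.Limits MonoidalCategory CartesianMonoidalCategory AlgebraicGeometry
open TensorProduct WithConv
open scoped MonObj

namespace Groth.Agent.ParLib

open BigCell29 RedRk29 GrpSchLib.AffineHopf

section Orth

variable {J : Type} [Fintype J] {M : Type} [AddCommGroup M] [Module.IsTorsionFree ℤ M]
  {P : RootPairing J ℤ M (Module.Dual ℤ M)}

/-- Roots orthogonal to a whole reflection orbit are orthogonal to the others. -/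
theorem pairing_eq_zero_of_orbit {a i j : J}
    (hi : ∃ d, Relation.ReflTransGen (ReflStep P) a d ∧ P.pairing i d ≠ 0)
    (hj : ∀ d, Relation.ReflTransGen (ReflStep P) a d → P.pairing j d = 0) : P.pairing i j = 0 := by
  obtain ⟨d, hd, hid⟩ := hi
  by_contra hij
  have h := hj _ (hd.tail ⟨i, rfl⟩)
  rw [RootPairing.pairing_eq_zero_iff, ← P.root_coroot'_eq_pairing, RootPairing.root_reflectionPerm,
    RootPairing.reflection_apply_root, map_sub, map_smul, smul_eq_mul, P.root_coroot'_eq_pairing,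
    P.root_coroot'_eq_pairing] at h
  have h' : P.pairing d j - P.pairing d i * P.pairing i j = 0 := h
  rw [P.pairing_eq_zero_iff.mp (hj d hd), zero_sub, neg_eq_zero, mul_eq_zero] at h'
  rcases h' with h' | h'
  · exact hid (P.pairing_eq_zero_iff.mp h')
  · exact hij h'

end Orth

variable {k : Type u} [Field k] [IsAlgClosed k] {A : Type u} [CommRing A] [HopfAlgebra k A] [Algebra.Smooth k A]
  [IsDomain A] {M κ : Type} [AddCommGroup M] [Module.Free ℤ M] [Module.Finite ℤ M] [Fintype κ]
  (F : Frame k A M κ)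

/-- Every point is a product of root elements and torus points. -/
theorem mem_closure_gen (hne : ∀ i, F.root i ≠ 0) (g : Pt k A k) :
    g ∈ Subgroup.closure ((Set.range fun χ : Multiplicative M →* k => F.T.tor χ) ∪
      ⋃ i, Set.range fun x : k => F.rt i x) := by
  classical
  haveI : Algebra.FinitePresentation k A := Algebra.Smooth.finitePresentation
  set H := Subgroup.closure ((Set.range fun χ : Multiplicative M →* k => F.T.tor χ) ∪
    ⋃ i, Set.range fun x : k => F.rt i x)
  obtain ⟨lam, hlam, -⟩ := exists_perturb (0 : M →+ ℤ) (Set.finite_range F.root)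
  have hlam' : ∀ i, lam (F.root i) ≠ 0 := fun i => hlam _ ⟨i, rfl⟩ (hne i)
  obtain ⟨n, m, e, e', he⟩ := exists_signEnum F lam hlam'
  obtain ⟨c, hc, hcell⟩ := exists_cell_fn F lam he
  obtain ⟨g₁, h₁, h₂⟩ := exists_two_dense (A := A) hc g
  have hprod : ∀ {n : ℕ} (e : Fin n → κ) (x : Fin n → k), F.prodPt e x ∈ H := fun e x => by
    rw [Frame.prodPt]
    refine list_prod_mem fun z hz => ?_
    obtain ⟨l, rfl⟩ := List.mem_ofFn.mp hz
    exact Subgroup.subset_closure (Or.inr (Set.mem_iUnion.mpr ⟨e l, x l, rfl⟩))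
  have hcellmem : ∀ g : Pt k A k, g.ofConv c ≠ 0 → g ∈ H := fun g hg => by
    obtain ⟨y, χ, x, rfl⟩ := hcell g hg
    exact mul_mem (mul_mem (hprod _ _) (Subgroup.subset_closure (Or.inl ⟨χ, rfl⟩))) (hprod _ _)
  simpa using mul_mem (inv_mem (hcellmem g₁ h₁)) (hcellmem _ h₂)

omit [IsAlgClosed k] [Algebra.Smooth k A] [IsDomain A] [Module.Free ℤ M] [Module.Finite ℤ M] [Fintype κ] in
/-- A scheme morphism with points in a closed set of a quotient factors through it. -/
theorem exists_fac_vanIdeal [IsAlgClosed k] (C : Subgroup (Pt k A k))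
    (hC : ∀ g : Pt k A k, (∀ a ∈ vanIdeal C, g.ofConv a = 0) → g ∈ C)
    {X : Over (Spec (CommRingCat.of k))} [Smooth X.hom] (w : X ⟶ sp k A)
    (hw : ∀ x : sp k k ⟶ X, ∃ g ∈ C, x ≫ w = spMap g.ofConv) :
    ∃ l : X ⟶ sp k (A ⧸ vanIdeal C), l ≫ spMap (Ideal.Quotient.mkₐ k (vanIdeal C)) = w := by
  haveI : IsClosedImmersion (spMap (Ideal.Quotient.mkₐ k (vanIdeal C))).left :=
    IsClosedImmersion.spec_of_surjective
      (CommRingCat.ofHom (Ideal.Quotient.mkₐ k (vanIdeal C)).toRingHom) Ideal.Quotient.mk_surjective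
  refine GrpSchLib.DensePts.exists_fac (GrpSchLib.densePts_of_smooth (K := k) X) _ w fun x => ?_
  obtain ⟨g, hg, e⟩ := hw x
  exact ⟨spMap (qPt C ⟨g, hg⟩), (spMap_comp _ _).trans e.symm⟩

/-- Two families of root groups that commute, the second stable under the torus, both non-empty, give a proper
smooth connected normal subgroup. -/
theorem exists_normal_subgroup (hne : ∀ i, F.root i ≠ 0) (C₁ : Set κ) {a c : κ} (ha : a ∈ C₁) (hc : c ∉ C₁)
    (hcomm : ∀ i ∈ C₁, ∀ j ∉ C₁, ∀ x y : k, F.rt i x * F.rt j y = F.rt j y * F.rt i x) :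
    ∃ (N : Over (Spec (CommRingCat.of k))) (_ : GrpObj N) (n : N ⟶ sp k A) (_ : IsMonHom n),
      IsClosedImmersion n.left ∧ Smooth N.hom ∧ ConnectedSpace N.left ∧ AlgGrp.IsNormalHom n ∧
      ¬ Red.IsTrivialGrp N ∧ ¬ IsIso n := by
  classical
  haveI : Algebra.FinitePresentation k A := Algebra.Smooth.finitePresentation
  haveI : Algebra.FiniteType k A := Algebra.FiniteType.of_finitePresentation
  let H2 : Subgroup (Pt k A k) := Subgroup.closure {g | ∃ j ∉ C₁, ∃ y, g = F.rt j y}
  have hH2 : H2.Normal := ⟨fun h hh g => by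
    have hgen := mem_closure_gen F hne g
    have key : ∀ g ∈ ((Set.range fun χ : Multiplicative M →* k => F.T.tor χ) ∪ ⋃ i, Set.range fun x : k => F.rt i x),
        ∀ h ∈ H2, g * h * g⁻¹ ∈ H2 ∧ g⁻¹ * h * g ∈ H2 := by
      intro g hg h hh
      induction hh using Subgroup.closure_induction with
      | mem z hz =>
        obtain ⟨j, hj, y, rfl⟩ := hz
        rcases hg with ⟨χ, rfl⟩ | hg
        · have e : ∀ χ : Multiplicative M →* k, ∃ y', F.T.tor χ * F.rt j y * (F.T.tor χ)⁻¹ = F.rt j y' := fun χ =>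
            ⟨χ (Multiplicative.ofAdd (F.root j)) * y, by
              rw [mul_inv_eq_iff_eq_mul]; exact F.conj k j χ y⟩
          obtain ⟨y₁, h₁⟩ := e χ
          obtain ⟨y₂, h₂⟩ := e (χ.comp (-AddMonoidHom.id M).toMultiplicative)
          have hinv : F.T.tor (χ.comp (-AddMonoidHom.id M).toMultiplicative) = (F.T.tor χ)⁻¹ := by
            refine eq_inv_of_mul_eq_one_left ?_
            rw [← map_mul, ← map_one F.T.tor]
            congr 1
            refine MonoidHom.ext fun m => ?_
            show χ (Multiplicative.ofAdd (-m.toAdd)) * χ m = 1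
            rw [ofAdd_neg, ofAdd_toAdd, ← map_mul, inv_mul_cancel, map_one]
          rw [hinv, inv_inv] at h₂
          exact ⟨h₁ ▸ Subgroup.subset_closure ⟨j, hj, y₁, rfl⟩, h₂ ▸ Subgroup.subset_closure ⟨j, hj, y₂, rfl⟩⟩
        · obtain ⟨i, hi⟩ := Set.mem_iUnion.mp hg
          obtain ⟨x, rfl⟩ := hi
          have hj' : F.rt j y ∈ H2 := Subgroup.subset_closure ⟨j, hj, y, rfl⟩
          by_cases hi : i ∈ C₁
          · have e := hcomm i hi j hj x y
            refine ⟨?_, ?_⟩
            · rw [e, mul_inv_cancel_right]; exact hj'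
            · rw [_root_.mul_assoc, ← e, inv_mul_cancel_left]; exact hj'
          · have hi' : F.rt i x ∈ H2 := Subgroup.subset_closure ⟨i, hi, x, rfl⟩
            exact ⟨mul_mem (mul_mem hi' hj') (inv_mem hi'), mul_mem (mul_mem (inv_mem hi') hj') hi'⟩
      | one => simp
      | mul u v _ _ hu hv =>
        exact ⟨by simpa [_root_.mul_assoc] using mul_mem hu.1 hv.1, by simpa [_root_.mul_assoc] using mul_mem hu.2 hv.2⟩
      | inv u _ hu =>
        exact ⟨by simpa [_root_.mul_assoc] using inv_mem hu.1, by simpa [_root_.mul_assoc] using inv_mem hu.2⟩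
    suffices g * h * g⁻¹ ∈ H2 ∧ g⁻¹ * h * g ∈ H2 from this.1
    induction hgen using Subgroup.closure_induction generalizing h with
    | mem z hz => exact key z hz h hh
    | one => simpa using hh
    | mul u v _ _ hu hv =>
      exact ⟨by simpa [_root_.mul_assoc] using (hu _ (hv h hh).1).1, by simpa [_root_.mul_assoc] using (hv _ (hu h hh).2).2⟩
    | inv u _ hu => exact ⟨by simpa using (hu h hh).2, by simpa using (hu h hh).1⟩⟩
  let C : Subgroup (Pt k A k) := Subgroup.centralizer (H2 : Set (Pt k A k))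
  have hCn : C.Normal := Subgroup.normal_centralizer
  have hclosed : ∀ g : Pt k A k, (∀ x ∈ vanIdeal C, g.ofConv x = 0) → g ∈ C := by
    intro g hg
    refine Subgroup.mem_centralizer_iff.mpr fun h hh => ?_
    refine mul_inv_eq_iff_eq_mul.mp (pt_ext fun x => ?_)
    obtain ⟨b, hb⟩ := exists_conj h x
    have h0 : g.ofConv (b - x) = 0 := hg _ ((mem_vanIdeal C).mpr fun g' hg' => by
      rw [map_sub, ← hb, mul_inv_eq_iff_eq_mul.mpr (Subgroup.mem_centralizer_iff.mp hg' h hh), sub_self])
    rw [map_sub, sub_eq_zero, ← hb] at h0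
    exact h0
  haveI := isHopfIdeal_vanIdeal C
  let B := A ⧸ vanIdeal C
  let q := Bialgebra.Quotient.mkBialgHom (R := k) (vanIdeal C)
  let ι₀ : sp k B ⟶ sp k A := spMap (Ideal.Quotient.mkₐ k (vanIdeal C))
  haveI : IsMonHom ι₀ := isMonHom_spMap q
  haveI hι : IsClosedImmersion ι₀.left := IsClosedImmersion.spec_of_surjective
      (CommRingCat.ofHom (Ideal.Quotient.mkₐ k (vanIdeal C)).toRingHom) Ideal.Quotient.mk_surjective
  haveI : Algebra.FiniteType k B :=
    .of_surjective (Ideal.Quotient.mkₐ k (vanIdeal C)) Ideal.Quotient.mk_surjective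
  haveI : _root_.IsReduced B := ⟨fun x hx => by
    obtain ⟨y, rfl⟩ := Ideal.Quotient.mk_surjective x
    obtain ⟨n, hn⟩ := hx
    refine Ideal.Quotient.eq_zero_iff_mem.mpr ((mem_vanIdeal C).mpr fun g hg => ?_)
    rw [← map_pow, Ideal.Quotient.eq_zero_iff_mem] at hn
    have := (mem_vanIdeal C).mp hn g hg
    rw [map_pow] at this
    exact eq_zero_of_pow_eq_zero this⟩
  haveI : Smooth (sp k B).hom := (HasRingHomProperty.Spec_iff (P := @Smooth)).mpr
    (RingHom.smooth_algebraMap.mpr smooth_of_isReduced)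
  haveI : Smooth (sp k A).hom := (HasRingHomProperty.Spec_iff (P := @Smooth)).mpr
    (RingHom.smooth_algebraMap.mpr ‹_›)
  haveI : IsAffine (sp k A).left := isAffine_Spec _
  haveI : IsAffine (sp k B).left := isAffine_Spec _
  haveI : LocallyOfFiniteType (sp k B).hom := inferInstance
  obtain ⟨N, _, incl, _, _, hfl, hr, -, -⟩ := GrpSchLib.exists_identityComponent (G := sp k B)
  haveI := hfl
  haveI : IsLocallyNoetherian (sp k B).left := LocallyOfFiniteType.isLocallyNoetherian (sp k B).hom
  haveI : LocallyOfFinitePresentation incl.left := inferInstance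
  haveI : IsOpenImmersion incl.left := IsOpenImmersion.of_flat_of_mono incl.left
  have hNsm : Smooth N.hom := by rw [← Over.w incl]; infer_instance
  have hNc : ConnectedSpace N.left := by
    have h1 : _root_.IsConnected (Set.range incl.left) := hr ▸ isConnected_connectedComponent
    rw [connectedSpace_iff_univ]
    refine ⟨?_, ?_⟩
    · obtain ⟨_, z, -⟩ := h1.nonempty
      exact ⟨z, trivial⟩
    · exact (incl.left.isClosedEmbedding.isInducing.isPreconnected_image).mp (Set.image_univ ▸ h1.isPreconnected)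
  let n : N ⟶ sp k A := incl ≫ ι₀
  have hn : IsClosedImmersion n.left := by
    show IsClosedImmersion (incl ≫ ι₀).left
    rw [Over.comp_left]; infer_instance
  -- connected pointed schemes with points in the centraliser land in the subgroup
  have hlift : ∀ (X : Over (Spec (CommRingCat.of k))) [Smooth X.hom] [ConnectedSpace X.left] (w : X ⟶ sp k A)
      (z : sp k k ⟶ X), z ≫ w = 1 → (∀ x : sp k k ⟶ X, ∃ g ∈ C, x ≫ w = spMap g.ofConv) →
      ∃ l : X ⟶ N, l ≫ n = w := by
    intro X _ _ w z hz hw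
    obtain ⟨l, hl⟩ := exists_fac_vanIdeal C hclosed w hw
    haveI : Mono ι₀.left := inferInstance
    haveI : Mono ι₀ := Over.mono_of_mono_left ι₀
    have hz' : AGFRoot.unitSp.hom ≫ z ≫ l = η[sp k B] := by
      rw [← cancel_mono ι₀, Category.assoc, Category.assoc, hl, hz, IsMonHom.one_hom ι₀, MonObj.comp_one,
        Hom.one_def, toUnit_unit, Category.id_comp]
    obtain ⟨l', hl'⟩ := exists_factor_component incl hr l
      ⟨(AGFRoot.unitSp.hom ≫ z).left (IsLocalRing.closedPoint k), by
        rw [← Scheme.Hom.comp_apply, ← Over.comp_left, Category.assoc, hz']⟩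
    exact ⟨l', by rw [← hl, ← hl', Category.assoc]⟩
  have hCN : ∀ x : sp k k ⟶ N, ∃ g ∈ C, x ≫ n = spMap g.ofConv := fun x => by
    obtain ⟨φ, hφ⟩ := exists_eq_spMap (x ≫ incl)
    refine ⟨toConv (φ.comp (Ideal.Quotient.mkₐ k (vanIdeal C))), hclosed _ fun a ha => ?_, ?_⟩
    · show φ (Ideal.Quotient.mk _ a) = 0
      rw [Ideal.Quotient.eq_zero_iff_mem.mpr ha, map_zero]
    · rw [← Category.assoc, hφ, spMap_comp]
  haveI := hNsm
  haveI := hNc
  haveI : IsMonHom n := inferInstanceAs (IsMonHom (incl ≫ ι₀))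
  -- the root group of `a`
  let w : sp k (Polynomial k) ⟶ sp k A := spMap (F.φ a)
  haveI : Algebra.Smooth k (Polynomial k) := ⟨inferInstance, inferInstance⟩
  haveI : Smooth (sp k (Polynomial k)).hom := (HasRingHomProperty.Spec_iff (P := @Smooth)).mpr
    (RingHom.smooth_algebraMap.mpr inferInstance)
  haveI : IsIntegral (sp k (Polynomial k)).left := (affine_isIntegral_iff (CommRingCat.of (Polynomial k))).mpr inferInstance
  have hrtw : ∀ x : k, spMap (Polynomial.aeval x) ≫ w = spMap (F.rt a x).ofConv := fun x => by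
    rw [spMap_comp]; rfl
  obtain ⟨la, hla⟩ := hlift _ w (spMap (Polynomial.aeval 0))
    (by rw [hrtw, F.rt_zero, spMap_eq_mapMulEquiv, toConv_ofConv, map_one])
    fun x => by
      obtain ⟨φ, hφ⟩ := AGFRoot.exists_eq_spMap' x
      have e : φ = Polynomial.aeval (φ Polynomial.X) := Polynomial.algHom_ext (by simp)
      refine ⟨F.rt a (φ Polynomial.X), Subgroup.mem_centralizer_iff.mpr fun h hh => ?_,
        by rw [hφ, e]; simpa using hrtw _⟩
      induction hh using Subgroup.closure_induction with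
      | mem z hz =>
        obtain ⟨j, hj, y, rfl⟩ := hz
        exact (hcomm a ha j hj _ y).symm
      | one => simp
      | mul u v _ _ hu hv => rw [_root_.mul_assoc, hv, ← _root_.mul_assoc, hu, _root_.mul_assoc]
      | inv u _ hu => exact inv_mul_eq_iff_eq_mul.mpr (by rw [← _root_.mul_assoc, hu, mul_inv_cancel_right])
  refine ⟨N, inferInstance, n, inferInstance, hn, hNsm, hNc, ?_, fun htriv => ?_, fun hiso => ?_⟩
  · haveI := hn
    haveI : LocallyOfFiniteType N.hom := inferInstance
    haveI : QuasiCompact N.hom := by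
      have := isAffine_of_isAffineHom n.left
      infer_instance
    have hconj : ∀ (g : 𝟙_ (Over (Spec (CommRingCat.of k))) ⟶ sp k A),
        ∃ l : N ⟶ N, l ≫ n = AGF.conjBy g n := fun g => by
      refine hlift N (AGF.conjBy g n) 1 ?_ fun x => ?_
      · rw [comp_conjBy, MonObj.one_comp, _root_.mul_one, mul_inv_cancel]
      · obtain ⟨c', hc', e⟩ := hCN x
        obtain ⟨g₀, hg₀⟩ := exists_eq_spMap (toUnit (sp k k) ≫ g)
        refine ⟨toConv g₀ * c' * (toConv g₀)⁻¹, hCn.conj_mem c' hc' _, ?_⟩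
        rw [comp_conjBy, e, hg₀, spMap_eq_mapMulEquiv, spMap_eq_mapMulEquiv, spMap_eq_mapMulEquiv,
          toConv_ofConv, toConv_ofConv, map_mul, map_mul, map_inv]
    intro T g t
    haveI : Smooth (sp k A ⊗ N).hom := inferInstanceAs (Smooth (Limits.pullback.fst (sp k A).hom N.hom ≫ (sp k A).hom))
    have hd := GrpSchLib.DensePts.exists_fac (P := sp k k) (GrpSchLib.densePts_of_smooth (K := k) (sp k A ⊗ N)) n
      (fst _ _ * (snd _ _ ≫ n) * (fst _ _)⁻¹) (fun x => by
        obtain ⟨l, hl⟩ := hconj (AGFRoot.unitSp.hom ≫ x ≫ fst _ _)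
        refine ⟨(x ≫ snd _ _) ≫ l, ?_⟩
        rw [Category.assoc, hl, comp_conjBy]
        simp only [MonObj.comp_mul, GrpObj.comp_inv, ← Category.assoc]
        rw [AGFRoot.unique_to_base (toUnit (sp k k) ≫ AGFRoot.unitSp.hom) (𝟙 _), Category.id_comp])
    obtain ⟨f, hf⟩ := hd
    refine ⟨lift g t ≫ f, ?_⟩
    rw [Category.assoc, hf]
    simp only [MonObj.comp_mul, GrpObj.comp_inv, ← Category.assoc, lift_fst, lift_snd]
  · haveI : IsIso N.hom := htriv
    have h1 : spMap (Polynomial.aeval (1 : k)) ≫ la = spMap (Polynomial.aeval (0 : k)) ≫ la :=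
      Over.OverMorphism.ext ((cancel_mono N.hom).mp (by rw [Over.w, Over.w]))
    have h2 := congrArg (· ≫ n) h1
    simp only [Category.assoc, hla, hrtw] at h2
    exact one_ne_zero (rt_injective F a (WithConv.ofConv_injective (spMap_injective h2)))
  · haveI := hiso
    obtain ⟨χ, hχ⟩ := exists_char_eq (k := k) (hne c) (-1 : kˣ)
    have hcz : ∀ g : Pt k A k, F.rt c 1 * g = g * F.rt c 1 := fun g => by
      obtain ⟨g', hg', e⟩ := hCN (spMap g.ofConv ≫ inv n)
      rw [Category.assoc, IsIso.inv_hom_id, Category.comp_id] at e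
      rw [WithConv.ofConv_injective (spMap_injective e)]
      exact Subgroup.mem_centralizer_iff.mp hg' _ (Subgroup.subset_closure ⟨c, hc, 1, rfl⟩)
    obtain ⟨s, hs1⟩ : ∃ s : kˣ, s ≠ 1 := by
      obtain ⟨s, hs⟩ := exists_unit_pow_ne_one (k := k) (S := {1}) (Set.finite_singleton 1)
      exact ⟨s, fun h => hs 1 rfl one_ne_zero (by simp [h])⟩
    obtain ⟨χ', hχ'⟩ := exists_char_eq (k := k) (hne c) s
    have e := F.conj k c χ' 1
    rw [show F.T.tor χ' * linePt (F.φ c) 1 = F.rt c 1 * F.T.tor χ' from (hcz _).symm, hχ', mul_one] at e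
    exact hs1 (Units.ext (rt_injective F c (mul_right_cancel e)).symm)

variable {G : Over (Spec (CommRingCat.of k))} [GrpObj G]

/-- In a simple group every root meets every reflection orbit non-orthogonally. -/
theorem exists_reach_pairing_ne_zero (D : Red.SplitRed G) (hG : Red.IsReductiveOver k G)
    (hsimple : ∀ (N : Over (Spec (CommRingCat.of k))) [GrpObj N] (n : N ⟶ G) [IsMonHom n],
      IsClosedImmersion n.left → Smooth N.hom → ConnectedSpace N.left → AlgGrp.IsNormalHom n →
      Red.IsTrivialGrp N ∨ IsIso n) (a c : D.idx) :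
    ∃ d, Relation.ReflTransGen (ReflStep D.P) a d ∧ D.P.pairing c d ≠ 0 := by
  classical
  by_contra hcon
  push Not at hcon
  obtain ⟨haff, hsm, hconn, -⟩ := hG
  haveI : IsAffineHom G.hom := D.reductive.1
  obtain ⟨A', _, _, ⟨Md⟩⟩ := exists_model (R := k) (𝟙 (Spec (CommRingCat.of k))) G
  haveI : Algebra.Smooth k A' := Md.smooth hsm
  haveI : IsIso Md.toG := by
    have h := Md.isPullback
    exact h.isIso_fst_of_isIso
  haveI : IsDomain A' := by
    haveI := haff; haveI := hsm; haveI := hconn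
    haveI := Obs28.Unip.isIntegral_grp (G := G)
    haveI : Nonempty (Spec (CommRingCat.of A')) := ⟨(inv Md.toG).base (Classical.choice inferInstance)⟩
    exact (affine_isIntegral_iff (CommRingCat.of A')).mp (isIntegral_of_isOpenImmersion Md.toG)
  have hne : ∀ i, (Md.frame D).root i ≠ 0 := fun i => D.P.ne_zero i
  let C₁ : Set D.idx := {i | ∃ d, Relation.ReflTransGen (ReflStep D.P) a d ∧ D.P.pairing i d ≠ 0}
  have haC : a ∈ C₁ := ⟨a, .refl, by rw [D.P.pairing_same]; norm_num⟩
  have hcC : c ∉ C₁ := fun ⟨d, hd, h⟩ => h (hcon d hd)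
  have horth : ∀ i ∈ C₁, ∀ j ∉ C₁, D.P.pairing i j = 0 := fun i hi j hj =>
    pairing_eq_zero_of_orbit hi fun d hd => by_contra fun h => hj ⟨d, hd, h⟩
  have hcomm : ∀ i ∈ C₁, ∀ j ∉ C₁, ∀ x y : k,
      (Md.frame D).rt i x * (Md.frame D).rt j y = (Md.frame D).rt j y * (Md.frame D).rt i x := by
    intro i hi j hj x y
    have h0 := horth i hi j hj
    have h0' : D.P.pairing j i = 0 := D.P.pairing_eq_zero_iff.mp h0
    have hs : D.P.root i + D.P.root j ≠ 0 := fun h => by
      have h' := congrArg (D.P.coroot' i) h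
      rw [map_add, map_zero, D.P.root_coroot'_eq_pairing, D.P.root_coroot'_eq_pairing, D.P.pairing_same, h0'] at h'
      omega
    have hr : D.P.root i + D.P.root j ∉ Set.range D.P.root := by
      rintro ⟨g, hg⟩
      have hgi : D.P.pairing g i = 2 := by
        rw [← D.P.root_coroot'_eq_pairing, hg, map_add, D.P.root_coroot'_eq_pairing, D.P.root_coroot'_eq_pairing,
          D.P.pairing_same, h0', add_zero]
      have hgj : D.P.pairing g j = 2 := by
        rw [← D.P.root_coroot'_eq_pairing, hg, map_add, D.P.root_coroot'_eq_pairing, D.P.root_coroot'_eq_pairing,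
          D.P.pairing_same, h0, zero_add]
      by_cases hgC : g ∈ C₁
      · rw [horth g hgC j hj] at hgj; omega
      · rw [D.P.pairing_eq_zero_iff.mp (horth i hi g hgC)] at hgi; omega
    refine Md.pt_bijective.injective ?_
    rw [Md.pt_mul, Md.pt_mul, Md.pt_rt, Md.pt_rt]
    have h := Rank2Red38.U_comm_of_sum_not_root hs hr (tObj (𝟙 (Spec (CommRingCat.of k))) k)
      ((tVal _ k).symm x) ((tVal _ k).symm y)
    simpa only [Rank2Red38.U_tObj, RingEquiv.apply_symm_apply] using h
  obtain ⟨N, _, n, _, hn, hNs, hNc, hNn, hNt, hNi⟩ := exists_normal_subgroup (Md.frame D) hne C₁ haC hcC hcomm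
  haveI := hn
  let e : sp k A' ⟶ G := Over.homMk Md.toG
    (Md.isPullback.w.trans (Category.comp_id _))
  haveI : IsIso e.left := ‹IsIso Md.toG›
  haveI : IsIso e := by
    haveI : IsIso ((Over.forget _).map e) := ‹IsIso Md.toG›
    exact isIso_of_reflects_iso e (Over.forget _)
  haveI : IsMonHom e := GrpSchLib.RankOne.isMonHom_of_comp e fun Y x y => by
    refine AGFRoot.ext_sp fun R _ _ j => ?_
    let i₀ : sp k R ⟶ tObj (𝟙 (Spec (CommRingCat.of k))) R :=
      Over.homMk (𝟙 (Spec (CommRingCat.of R))) (by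
        show 𝟙 _ ≫ Spec.map _ ≫ 𝟙 _ = _
        rw [Category.id_comp, Category.comp_id]; rfl)
    have hpt : ∀ g : Pt k A' R, spMap g.ofConv ≫ e = i₀ ≫ Md.pt g := fun g => by
      refine Over.OverMorphism.ext ?_
      show _ ≫ Md.toG = 𝟙 _ ≫ (Md.pt g).left
      rw [Category.id_comp, Md.pt_left]
      rfl
    obtain ⟨gx, hx⟩ := exists_eq_spMap (j ≫ x)
    obtain ⟨gy, hy⟩ := exists_eq_spMap (j ≫ y)
    rw [MonObj.comp_mul, ← Category.assoc, MonObj.comp_mul, ← Category.assoc, ← Category.assoc, hx, hy,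
      spMap_mul]
    refine (hpt _).trans ?_
    rw [Md.pt_mul, MonObj.comp_mul, ← hpt, ← hpt]
  haveI : IsIso (inv e).left := inferInstanceAs (IsIso ((Over.forget _).map (inv e)))
  haveI : IsClosedImmersion (n ≫ e).left := by rw [Over.comp_left]; infer_instance
  rcases hsimple N (n ≫ e) inferInstance hNs hNc (fun T g t => by
    obtain ⟨t', ht'⟩ := hNn T (g ≫ inv e) t
    refine ⟨t', ?_⟩
    have h := congrArg (· ≫ e) ht'
    simpa [MonObj.mul_comp, GrpObj.inv_comp] using h) with h | h
  · exact hNt h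
  · exact hNi (IsIso.of_isIso_comp_right n e)

end Groth.Agent.ParLib
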