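import Groth.Agent.GModLib41.Flat
import Groth.Agent.GrpSchLib.Affinization
import Groth.Agent.GrpSchLib.SchDomFlat
import Groth.Agent.GrpSchLib.AffineHopf
import Groth.Agent.GrpSchLib.SubHopf
import Groth.Agent.ComodLib.Antipode
import Mathlib.Algebra.Category.Ring.Constructions
import Mathlib.RingTheory.TensorProduct.Maps

/-!
# The image of the global functions of a flat group scheme in the functions of a closed fibre
-/

universe u

open CategoryTheory CategoryTheory.Limits MonoidalCategory CartesianMonoidalCategory MonObj GrpObj AlgebraicGeometry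
open TensorProduct WithConv Opposite
open Groth.Agent.GModLib41 Groth.Agent.GrpSchLib Groth.Agent.GrpSchLib.AffineHopf

namespace Groth.Agent.ParLib.Special

set_option linter.style.haveILetI false
set_option linter.unusedSectionVars false
set_option backward.isDefEq.respectTransparency false
set_option backward.isDefEq.respectTransparency.types false
set_option synthInstance.maxHeartbeats 400000
set_option maxHeartbeats 1000000

variable {R : Type u} [CommRing R] {k : Type u} [Field k] [Algebra R k]
  {G : Over (Spec (CommRingCat.of R))} [GrpObj G]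

variable (R k) in
/-- The base change to the field. -/
noncomputable abbrev bcK : Spec (CommRingCat.of k) ⟶ Spec (CommRingCat.of R) :=
  Spec.map (CommRingCat.ofHom (algebraMap R k))

section Lift

variable {T : Type u} [CommRing T] [Algebra R T] [Algebra k T] [IsScalarTower R k T]

variable (k T) in
/-- The test scheme seen over the base. -/
noncomputable def mapIso : (Over.map (bcK R k)).obj (sp k T) ≅ VecGrp.pt R T :=
  Over.isoMk (Iso.refl _) (by
    show 𝟙 _ ≫ Spec.map (CommRingCat.ofHom (algebraMap R T)) = Spec.map _ ≫ Spec.map _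
    rw [Category.id_comp, ← Spec.map_comp, ← CommRingCat.ofHom_comp, ← IsScalarTower.algebraMap_eq])

/-- A point over the base as a point of the fibre. -/
noncomputable def liftPt (y : VecGrp.pt R T ⟶ G) : sp k T ⟶ Red.bc (bcK R k) G :=
  (Over.mapPullbackAdj (bcK R k)).homEquiv _ _ ((mapIso k T).hom ≫ y)

theorem liftPt_fst (y : VecGrp.pt R T ⟶ G) : (liftPt (k := k) y).left ≫ pullback.fst _ _ = y.left := by
  simp [liftPt, mapIso, Adjunction.homEquiv_unit]
  exact Category.id_comp _

theorem liftPt_mul (y z : VecGrp.pt R T ⟶ G) :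
    liftPt (k := k) (y * z) = liftPt (k := k) y * liftPt (k := k) z := by
  simp only [liftPt, Adjunction.homEquiv_unit, MonObj.comp_mul]
  rw [Functor.map_mul, MonObj.comp_mul]

end Lift

variable {B : Type u} [CommRing B] [HopfAlgebra k B] (v : Red.bc (bcK R k) G ⟶ sp k B)

/-- The coordinates of a point of the fibre. -/
noncomputable def coord {T : Type u} [CommRing T] [Algebra k T] (x : sp k T ⟶ Red.bc (bcK R k) G) : B →ₐ[k] T :=
  (Spec.mapMulEquiv.symm (x ≫ v)).ofConv

theorem spMap_coord {T : Type u} [CommRing T] [Algebra k T] (x : sp k T ⟶ Red.bc (bcK R k) G) :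
    spMap (coord v x) = x ≫ v :=
  Spec.mapMulEquiv.apply_symm_apply _

theorem coord_mul [IsMonHom v] {T : Type u} [CommRing T] [Algebra k T] (x y : sp k T ⟶ Red.bc (bcK R k) G) (b : B) :
    coord v (x * y) b = Algebra.TensorProduct.lift (coord v x) (coord v y) (fun _ _ => Commute.all _ _)
      (Coalgebra.comul (R := k) b) := by
  simp only [coord, MonObj.mul_comp, map_mul]
  rw [AlgHom.convMul_apply]

variable (hv : Function.Bijective v.left.appTop)

/-- Restriction of global functions to the functions of the fibre. -/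
noncomputable def res : Γ(G.left, ⊤) →+* B :=
  haveI : IsIso v.left.appTop := (ConcreteCategory.isIso_iff_bijective _).mpr hv
  ((pullback.fst G.hom (bcK R k)).appTop ≫ inv v.left.appTop ≫ (Scheme.ΓSpecIso (CommRingCat.of B)).hom).hom

theorem coord_res {T : Type u} [CommRing T] [Algebra R T] [Algebra k T] [IsScalarTower R k T]
    (y : VecGrp.pt R T ⟶ G) (a : Γ(G.left, ⊤)) :
    letI := algTop (G := G)
    coord v (liftPt y) (res v hv a) = pullFn y a := by
  letI := algTop (G := G)
  haveI : IsIso v.left.appTop := (ConcreteCategory.isIso_iff_bijective _).mpr hv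
  let E := Scheme.ΓSpecIso (CommRingCat.of B)
  let e := Scheme.ΓSpecIso (CommRingCat.of T)
  let x := liftPt (k := k) y
  have h1 : x.left ≫ v.left = Spec.map (CommRingCat.ofHom (coord v x).toRingHom) :=
    (congrArg CommaMorphism.left (spMap_coord v x)).symm
  have h2 : y.left.appTop ≫ e.hom = (pullback.fst G.hom (bcK R k)).appTop ≫ inv v.left.appTop ≫ E.hom ≫
      CommRingCat.ofHom (coord v x).toRingHom := by
    rw [← liftPt_fst (k := k) y, Scheme.Hom.comp_appTop, Category.assoc]
    congr 1
    rw [IsIso.eq_inv_comp, ← Category.assoc, ← Scheme.Hom.comp_appTop]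
    show (x.left ≫ v.left).appTop ≫ e.hom = _
    rw [h1, Scheme.ΓSpecIso_naturality]
  exact (ConcreteCategory.congr_hom h2 a).symm

theorem res_algebraMap (c : R) :
    letI := algTop (G := G)
    res v hv (algebraMap R Γ(G.left, ⊤) c) = algebraMap k B (algebraMap R k c) := by
  haveI : IsIso v.left.appTop := (ConcreteCategory.isIso_iff_bijective _).mpr hv
  have h : (Scheme.ΓSpecIso (CommRingCat.of R)).inv ≫ G.hom.appTop ≫ (pullback.fst G.hom (bcK R k)).appTop ≫
      inv v.left.appTop ≫ (Scheme.ΓSpecIso (CommRingCat.of B)).hom =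
      CommRingCat.ofHom (algebraMap R k) ≫ CommRingCat.ofHom (algebraMap k B) := by
    rw [← Scheme.Hom.comp_appTop_assoc, pullback.condition, Scheme.Hom.comp_appTop_assoc,
      ← Scheme.ΓSpecIso_inv_naturality_assoc]
    congr 1
    have hw : v.left ≫ (sp k B).hom = pullback.snd G.hom (bcK R k) := Over.w v
    rw [← hw, Scheme.Hom.comp_appTop_assoc, IsIso.hom_inv_id_assoc]
    show (Scheme.ΓSpecIso (CommRingCat.of k)).inv ≫ (Spec.map (CommRingCat.ofHom (algebraMap k B))).appTop ≫
      (Scheme.ΓSpecIso (CommRingCat.of B)).hom = _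
    rw [← Scheme.ΓSpecIso_inv_naturality_assoc]
    show CommRingCat.ofHom (algebraMap k B) ≫ _ = _
    rw [Iso.inv_hom_id, Category.comp_id]
  exact ConcreteCategory.congr_hom h c

variable {U : G.left.Opens} (hU : IsAffineOpen U)

/-- The functions on the fibre over an affine open. -/
abbrev Ck (k : Type u) [Field k] [Algebra R k] (U : G.left.Opens) : Type u :=
  letI := algU (G := G) U; k ⊗[R] Γ(G.left, U)

/-- The chart of the fibre over an affine open, as a point. -/
noncomputable def chart : letI := algU (G := G) U; VecGrp.pt R (Ck k U) ⟶ G :=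
  letI := algU (G := G) U
  VecGrp.ptMap (Algebra.TensorProduct.includeRight : Γ(G.left, U) →ₐ[R] k ⊗[R] Γ(G.left, U)) ≫ openPt hU

theorem isPullback_chart :
    letI := algU (G := G) U
    IsPullback (Spec.map (CommRingCat.ofHom (Algebra.TensorProduct.includeRight :
      Γ(G.left, U) →ₐ[R] k ⊗[R] Γ(G.left, U)).toRingHom)) (liftPt (k := k) (chart (k := k) hU)).left hU.fromSpec
        (pullback.fst G.hom (bcK R k)) := by
  letI := algU (G := G) U
  refine IsPullback.of_bot ?_ ?_ (IsPullback.of_hasPullback G.hom (bcK R k))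
  rotate_left
  · exact (liftPt_fst (k := k) (chart (k := k) hU)).symm
  have h := (isPullback_SpecMap_of_isPushout _ _ _ _ (CommRingCat.isPushout_tensorProduct R k Γ(G.left, U))).flip
  have e1 : (liftPt (k := k) (chart (k := k) hU)).left ≫ pullback.snd G.hom (bcK R k) =
      Spec.map (CommRingCat.ofHom (algebraMap k (k ⊗[R] Γ(G.left, U)))) := Over.w _
  rw [e1, ← specMap_algU hU]
  exact h

theorem isOpenImmersion_chart :
    letI := algU (G := G) U; IsOpenImmersion (liftPt (k := k) (chart (k := k) hU)).left :=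
  MorphismProperty.of_isPullback (isPullback_chart hU) inferInstance

/-- Restriction from the fibre to a chart. -/
noncomputable def rU : letI := algU (G := G) U; B →ₐ[k] Ck k U :=
  letI := algU (G := G) U; coord v (liftPt (k := k) (chart (k := k) hU))

theorem flat_rU [Flat v.left] : letI := algU (G := G) U; (rU v hU).toRingHom.Flat := by
  letI := algU (G := G) U
  haveI := isOpenImmersion_chart (k := k) hU
  have h : Flat (Spec.map (CommRingCat.ofHom (rU v hU).toRingHom)) := by
    rw [show Spec.map (CommRingCat.ofHom (rU v hU).toRingHom) = _ from congrArg CommaMorphism.left (spMap_coord v _)]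
    exact inferInstanceAs (Flat ((liftPt (k := k) (chart (k := k) hU)).left ≫ v.left))
  exact (HasRingHomProperty.Spec_iff (P := @Flat)).mp h

theorem rU_res (a : Γ(G.left, ⊤)) :
    letI := algTop (G := G); letI := algU (G := G) U
    rU v hU (res v hv a) = (1 : k) ⊗ₜ[R] pullFn (openPt hU) a := by
  letI := algTop (G := G)
  letI := algU (G := G) U
  rw [rU, coord_res, chart, pullFn_ptMap]
  rfl

include hv in
theorem eq_zero_of_forall_rU {J : Type u} (W : J → G.left.Opens) (hW : ∀ i, IsAffineOpen (W i))
    (hcov : ⨆ i, W i = ⊤) (b : B) (h : ∀ i, rU v (hW i) b = 0) : b = 0 := by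
  letI algs : ∀ i, Algebra R Γ(G.left, W i) := fun i => algU (G := G) (W i)
  haveI : ∀ i, IsOpenImmersion (liftPt (k := k) (chart (k := k) (hW i))).left := fun i =>
    isOpenImmersion_chart (hW i)
  let 𝒰 : (Red.bc (bcK R k) G).left.OpenCover :=
    Scheme.Cover.mkOfCovers (P := @IsOpenImmersion) J _ (fun i => (liftPt (k := k) (chart (k := k) (hW i))).left)
    (fun y => by
      obtain ⟨i, hi⟩ := TopologicalSpace.Opens.mem_iSup.1
        (show pullback.fst G.hom (bcK R k) y ∈ ⨆ i, W i by rw [hcov]; trivial)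
      obtain ⟨z, hz⟩ : pullback.fst G.hom (bcK R k) y ∈ Set.range (hW i).fromSpec := (hW i).range_fromSpec ▸ hi
      obtain ⟨w, -, hw⟩ := Scheme.exists_preimage_of_isPullback (isPullback_chart (k := k) (hW i)) z y hz
      exact ⟨i, w, hw⟩)
  have h0 : v.left.appTop ((Scheme.ΓSpecIso (CommRingCat.of B)).inv b) = 0 := by
    refine Scheme.zero_of_zero_cover _ 𝒰 fun i => ?_
    show (liftPt (k := k) (chart (k := k) (hW i))).left.appTop (v.left.appTop _) = 0
    rw [← ConcreteCategory.comp_apply, ← Scheme.Hom.comp_appTop,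
      show (liftPt (k := k) (chart (k := k) (hW i))).left ≫ v.left = _ from
        (congrArg CommaMorphism.left (spMap_coord v _)).symm]
    apply (ConcreteCategory.bijective_of_isIso (Scheme.ΓSpecIso (CommRingCat.of _)).hom).1
    refine ((ConcreteCategory.congr_hom (Scheme.ΓSpecIso_naturality
      (CommRingCat.ofHom (rU v (hW i)).toRingHom)) _).trans ?_).trans (map_zero _).symm
    show rU v (hW i) ((Scheme.ΓSpecIso (CommRingCat.of B)).hom ((Scheme.ΓSpecIso (CommRingCat.of B)).inv b)) = 0
    rw [Iso.inv_hom_id_apply]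
    exact h i
  exact (ConcreteCategory.bijective_of_isIso (Scheme.ΓSpecIso (CommRingCat.of B)).inv).1
    ((hv.1 (h0.trans (map_zero _).symm)).trans (map_zero _).symm)

section Natural

theorem spMap_liftPt {T T' : Type u} [CommRing T] [Algebra R T] [Algebra k T] [IsScalarTower R k T] [CommRing T']
    [Algebra R T'] [Algebra k T'] [IsScalarTower R k T'] (φ : T →ₐ[k] T') (y : VecGrp.pt R T ⟶ G) :
    spMap φ ≫ liftPt (k := k) y = liftPt (k := k) (VecGrp.ptMap (φ.restrictScalars R) ≫ y) := by
  refine Over.OverMorphism.ext (pullback.hom_ext ?_ ?_)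
  · show ((spMap φ).left ≫ (liftPt (k := k) y).left) ≫ _ = _
    rw [Category.assoc, liftPt_fst, liftPt_fst]
    rfl
  · exact (Over.w (spMap φ ≫ liftPt (k := k) y)).trans (Over.w _).symm

theorem coord_comp {T T' : Type u} [CommRing T] [Algebra k T] [CommRing T'] [Algebra k T'] (φ : T →ₐ[k] T')
    (x : sp k T ⟶ Red.bc (bcK R k) G) : coord v (spMap φ ≫ x) = φ.comp (coord v x) := by
  apply spMap_injective
  rw [spMap_coord, ← spMap_comp, spMap_coord, Category.assoc]

end Natural

section JointInjective

variable {J : Type u} [Fintype J] {M : J → Type u} [∀ i, AddCommGroup (M i)] [∀ i, Module k (M i)]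
  {N Q : Type u} [AddCommGroup N] [Module k N] [AddCommGroup Q] [Module k Q]

omit [Algebra R k] in
theorem eq_zero_of_forall_rTensor (r : ∀ i, N →ₗ[k] M i) (hr : ∀ b, (∀ i, r i b = 0) → b = 0) (z : N ⊗[k] Q)
    (h : ∀ i, (r i).rTensor Q z = 0) : z = 0 := by
  classical
  let P := LinearMap.pi r
  have hP : Function.Injective P := (injective_iff_map_eq_zero _).2 fun b hb => hr b fun i => congrFun hb i
  apply Module.Flat.rTensor_preserves_injective_linearMap (M := Q) P hP
  have hid : (LinearMap.id : (∀ i, M i) →ₗ[k] _) = ∑ i, LinearMap.single k M i ∘ₗ LinearMap.proj i := by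
    refine LinearMap.ext fun f => ?_
    simp [LinearMap.sum_apply, Finset.univ_sum_single]
  rw [map_zero, ← LinearMap.rTensor_id_apply Q _ (P.rTensor Q z), hid, ← LinearMap.coe_rTensorHom, map_sum,
    LinearMap.sum_apply]
  refine Finset.sum_eq_zero fun i _ => ?_
  rw [LinearMap.coe_rTensorHom, ← LinearMap.comp_apply, ← LinearMap.rTensor_comp, LinearMap.comp_assoc,
    show LinearMap.proj i ∘ₗ P = r i from LinearMap.proj_pi r i, LinearMap.rTensor_comp, LinearMap.comp_apply, h,
    map_zero]

omit [Algebra R k] in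
theorem eq_zero_of_forall_lTensor (r : ∀ i, N →ₗ[k] M i) (hr : ∀ b, (∀ i, r i b = 0) → b = 0) (z : Q ⊗[k] N)
    (h : ∀ i, (r i).lTensor Q z = 0) : z = 0 := by
  apply (TensorProduct.comm k Q N).injective
  rw [map_zero]
  refine eq_zero_of_forall_rTensor r hr _ fun i => ?_
  have e : ∀ z : Q ⊗[k] N, (r i).rTensor Q (TensorProduct.comm k Q N z) =
      TensorProduct.comm k Q (M i) ((r i).lTensor Q z) := fun z => by
    induction z using TensorProduct.induction_on with
    | zero => simp
    | add x y hx hy => simp only [map_add, hx, hy]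
    | tmul a b => simp
  rw [e, h, map_zero]

omit [Algebra R k] in
theorem exists_tensor_sub {M₀ : Type u} [AddCommGroup M₀] [Module k M₀] (S : Submodule k M₀) (z : M₀ ⊗[k] M₀)
    (h1 : z ∈ LinearMap.range (S.subtype.rTensor M₀)) (h2 : z ∈ LinearMap.range (S.subtype.lTensor M₀)) :
    z ∈ LinearMap.range (TensorProduct.map S.subtype S.subtype) := by
  obtain ⟨w, rfl⟩ := h1
  obtain ⟨w', hw'⟩ := h2
  have hw : S.mkQ.lTensor S w = 0 := by
    apply Module.Flat.rTensor_preserves_injective_linearMap (M := M₀ ⧸ S) S.subtype Subtype.val_injective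
    rw [← LinearMap.comp_apply, LinearMap.rTensor_comp_lTensor, ← LinearMap.lTensor_comp_rTensor, LinearMap.comp_apply,
      ← hw', ← LinearMap.comp_apply, ← LinearMap.lTensor_comp, map_zero,
      show S.mkQ ∘ₗ S.subtype = 0 from LinearMap.ext fun x => (Submodule.Quotient.mk_eq_zero S).2 x.2,
      LinearMap.lTensor_zero, LinearMap.zero_apply]
  obtain ⟨t, ht⟩ := (lTensor_exact S (LinearMap.exact_subtype_mkQ S) (Submodule.mkQ_surjective S) w).1 hw
  exact ⟨t, by rw [← ht, ← LinearMap.comp_apply, LinearMap.rTensor_comp_lTensor]⟩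

end JointInjective

variable [IsMonHom v]

theorem antipode_res (a : Γ(G.left, ⊤)) [QuasiCompact G.hom] :
    HopfAlgebra.antipode k (res v hv a) = res v hv ((ι[G]).left.appTop a) := by
  obtain ⟨s, hcov⟩ := exists_finite_affine_cover (G := G)
  rw [← sub_eq_zero]
  refine eq_zero_of_forall_rU v hv (J := s) _ (fun i => i.1.2) hcov _ fun i => ?_
  letI := algTop (G := G)
  letI := algU (G := G) i.1.1
  let c := chart (k := k) (R := R) (G := G) i.1.2
  have h1 : coord v (liftPt (k := k) c⁻¹) =
      (coord v (liftPt (k := k) c)).comp (HopfAlgebra.antipodeAlgHom k B) := by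
    let f : (VecGrp.pt R (Ck k i.1.1) ⟶ G) →* (sp k (Ck k i.1.1) ⟶ Red.bc (bcK R k) G) :=
      MonoidHom.mk' (fun y => liftPt (k := k) y) (fun y z => liftPt_mul y z)
    have hS : spMap (HopfAlgebra.antipodeAlgHom k B) = (𝟙 (sp k B))⁻¹ := by
      rw [← spMap_id]
      exact map_inv Spec.mapMulEquiv (toConv (AlgHom.id k B))
    apply spMap_injective
    rw [spMap_coord, ← spMap_comp, hS, GrpObj.comp_inv, Category.comp_id, spMap_coord, ← GrpObj.inv_comp]
    exact congrArg (· ≫ v) (map_inv f c)
  have h2 : rU v i.1.2 (HopfAlgebra.antipode k (res v hv a)) = coord v (liftPt (k := k) c⁻¹) (res v hv a) := by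
    rw [h1]
    rfl
  rw [map_sub, sub_eq_zero, h2, coord_res, rU, coord_res]
  show (((c⁻¹).left.appTop ≫ (Scheme.ΓSpecIso _).hom).hom) a =
    ((c.left.appTop ≫ (Scheme.ΓSpecIso _).hom).hom) ((ι[G]).left.appTop a)
  rw [show (c⁻¹).left = c.left ≫ (ι[G]).left from rfl, Scheme.Hom.comp_appTop]
  rfl

variable [QuasiCompact G.hom] [QuasiSeparated G.hom] [Flat G.hom]

theorem comul_res (hU : IsAffineOpen U) (a : Γ(G.left, ⊤)) :
    letI := algU (G := G) U
    ∃ w : Ck k U ⊗[k] B, (rU v hU).toLinearMap.rTensor B (Coalgebra.comul (R := k) (res v hv a)) = w ∧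
      ∀ (S : Submodule k B), (∀ a, res v hv a ∈ S) → w ∈ LinearMap.range (S.subtype.lTensor (Ck k U)) := by
  obtain ⟨s, hcov⟩ := exists_finite_affine_cover (G := G)
  letI := algTop (G := G)
  letI := algU (G := G) U
  haveI : Module.Flat R Γ(G.left, U) := flat_algU hU
  letI : Algebra R B := ((algebraMap k B).comp (algebraMap R k)).toAlgebra
  haveI : IsScalarTower R k B := IsScalarTower.of_algebraMap_eq fun _ => rfl
  let resA : Γ(G.left, ⊤) →ₐ[R] B := AlgHom.mk (res v hv) (res_algebraMap v hv)
  let mkU : Γ(G.left, U) →ₐ[R] Ck k U := Algebra.TensorProduct.includeRight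
  obtain ⟨τ, hτ⟩ := exists_translate (G := G) (openPt hU)
  let Ψ : Γ(G.left, ⊤) ⊗[R] Γ(G.left, U) →ₐ[R] Ck k U ⊗[k] B :=
    Algebra.TensorProduct.lift (((Algebra.TensorProduct.includeRight : B →ₐ[k] Ck k U ⊗[k] B).restrictScalars R).comp resA)
      (((Algebra.TensorProduct.includeLeft : Ck k U →ₐ[k] Ck k U ⊗[k] B).restrictScalars R).comp mkU)
      fun _ _ => Commute.all _ _
  refine ⟨Ψ (τ a), ?_, fun S hS => ?_⟩
  · rw [← sub_eq_zero]
    refine eq_zero_of_forall_lTensor (fun i : s => (rU v i.1.2).toLinearMap)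
      (fun b hb => eq_zero_of_forall_rU v hv (J := s) _ (fun i => i.1.2) hcov b hb) _ fun i => ?_
    let V := i.1.1
    letI := algU (G := G) V
    have hV : IsAffineOpen V := i.1.2
    let mkV : Γ(G.left, V) →ₐ[R] Ck k V := Algebra.TensorProduct.includeRight
    let iL : Ck k U →ₐ[k] Ck k U ⊗[k] Ck k V := Algebra.TensorProduct.includeLeft
    let iR : Ck k V →ₐ[k] Ck k U ⊗[k] Ck k V := Algebra.TensorProduct.includeRight
    let Φ : Γ(G.left, V) ⊗[R] Γ(G.left, U) →ₐ[R] Ck k U ⊗[k] Ck k V :=
      Algebra.TensorProduct.lift ((iR.restrictScalars R).comp mkV) ((iL.restrictScalars R).comp mkU)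
        fun _ _ => Commute.all _ _
    have hΨ : ∀ x, (rU v hV).toLinearMap.lTensor (Ck k U) (Ψ x) =
        Φ ((pullFn (openPt hV)).toLinearMap.rTensor Γ(G.left, U) x) := by
      intro x
      induction x using TensorProduct.induction_on with
      | zero => simp
      | add x y hx hy => simp only [map_add, hx, hy]
      | tmul b c =>
        simp only [Ψ, Φ, iL, iR, LinearMap.rTensor_tmul, Algebra.TensorProduct.lift_tmul, AlgHom.comp_apply,
          AlgHom.restrictScalars_apply, Algebra.TensorProduct.includeRight_apply,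
          Algebra.TensorProduct.includeLeft_apply, Algebra.TensorProduct.tmul_mul_tmul,
          LinearMap.lTensor_tmul, AlgHom.toLinearMap_apply]
        rw [_root_.mul_one, _root_.one_mul, _root_.mul_one]
        refine congrArg₂ _ rfl ?_
        exact rU_res v hv hV b
    have hxy : VecGrp.ptMap Φ ≫ ((VecGrp.ptMap Algebra.TensorProduct.includeRight ≫ openPt hU) *
        (VecGrp.ptMap Algebra.TensorProduct.includeLeft ≫ openPt hV)) =
        (VecGrp.ptMap (iL.restrictScalars R) ≫ chart (k := k) hU) *
          (VecGrp.ptMap (iR.restrictScalars R) ≫ chart (k := k) hV) := by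
      rw [MonObj.comp_mul, ← Category.assoc, ← Category.assoc, ptMap_comp, ptMap_comp, chart, chart,
        ← Category.assoc, ← Category.assoc, ptMap_comp, ptMap_comp]
      congr 3 <;> exact AlgHom.ext fun c => by simp [Φ, mkU, mkV]
    have hΔ : ∀ z : B ⊗[k] B, (rU v hV).toLinearMap.lTensor (Ck k U) ((rU v hU).toLinearMap.rTensor B z) =
        Algebra.TensorProduct.lift (iL.comp (rU v hU)) (iR.comp (rU v hV)) (fun _ _ => Commute.all _ _) z := by
      intro z
      induction z using TensorProduct.induction_on with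
      | zero => simp
      | add x y hx hy => simp only [map_add, hx, hy]
      | tmul b c => simp [iL, iR]
    rw [map_sub, sub_eq_zero, hΔ, hΨ, hτ, ← AlgHom.comp_apply, ← pullFn_ptMap, hxy, ← coord_res v hv,
      liftPt_mul, coord_mul, ← spMap_liftPt, ← spMap_liftPt, coord_comp, coord_comp]
    rfl
  · induction τ a using TensorProduct.induction_on with
    | zero => simp
    | add x y hx hy => rw [map_add]; exact add_mem hx hy
    | tmul b c =>
      exact ⟨mkU c ⊗ₜ[k] ⟨res v hv b, hS b⟩, by simp [Ψ, resA]⟩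


/-- The image of the global functions in the functions of a closed fibre: flat on every chart, dominated by the fibre. -/
theorem exists_image (hk : Function.Surjective (algebraMap R k)) [IsSeparated G.hom] [LocallyOfFiniteType G.hom] :
    ∃ (A' : Type u) (_ : CommRing A') (q : Γ(G.left, ⊤) →+* A'), Function.Surjective q ∧
      (∀ a, (∀ (U : G.left.Opens) (hU : IsAffineOpen U), letI := algU (G := G) U; letI := algTop (G := G);
          (1 : k) ⊗ₜ[R] pullFn (openPt hU) a = 0) → q a = 0) ∧
      (∀ (U : G.left.Opens) (hU : IsAffineOpen U), letI := algU (G := G) U; letI := algTop (G := G);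
        ∃ r : A' →+* k ⊗[R] Γ(G.left, U), r.Flat ∧ ∀ a, r (q a) = (1 : k) ⊗ₜ[R] pullFn (openPt hU) a) ∧
      ∀ p : PrimeSpectrum A', ∃ x : G.left, G.left.toSpecΓ x = PrimeSpectrum.comap q p := by
  let Gk := Red.bc (bcK R k) G
  haveI : LocallyOfFiniteType Gk.hom := inferInstanceAs (LocallyOfFiniteType (pullback.snd _ _))
  haveI : QuasiCompact Gk.hom := inferInstanceAs (QuasiCompact (pullback.snd _ _))
  obtain ⟨I, _, p, hp, hI, -, hfl, hs, hb⟩ := Affinization.exists_affinization Gk
  haveI := hp; haveI := hI; haveI := hfl; haveI := hs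
  obtain ⟨B, _, _, ⟨e⟩⟩ := exists_hopf I
  let eB : sp k B ≅ I := (Grp.forget _).mapIso e
  haveI : IsMonHom eB.inv := e.inv.hom.isMonHom_hom
  haveI : IsIso eB.inv.left := ((Over.forget _).mapIso eB).isIso_inv
  let v : Gk ⟶ sp k B := p ≫ eB.inv
  haveI : IsMonHom v := inferInstanceAs (IsMonHom (p ≫ eB.inv))
  haveI : Flat v.left := inferInstanceAs (Flat (p.left ≫ eB.inv.left))
  haveI : Surjective v.left := inferInstanceAs (Surjective (p.left ≫ eB.inv.left))
  have hv : Function.Bijective v.left.appTop := by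
    show Function.Bijective (p.left ≫ eB.inv.left).appTop
    rw [Scheme.Hom.comp_appTop]
    haveI : IsIso eB.inv.left.appTop := inferInstanceAs (IsIso (eB.inv.left.app ⊤))
    exact hb.comp (ConcreteCategory.bijective_of_isIso eB.inv.left.appTop)
  let A' : Subalgebra k B :=
    { (res v hv).range.toSubsemiring with
      algebraMap_mem' := fun c => by
        obtain ⟨r, rfl⟩ := hk c
        letI := algTop (G := G)
        exact ⟨algebraMap R Γ(G.left, ⊤) r, res_algebraMap v hv r⟩ }
  have hmem : ∀ a, res v hv a ∈ A' := fun a => ⟨a, rfl⟩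
  obtain ⟨s, hcov⟩ := exists_finite_affine_cover (G := G)
  have hanti : ∀ b ∈ A', HopfAlgebra.antipode k b ∈ A' := by
    rintro _ ⟨a, rfl⟩
    exact ⟨_, (antipode_res v hv a).symm⟩
  have hL : ∀ b ∈ A', Coalgebra.comul (R := k) b ∈
      LinearMap.range ((Subalgebra.toSubmodule A').subtype.lTensor B) := by
    rintro _ ⟨a, rfl⟩
    have hzero : (Subalgebra.toSubmodule A').mkQ.lTensor B (Coalgebra.comul (R := k) (res v hv a)) = 0 := by
      letI algs : ∀ i : s, Algebra R Γ(G.left, i.1.1) := fun i => algU (G := G) i.1.1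
      refine eq_zero_of_forall_rTensor (fun i : s => (rU v i.1.2).toLinearMap)
        (fun b hb => eq_zero_of_forall_rU v hv (J := s) _ (fun i => i.1.2) hcov b hb) _ fun i => ?_
      obtain ⟨w, hw, hwS⟩ := comul_res v hv i.1.2 a
      obtain ⟨t, ht⟩ := hwS (Subalgebra.toSubmodule A') hmem
      rw [← LinearMap.comp_apply, LinearMap.rTensor_comp_lTensor, ← LinearMap.lTensor_comp_rTensor,
        LinearMap.comp_apply, hw, ← ht, ← LinearMap.comp_apply, ← LinearMap.lTensor_comp,
        show (Subalgebra.toSubmodule A').mkQ ∘ₗ (Subalgebra.toSubmodule A').subtype = 0 from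
          LinearMap.ext fun x => (Submodule.Quotient.mk_eq_zero _).2 x.2,
        LinearMap.lTensor_zero, LinearMap.zero_apply]
    exact (lTensor_exact B (LinearMap.exact_subtype_mkQ (Subalgebra.toSubmodule A')) (Submodule.mkQ_surjective _) _).1 hzero
  have hR : ∀ b ∈ A', Coalgebra.comul (R := k) b ∈
      LinearMap.range ((Subalgebra.toSubmodule A').subtype.rTensor B) := by
    intro b hb
    obtain ⟨t, ht⟩ := hL _ (hanti b hb)
    rw [← ComodLib.antipode_antipode_apply (k := k) b, ComodLib.comul_antipode, ← ht]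
    clear ht
    induction t using TensorProduct.induction_on with
    | zero => simp
    | add x y hx hy => simp only [map_add]; exact add_mem hx hy
    | tmul x y =>
      exact ⟨(⟨HopfAlgebra.antipode k (y : B), hanti _ y.2⟩ : Subalgebra.toSubmodule A') ⊗ₜ
        HopfAlgebra.antipode k x, by simp⟩
  have hA' : SGA3.IsHopfSubalgebra k B A' :=
    ⟨fun b hb => exists_tensor_sub (Subalgebra.toSubmodule A') _ (hR b hb) (hL b hb), hanti⟩
  letI := SubHopf.hopf A' hA'
  let ι' : ↥A' →ₐc[k] B := BialgHom.ofAlgHom A'.val rfl (AlgHom.ext fun c => SubHopf.map_comulRes A' hA' c)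
  let u : Gk ⟶ sp k A' := v ≫ spMap (ι' : ↥A' →ₐ[k] B)
  haveI : IsMonHom u := inferInstanceAs (IsMonHom (v ≫ spMap (ι' : ↥A' →ₐ[k] B)))
  haveI : IsAffine (sp k A').left := isAffine_Spec _
  haveI : QuasiCompact u.left := by
    haveI : QuasiCompact (u.left ≫ (sp k A').hom) := by rw [Over.w u]; infer_instance
    haveI : IsSeparated (sp k A').hom := inferInstanceAs (IsSeparated (Spec.map _))
    exact QuasiCompact.of_comp u.left (sp k A').hom
  have hdom : u.left.ker = ⊥ := (isSchemeTheoreticallyDominant_iff _).mp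
    (SchDomFlat.isSchemeTheoreticallyDominant_of_injective _ (by
      show Function.Injective ((Spec.map (CommRingCat.ofHom A'.val.toRingHom)).appTop ≫ v.left.appTop)
      refine hv.1.comp fun x y hxy => ?_
      apply (ConcreteCategory.bijective_of_isIso (Scheme.ΓSpecIso (CommRingCat.of A')).hom).1
      apply Subtype.val_injective
      have h1 := ConcreteCategory.congr_hom (Scheme.ΓSpecIso_naturality (CommRingCat.ofHom A'.val.toRingHom))
      exact (h1 x).symm.trans ((congrArg (Scheme.ΓSpecIso (CommRingCat.of B)).hom hxy).trans (h1 y))))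
  obtain ⟨hfu, hsu, -⟩ := SchDomFlat.main u hdom
  haveI := hfu; haveI := hsu
  let q : Γ(G.left, ⊤) →+* A' := (res v hv).codRestrict A' hmem
  refine ⟨A', inferInstance, q, fun ⟨_, a, ha⟩ => ⟨a, Subtype.ext ha⟩, fun a ha => Subtype.ext ?_, fun U hU => ?_,
    fun P => ?_⟩
  · letI algs : ∀ i : s, Algebra R Γ(G.left, i.1.1) := fun i => algU (G := G) i.1.1
    refine eq_zero_of_forall_rU v hv (J := s) _ (fun i => i.1.2) hcov _ fun i => ?_
    exact (rU_res v hv i.1.2 a).trans (ha _ i.1.2)
  · letI := algU (G := G) U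
    refine ⟨((rU v hU).comp A'.val).toRingHom, ?_, fun a => rU_res v hv hU a⟩
    haveI := isOpenImmersion_chart (k := k) hU
    have h : Flat (Spec.map (CommRingCat.ofHom ((rU v hU).comp A'.val).toRingHom)) := by
      have e1 : spMap ((rU v hU).comp A'.val) = liftPt (k := k) (chart (k := k) hU) ≫ u := by
        rw [← spMap_comp, rU, spMap_coord, Category.assoc]
        rfl
      rw [show Spec.map (CommRingCat.ofHom ((rU v hU).comp A'.val).toRingHom) = _ from congrArg CommaMorphism.left e1]
      exact inferInstanceAs (Flat ((liftPt (k := k) (chart (k := k) hU)).left ≫ u.left))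
    exact (HasRingHomProperty.Spec_iff (P := @Flat)).mp h
  · obtain ⟨y, hy⟩ := u.left.surjective P
    refine ⟨pullback.fst G.hom (bcK R k) y, ?_⟩
    haveI : IsIso v.left.appTop := (ConcreteCategory.isIso_iff_bijective _).mpr hv
    have h : pullback.fst G.hom (bcK R k) ≫ G.left.toSpecΓ = u.left ≫ Spec.map (CommRingCat.ofHom q) := by
      refine ext_of_isAffine ?_
      have e2 : u.left ≫ Spec.map (CommRingCat.ofHom q) = v.left ≫ Spec.map (CommRingCat.ofHom (res v hv)) := by
        show (v.left ≫ Spec.map (CommRingCat.ofHom A'.val.toRingHom)) ≫ _ = _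
        rw [Category.assoc, ← Spec.map_comp]
        rfl
      rw [e2, Scheme.Hom.comp_appTop, Scheme.Hom.comp_appTop, Scheme.toSpecΓ_appTop,
        show CommRingCat.ofHom (res v hv) = (pullback.fst G.hom (bcK R k)).appTop ≫ inv v.left.appTop ≫
          (Scheme.ΓSpecIso (CommRingCat.of B)).hom from rfl,
        ← cancel_mono (inv v.left.appTop), ← cancel_mono (Scheme.ΓSpecIso (CommRingCat.of B)).hom]
      simp only [Category.assoc, IsIso.hom_inv_id_assoc]
      exact (Scheme.ΓSpecIso_naturality _).symm
    rw [← Scheme.Hom.comp_apply, h, Scheme.Hom.comp_apply]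
    exact congrArg (Spec.map (CommRingCat.ofHom q)).base hy

end Groth.Agent.ParLib.Special
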